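import Cfsg.Agent.H1.Coprime2
import Cfsg.Prelude.Def_Sporadic

/-! A centralizer of an element of order three with simple central quotient. -/

set_option autoImplicit false

open Subgroup

namespace H2.P2

variable {G : Type*} [Group G] [Finite G]

theorem fgen {K H : Subgroup G} (o : Odd (Nat.card K)) {a b : G} (aa : a * a = 1) (bb : b * b = 1) (c : a * b = b * a)
    (a1 : a ≠ 1) (b1 : b ≠ 1) (n : a ≠ b) (p : a ∈ normalizer (K : Set G)) (q : b ∈ normalizer (K : Set G))
    (h : ∀ y ∈ [a, b, a * b], K ⊓ centralizer {y} ≤ H) : K ≤ H := by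
  let F : Subgroup G :=
    { carrier := {y | y = 1 ∨ y = a ∨ y = b ∨ y = a * b}
      one_mem' := .inl rfl
      mul_mem' := by
        have e1 : a * (a * b) = b := by rw [← mul_assoc, aa, one_mul]
        have e2 : b * (a * b) = a := by rw [c, ← mul_assoc, bb, one_mul]
        have e3 : a * b * a = b := by rw [c, mul_assoc, aa, mul_one]
        have e4 : a * b * b = a := by rw [mul_assoc, bb, mul_one]
        have e5 : a * b * (a * b) = 1 := by rw [← mul_assoc, e3, bb]
        rintro _ _ (rfl | rfl | rfl | rfl) (rfl | rfl | rfl | rfl) <;> simp [aa, bb, ← c, e1, e2, e3, e4, e5]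
      inv_mem' := by
        rintro _ (rfl | rfl | rfl | rfl) <;>
          simp [inv_eq_of_mul_eq_one_right aa, inv_eq_of_mul_eq_one_right bb, c] }
  have sq : ∀ y ∈ F, y * y = 1 := by
    rintro _ (rfl | rfl | rfl | rfl)
    exacts [mul_one 1, aa, bb, by rw [mul_assoc, ← mul_assoc b, ← c, mul_assoc, bb, mul_one, aa]]
  have : IsMulCommutative F := ⟨⟨fun x y => Subtype.ext (by
    have := inv_eq_of_mul_eq_one_right (sq _ (x * y).2)
    rwa [coe_mul, mul_inv_rev, inv_eq_of_mul_eq_one_right (sq _ x.2), inv_eq_of_mul_eq_one_right (sq _ y.2), eq_comm] at this)⟩⟩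
  have pg : IsPGroup 2 F := fun y => ⟨1, Subtype.ext ((pow_two y.1).trans (sq _ y.2))⟩
  obtain ⟨k, e⟩ := IsPGroup.iff_card.1 pg
  refine H1.le_of_forall_centralizer_le (A := F) (fun ⟨g, u⟩ => ?_) (by
    rintro _ (rfl | rfl | rfl | rfl)
    exacts [one_mem _, p, q, mul_mem p q]) (e ▸ (Nat.coprime_two_left.2 o).pow_left _) (by
    rintro _ (rfl | rfl | rfl | rfl) d
    exacts [absurd rfl d, h _ (by simp), h _ (by simp), h _ (by simp)])
  have v : ∀ y : F, y.1 ≠ 1 → y = g := fun y d => by
    by_cases w : g = 1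
    · obtain ⟨m, rfl⟩ := u y; exact absurd (by simp [w]) d
    · obtain ⟨m, rfl⟩ := u y
      have g2 : g * g = 1 := Subtype.ext (sq _ g.2)
      rcases Int.even_or_odd' m with ⟨j, rfl | rfl⟩
      · exact absurd (by simp only [zpow_mul, zpow_two, g2, one_zpow]; rfl) d
      · simp only [zpow_add, zpow_mul, zpow_two, g2, one_zpow, one_mul, zpow_one]
  exact n (congrArg Subtype.val ((v ⟨a, .inr (.inl rfl)⟩ a1).trans (v ⟨b, .inr (.inr (.inl rfl))⟩ b1).symm))

theorem p2 {G : Type*} [Group G] [Finite G] {t x a b : G} (ht : orderOf t = 2) (hx : orderOf x = 3)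
    (tx : Commute t x)
    (hle : Nat.card (centralizer ({x} : Set G)) ≤ 2694384000)
    (hB : Nat.card (centralizer ({t} : Set G) ⊓ centralizer {x} : Subgroup G) = 120960)
    (hR : ∀ R : Subgroup G, R ≤ centralizer {t} ⊓ centralizer {x} → x ∈ R →
      (∀ g ∈ centralizer ({t} : Set G) ⊓ centralizer {x}, ∀ r ∈ R, g * r * g⁻¹ ∈ R) →
      R = zpowers x ∨ R = zpowers x ⊔ zpowers t ∨ R = centralizer {t} ⊓ centralizer {x})
    (ha : Commute a x) (hb : Commute b x) (hab : t * (a * t * a⁻¹) = b * t * b⁻¹)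
    (hM : ∀ M : Subgroup G, centralizer {t} ⊓ centralizer {x} ≤ M →
      (∀ g, Commute g x → g * t * g⁻¹ ∈ M) → 2187 ∣ Nat.card M ∧ 125 ∣ Nat.card M ∧ 11 ∣ Nat.card M) :
    Nat.card (center (centralizer ({x} : Set G))) = 3 ∧
      Cfsg.IsMcL (centralizer ({x} : Set G) ⧸ center (centralizer ({x} : Set G))) := by
  have mc : ∀ {u g : G}, g ∈ centralizer ({u} : Set G) ↔ Commute g u :=
    mem_centralizer_singleton_iff
  have tt : t * t = 1 := by rw [← pow_two, ← ht, pow_orderOf_eq_one]
  have t1 : t ≠ 1 := fun e => by simp [e] at ht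
  have cc : ∀ {g u : G}, Commute g x → Commute u x → Commute (g * u * g⁻¹) x :=
    fun h1 h2 => (h1.mul_left h2).mul_left h1.inv_left
  have big : ∀ M : Subgroup G, centralizer {t} ⊓ centralizer {x} ≤ M →
      (∀ g, Commute g x → g * t * g⁻¹ ∈ M) → 2694384000 ≤ Nat.card M := fun M h1 h2 => by
    obtain ⟨d1, d2, d3⟩ := hM M h1 h2
    have d4 := card_dvd_of_le h1
    rw [hB] at d4
    have d5 : 896 ∣ Nat.card M := Dvd.dvd.trans (by norm_num) d4
    refine Nat.le_of_dvd Nat.card_pos ?_
    rw [show 2694384000 = 2187 * 125 * 11 * 896 by norm_num]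
    exact Nat.Coprime.mul_dvd_of_dvd_of_dvd (by norm_num) (Nat.Coprime.mul_dvd_of_dvd_of_dvd
      (by norm_num) (Nat.Coprime.mul_dvd_of_dvd_of_dvd (by norm_num) d1 d2) d3) d5
  have hC : Nat.card (centralizer ({x} : Set G)) = 2694384000 :=
    hle.antisymm (big _ inf_le_right fun g hg => mc.2 (cc hg tx))
  set s := a * t * a⁻¹ with hs
  have ss : s * s = 1 := by rw [hs, conj_mul, tt]; simp
  have s1 : s ≠ 1 := fun e => t1 (by simpa [hs] using e)
  have ts : t * s = s * t := by
    have h1 : (t * s) * (t * s) = 1 := by rw [hab, conj_mul, tt]; simp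
    rw [← inv_eq_of_mul_eq_one_right h1, mul_inv_rev, inv_eq_of_mul_eq_one_right ss,
      inv_eq_of_mul_eq_one_right tt]
  have nts : t ≠ s := fun e => t1 (by
    have : b * t * b⁻¹ = 1 := by rw [← hab, ← e, tt]
    simpa using this)
  have sx : Commute s x := cc ha tx
  have sn : s ∉ zpowers x ⊔ zpowers t := by
    have h1 : zpowers x ⊔ zpowers t ≤ zpowers (t * x) := by
      have x3 : x ^ 3 = 1 := by rw [← hx, pow_orderOf_eq_one]
      have t2 : t ^ 2 = 1 := by rw [pow_two, tt]
      refine sup_le (zpowers_le.2 ⟨(4 : ℕ), ?_⟩) (zpowers_le.2 ⟨(3 : ℕ), ?_⟩)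
      · simp only [zpow_natCast, tx.mul_pow]
        rw [show 4 = 2 * 2 from rfl, pow_mul t, t2, one_pow, one_mul, show 2 * 2 = 3 + 1 from rfl,
          pow_succ, x3, one_mul]
      · simp only [zpow_natCast, tx.mul_pow]
        rw [x3, mul_one, pow_succ, t2, one_mul]
    intro h2
    obtain ⟨k, hk⟩ := h1 h2
    simp only [tx.mul_zpow] at hk
    have h3 : x ^ (k * 2) = 1 := by
      have h4 : t ^ k * t ^ k = 1 := by rw [← (Commute.refl t).mul_zpow, tt, one_zpow]
      have h5 := ss
      rw [← hk, mul_assoc, ← mul_assoc (x ^ k), ← (tx.zpow_zpow k k).eq, mul_assoc, ← mul_assoc,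
        h4, one_mul] at h5
      rw [zpow_mul, zpow_two, h5]
    rw [← orderOf_dvd_iff_zpow_eq_one, hx] at h3
    have h4 : x ^ k = 1 := by rw [← orderOf_dvd_iff_zpow_eq_one, hx]; push_cast at h3 ⊢; omega
    rw [h4, mul_one] at hk
    rcases Int.even_or_odd' k with ⟨j, rfl | rfl⟩
    · rw [zpow_mul, zpow_two, tt, one_zpow] at hk; exact s1 hk.symm
    · rw [zpow_add, zpow_mul, zpow_two, tt, one_zpow, one_mul, zpow_one] at hk; exact nts hk
  have key : ∀ M : Subgroup G, M ≤ centralizer {x} → x ∈ M →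
      (∀ g, Commute g x → ∀ m ∈ M, g * m * g⁻¹ ∈ M) → M = zpowers x ∨ M = centralizer {x} := by
    intro M hMC hxM hn
    have h1 := hR (M ⊓ (centralizer {t} ⊓ centralizer {x})) inf_le_right
      ⟨hxM, mc.2 tx.symm, mc.2 (Commute.refl x)⟩ fun g hg r hr =>
        ⟨hn g (mc.1 hg.2) r hr.1, Subgroup.mul_mem _ (Subgroup.mul_mem _ hg hr.2) (Subgroup.inv_mem _ hg)⟩
    have tB : t ∈ centralizer ({t} : Set G) ⊓ centralizer {x} := ⟨mc.2 (Commute.refl t), mc.2 tx⟩
    by_cases htM : t ∈ M
    · right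
      have sR : s ∈ M ⊓ (centralizer {t} ⊓ centralizer {x}) :=
        ⟨hn a ha t htM, mc.2 ts.symm, mc.2 sx⟩
      rcases h1 with e | e | e
      · exact absurd (le_sup_left (a := zpowers x) (b := zpowers t) (e ▸ sR)) sn
      · exact absurd (e ▸ sR) sn
      · exact eq_of_le_of_card_ge hMC (hC ▸ big M (e ▸ inf_le_left) fun g hg => hn g hg t htM)
    left
    have e : M ⊓ (centralizer {t} ⊓ centralizer {x}) = zpowers x := by
      rcases h1 with e | e | e
      · exact e
      · exact absurd (e.ge (mem_sup_right (mem_zpowers t))).1 htM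
      · exact absurd (e.ge tB).1 htM
    have ho : Odd (Nat.card M) := by
      have h2 := card_mul_index ((centralizer {t} ⊓ centralizer {x} : Subgroup G).subgroupOf M)
      set B : Subgroup G := centralizer {t} ⊓ centralizer {x}
      set C : Subgroup G := centralizer {x}
      haveI : (M.subgroupOf C).Normal := ⟨fun m hm g => hn g (mc.1 g.2) m hm⟩
      have h3 : M.relIndex B ∣ M.relIndex C := by
        have := relIndex_dvd_index_of_normal (M.subgroupOf C) (B.subgroupOf C)
        rwa [relIndex_subgroupOf (inf_le_right : B ≤ C)] at this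
      have h4 := card_mul_index (M.subgroupOf B)
      have h5 := card_mul_index (M.subgroupOf C)
      rw [Nat.card_congr (subgroupOfEquivOfLe hMC).toEquiv, hC] at h5
      rw [← inf_subgroupOf_right, Nat.card_congr (subgroupOfEquivOfLe inf_le_right).toEquiv, e,
        Nat.card_zpowers, hx, hB, ← e, inf_subgroupOf_right] at h4
      change _ * M.relIndex B = _ at h4
      change _ * M.relIndex C = _ at h5
      obtain ⟨c, hc⟩ := h3
      rw [hc, show M.relIndex B = 40320 by omega] at h5
      have h6 : Nat.card M * c = 66825 := by nlinarith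
      exact (Nat.odd_mul.1 (show Odd (Nat.card M * c) by rw [h6]; decide)).1
    have nm : ∀ g, Commute g x → g ∈ normalizer (M : Set G) := fun g hg =>
      mem_normalizer_iff.2 fun m => ⟨hn g hg m, fun h => by
        simpa [mul_assoc] using hn _ hg.inv_left _ h⟩
    have cj : ∀ g, Commute g x → M ⊓ centralizer {g * t * g⁻¹} ≤ zpowers x := by
      rintro g hg m ⟨h2, h3⟩
      have h4 : g⁻¹ * m * g⁻¹⁻¹ ∈ zpowers x := e.le ⟨hn _ hg.inv_left m h2, mc.2 (by
        have := (mc.1 h3).eq
        change _ = _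
        calc g⁻¹ * m * g⁻¹⁻¹ * t = g⁻¹ * (m * (g * t * g⁻¹)) * g := by group
          _ = _ := by rw [this]; group), mc.2 (cc hg.inv_left (mc.1 (hMC h2)))⟩
      obtain ⟨k, hk⟩ := h4
      refine ⟨k, ?_⟩
      have := (hg.zpow_right k).eq
      simp only at hk ⊢
      calc x ^ k = g * x ^ k * g⁻¹ := by rw [this]; group
        _ = m := by rw [hk]; group
    refine le_antisymm (fgen ho tt ss ts t1 s1 nts (nm t tx) (nm s sx) ?_) (zpowers_le.2 hxM)
    simp only [List.mem_cons, List.not_mem_nil, or_false]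
    rintro _ (rfl | rfl | rfl)
    · simpa using cj 1 (Commute.one_left x)
    · exact cj a ha
    · rw [hab]; exact cj b hb
  set C : Subgroup G := centralizer {x}
  have xC : x ∈ C := mc.2 (Commute.refl x)
  have xZ : (⟨x, xC⟩ : C) ∈ center C := mem_center_iff.2 fun g => Subtype.ext (mc.1 g.2).eq
  have key' : ∀ N : Subgroup C, N.Normal → center C ≤ N → N.map C.subtype = zpowers x ∨ N = ⊤ := by
    intro N hN hZ
    refine (key (N.map C.subtype) (map_subtype_le N) ⟨_, hZ xZ, rfl⟩ ?_).imp_right fun e => ?_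
    · rintro g hg _ ⟨m, hm, rfl⟩
      exact ⟨_, hN.conj_mem m hm ⟨g, mc.2 hg⟩, rfl⟩
    · apply map_injective C.subtype_injective
      rw [e, ← MonoidHom.range_eq_map, range_subtype]
  have hZ : Nat.card (center C) = 3 := by
    rcases key' _ inferInstance le_rfl with e | e
    · rw [← card_map_of_injective C.subtype_injective, e, Nat.card_zpowers, hx]
    · exfalso
      have h1 : C ≤ centralizer {t} ⊓ C := fun g hg => ⟨mem_centralizer_singleton_iff.2
        (congrArg Subtype.val (mem_center_iff.1 (e.ge (mem_top (⟨t, mc.2 tx⟩ : C))) ⟨g, hg⟩)), hg⟩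
      have := card_le_of_le h1
      omega
  have hQ : Nat.card (C ⧸ center C) = 898128000 := by
    have := card_eq_card_quotient_mul_card_subgroup (center C)
    rw [hZ, hC] at this
    omega
  refine ⟨hZ, ?_, hQ⟩
  haveI : Nontrivial (C ⧸ center C) := Finite.one_lt_card_iff_nontrivial.1 (by omega)
  refine ⟨fun N hN => ?_⟩
  have h1 : center C ≤ N.comap (QuotientGroup.mk' _) := fun g hg => by
    rw [mem_comap, (QuotientGroup.mk'_apply _ g), (QuotientGroup.eq_one_iff g).2 hg]
    exact one_mem _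
  have h2 := map_comap_eq_self_of_surjective (QuotientGroup.mk'_surjective (center C)) N
  rcases key' _ (hN.comap _) h1 with e | e
  · left
    have h3 : N.comap (QuotientGroup.mk' _) = center C := (eq_of_le_of_card_ge h1 (by
      rw [← card_map_of_injective C.subtype_injective, e, Nat.card_zpowers, hx, hZ])).symm
    rw [← h2, h3, Subgroup.map_eq_bot_iff, QuotientGroup.ker_mk']
  · right
    rw [← h2, e, map_top_of_surjective _ (QuotientGroup.mk'_surjective _)]

end H2.P2
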