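import Cfsg.Agent.H2.Br4

/-!
The Brauer-Tuan theorem on simple groups of order `p q ^ b g` with `g < p - 1`.
-/

set_option autoImplicit false
set_option linter.unusedSectionVars false

open scoped ComplexConjugate
open Cfsg H17 H19 Subgroup MulAction
open H20 (cent nrm)

namespace H2

variable {G : Type*} [Group G] [Finite G] {p : ℕ} [hp : Fact p.Prime]
  {O : ValuationSubring ℂ} [CharP (kk O) p]

theorem ch_inner_of_vanish [Fintype G] {f ψ : G → ℂ} {c : ℤ} (hf : ∀ g, ¬ p ∣ orderOf g → f g = 0)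
    (hψ : ∀ g, p ∣ orderOf g → ψ g = c) : classInner f ψ = c * classInner f fun _ => 1 := by
  rw [classInner_def, classInner_one_right, mul_left_comm, Finset.mul_sum _ _ (c : ℂ)]
  congr 1
  refine Finset.sum_congr rfl fun g _ => ?_
  by_cases hg : p ∣ orderOf g
  · rw [hψ g hg, map_intCast, mul_comm]
  · simp [hf g hg]

theorem ch_deg_of_coeff {Φ : G → ℂ} {c : IrrCharacter G → ℕ}
    (hc : Φ = ∑ χ : IrrCharacter G, (c χ : ℂ) • (χ : G → ℂ)) {d : ℕ} (hd : Φ 1 = d) :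
    d = ∑ χ, c χ * dg χ := by
  have := congrFun hc 1
  simp only [Finset.sum_apply, Pi.smul_apply, smul_eq_mul, ← cast_deg, hd] at this
  exact_mod_cast this

namespace D1

variable {P : Sylow p G} {e : ℕ} {X Y : Finset (IrrCharacter G)} {s : IrrCharacter G → ℤ} {ε : ℤ}
  (h : D1 p O (P : Subgroup G) e X Y s ε)
include h

theorem prod_bound {θ : IrrCharacter G} (hθ : θ ∈ Y) (ht : Y.card ≠ 1) :
    ∑ χ ∈ X with s χ = -1, dg χ + (if ε = 1 then dg θ else 0) ≤ dg θ ^ 2 := by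
  classical
  haveI := Fintype.ofFinite G
  obtain ⟨θ', hθ', hne⟩ := Finset.exists_mem_ne
    (show 1 < Y.card by have := h.Y_nonempty.card_pos; omega) θ
  obtain ⟨c, hc1, -⟩ := (θ.2.isCharacter.mul θ.2.isCharacter.conj).exists_coeff
  obtain ⟨c', hc1', hc2'⟩ := (θ.2.isCharacter.mul θ'.2.isCharacter.conj).exists_coeff
  set f := (θ : G → ℂ) * (fun g => conj ((θ : G → ℂ) g)) -
    (θ : G → ℂ) * fun g => conj ((θ' : G → ℂ) g) with hf
  have h0 : ∀ g, ¬ p ∣ orderOf g → f g = 0 := fun g hg => by simp [hf, h.regY hθ' hθ hg]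
  have h1 : classInner f (fun _ => 1) = 1 := by
    rw [hf, classInner_sub_left, classInner_mul_left, classInner_mul_left]
    simp [irr_inner, hne.symm]
  have h2 : ∀ χ ∈ X, (c χ : ℤ) - c' χ = s χ := fun χ hχ => by
    have := ch_inner_of_vanish h0 (h.valX χ hχ)
    rw [h1, hf, classInner_sub_left, hc1, hc1', mul_one] at this
    exact_mod_cast this
  have h3 : ∑ χ ∈ Y, (c χ : ℤ) - ∑ χ ∈ Y, c' χ = -ε := by
    have := ch_inner_of_vanish (ψ := ∑ χ ∈ Y, (χ : G → ℂ)) (c := -ε) h0 fun g hg => by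
      rw [Finset.sum_apply, h.sumY hg]; simp
    rw [h1, hf, classInner_sub_left, classInner_sum_right, classInner_sum_right, mul_one] at this
    simp only [hc1, hc1'] at this
    exact_mod_cast this
  rw [ch_deg_of_coeff hc2' (d := dg θ ^ 2) (by simp [← cast_deg, h.degY_eq hθ' hθ, sq]), h.sum_all]
  have h4 : ∑ χ ∈ X with s χ = -1, dg χ ≤ ∑ χ ∈ X, c' χ * dg χ := by
    rw [Finset.sum_filter]
    refine Finset.sum_le_sum fun χ hχ => ?_
    split_ifs with h5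
    · have := h2 χ hχ
      exact Nat.le_mul_of_pos_left _ (by omega)
    · exact Nat.zero_le _
  have h5 : (if ε = 1 then dg θ else 0) ≤ ∑ χ ∈ Y, c' χ * dg χ := by
    split_ifs with h6
    · rw [Finset.sum_congr rfl fun χ hχ => by rw [h.degY_eq hχ hθ], ← Finset.sum_mul]
      have : (0 : ℤ) ≤ ∑ χ ∈ Y, (c χ : ℤ) := by positivity
      exact Nat.le_mul_of_pos_left _ (by omega)
    · exact Nat.zero_le _
  omega

theorem split (hG : commutator G = ⊤) {θ : IrrCharacter G} (hθ : θ ∈ Y) :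
    ∃ u : IrrCharacter G → ℕ, (∀ χ ∈ X, 1 ≤ u χ ∧
      ((s χ = 1 ∧ dg χ = 1 + u χ * p) ∨ (s χ = -1 ∧ dg χ + 1 = u χ * p))) ∧
      (X.filter (s · = 1)).card + (X.filter (s · = -1)).card + 1 = e ∧
      ∑ χ ∈ X with s χ = -1, dg χ + (X.filter (s · = -1)).card = (∑ χ ∈ X with s χ = -1, u χ) * p ∧
      (ε * dg θ : ℤ) = e + (∑ χ ∈ X with s χ = 1, u χ - ∑ χ ∈ X with s χ = -1, u χ : ℤ) * p ∧
      (ε * dg θ : ℤ) = 1 + ∑ χ ∈ X with s χ = 1, dg χ - ∑ χ ∈ X with s χ = -1, dg χ := by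
  classical
  have h1 : ∀ χ, ∃ u : ℕ, χ ∈ X → 1 ≤ u ∧
      ((s χ = 1 ∧ dg χ = 1 + u * p) ∨ (s χ = -1 ∧ dg χ + 1 = u * p)) := by
    intro χ
    by_cases hχ : χ ∈ X
    swap
    · exact ⟨0, fun h => absurd h hχ⟩
    obtain ⟨m, hm⟩ := h.degX hχ
    have h2 := dg_pos χ
    have h3 : dg χ ≠ 1 := ch_deg_ne_one hG (h.X_ne hχ)
    rcases h.sgn χ hχ with h4 | h4 <;> rw [h4] at hm
    · have h5 : dg χ + p = 1 + p * m := by
        have : (dg χ : ℤ) + p = 1 + p * m := by linarith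
        exact_mod_cast this
      rcases m with _ | _ | m
      · have := h.three_le; omega
      · omega
      · exact ⟨m + 1, fun _ => ⟨by omega, Or.inl ⟨h4, by linarith⟩⟩⟩
    · refine ⟨m + 1, fun _ => ⟨by omega, Or.inr ⟨h4, ?_⟩⟩⟩
      have : (dg χ : ℤ) + 1 = (m + 1) * p := by linarith
      exact_mod_cast this
  choose u hu using h1
  have hs : ∀ {M : Type} [AddCommMonoid M] (F : IrrCharacter G → M), ∑ χ ∈ X, F χ =
      ∑ χ ∈ X with s χ = 1, F χ + ∑ χ ∈ X with s χ = -1, F χ := fun F => by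
    rw [← Finset.sum_filter_add_sum_filter_not X (s · = 1)]
    congr 2
    exact Finset.filter_congr fun χ hχ => by have := h.sgn χ hχ; omega
  have h2 : (X.filter (s · = 1)).card + (X.filter (s · = -1)).card + 1 = e := by
    have := hs fun _ => 1
    simp only [← Finset.card_eq_sum_ones] at this
    rw [← this, h.cardX]
  have h3 : ∑ χ ∈ X with s χ = -1, dg χ + (X.filter (s · = -1)).card =
      (∑ χ ∈ X with s χ = -1, u χ) * p := by
    rw [Finset.card_eq_sum_ones, ← Finset.sum_add_distrib, Finset.sum_mul]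
    refine Finset.sum_congr rfl fun χ hχ => ?_
    obtain ⟨h4, h5⟩ := Finset.mem_filter.1 hχ
    exact ((hu χ h4).2.resolve_left (by omega)).2
  have h4 : ∑ χ ∈ X with s χ = 1, dg χ =
      (X.filter (s · = 1)).card + (∑ χ ∈ X with s χ = 1, u χ) * p := by
    rw [Finset.card_eq_sum_ones, Finset.sum_mul, ← Finset.sum_add_distrib]
    refine Finset.sum_congr rfl fun χ hχ => ?_
    obtain ⟨h4, h5⟩ := Finset.mem_filter.1 hχ
    exact ((hu χ h4).2.resolve_right (by omega)).2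
  have h5 : (ε * dg θ : ℤ) = 1 + ∑ χ ∈ X with s χ = 1, dg χ - ∑ χ ∈ X with s χ = -1, dg χ := by
    rw [h.eqn_deg hθ, hs, Finset.sum_congr rfl (g := fun χ => (dg χ : ℤ)) fun χ hχ => by
      rw [(Finset.mem_filter.1 hχ).2, one_mul], Finset.sum_congr rfl (s₁ := X.filter (s · = -1))
      (g := fun χ => -(dg χ : ℤ)) fun χ hχ => by rw [(Finset.mem_filter.1 hχ).2, neg_one_mul],
      Finset.sum_neg_distrib]
    push_cast; ring
  refine ⟨u, hu, h2, h3, ?_, h5⟩
  rw [h5, h4, ← h2]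
  zify at h3
  push_cast at h3 ⊢
  linear_combination -h3

theorem bt_bound {θ : IrrCharacter G} (hθ : θ ∈ Y) {q : ℕ} [Fact q.Prime]
    {O' : ValuationSubring ℂ} [CharP (kk O') q] [DecidablePred (· ∈ irr (B0 O' G))] {k : ℕ}
    (hk : q ^ k ∣ (cent (P : Subgroup G)).index) (hk0 : k ≠ 0) (hq : ∀ χ ∈ X, q ∣ dg χ)
    (hτ : (Y.filter (· ∈ irr (B0 O' G))).card = 0 ∨ (Y.filter (· ∈ irr (B0 O' G))).card = Y.card)
    {χ : IrrCharacter G} (hχ : χ ∈ X) (hχ' : χ ∉ irr (B0 O' G)) :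
    q ^ k ≤ max (∑ χ ∈ X with s χ = 1, dg χ) (∑ χ ∈ X with s χ = -1, dg χ) := by
  classical
  rcases hτ with h1 | h1
  · have := h.bt_zero _ hk (Finset.filter_eq_empty_iff.1 (Finset.card_eq_zero.1 h1))
    rw [if_pos triv_mem_B0] at this
    have h2 := (dvd_add_left (Finset.dvd_sum fun χ hχ => Dvd.dvd.mul_left (Int.natCast_dvd_natCast.2
      (hq χ (Finset.mem_filter.1 hχ).1)) _)).1 ((dvd_pow_self _ hk0).trans this)
    exact absurd (Int.natCast_dvd_ofNat.1 h2) (Fact.out : q.Prime).not_dvd_one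
  have h2 := h.bt_all _ hk hθ (Finset.card_filter_eq_iff.1 h1)
  rw [if_pos triv_mem_B0, h.eqn_deg hθ,
    ← Finset.sum_filter_add_sum_filter_not X (· ∈ irr (B0 O' G)), ← add_assoc,
    sub_add_cancel_left, dvd_neg] at h2
  set Z := X.filter (· ∉ irr (B0 O' G)) with hZ
  have h3 : ∑ χ ∈ Z, s χ * dg χ ≠ 0 := by
    intro h4
    choose! m hm using fun χ (hχ : χ ∈ X) => h.eqX hχ
    rw [Finset.sum_congr rfl fun χ hχ => hm χ (Finset.mem_filter.1 hχ).1, Finset.sum_add_distrib,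
      ← Finset.mul_sum, Finset.sum_const, nsmul_eq_mul, mul_one] at h4
    have h5 : p ∣ Z.card := Int.natCast_dvd_natCast.1 ⟨-∑ χ ∈ Z, m χ, by linarith⟩
    have h6 : p ≤ Z.card :=
      Nat.le_of_dvd (Finset.card_pos.2 ⟨χ, Finset.mem_filter.2 ⟨hχ, hχ'⟩⟩) h5
    have h7 : Z.card ≤ X.card := Finset.card_filter_le _ _
    have := h.cardX
    have := h.e_lt
    omega
  have h4 := Int.le_of_dvd (abs_pos.2 h3) ((dvd_abs _ _).2 h2)
  have h5 : ∑ χ ∈ Z, s χ * dg χ ≤ (∑ χ ∈ X with s χ = 1, dg χ : ℕ) := by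
    rw [hZ, Nat.cast_sum, Finset.sum_filter, Finset.sum_filter]
    refine Finset.sum_le_sum fun χ hχ => ?_
    rcases h.sgn χ hχ with h5 | h5 <;> rw [h5] <;> split_ifs <;> omega
  have h6 : -∑ χ ∈ Z, s χ * dg χ ≤ (∑ χ ∈ X with s χ = -1, dg χ : ℕ) := by
    rw [hZ, Nat.cast_sum, Finset.sum_filter, Finset.sum_filter, ← Finset.sum_neg_distrib]
    refine Finset.sum_le_sum fun χ hχ => ?_
    rcases h.sgn χ hχ with h5 | h5 <;> rw [h5] <;> split_ifs <;> omega
  have h7 : ((q ^ k : ℕ) : ℤ) ≤ |∑ χ ∈ Z, s χ * dg χ| := by exact_mod_cast h4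
  rcases abs_cases (∑ χ ∈ Z, s χ * dg χ) with h8 | h8 <;> omega

end D1

theorem bt_num {e a b U S : ℕ} (he : 4 ≤ e) (h1 : a + b + 1 = e) (h2 : a ≤ U) (h3 : b * 3 ≤ U + 1)
    (h4 : S + b = (U + 1) * (2 * e + 1)) (h5 : S + 0 ≤ (e + 1) ^ 2) : False := by
  nlinarith [Nat.mul_le_mul_right (6 * e + 2) (show 3 * e ≤ 4 * (U + 1) by omega),
    Nat.mul_le_mul_right e he]

theorem bt_num2 {e n k : ℕ} (he : 4 ≤ e) (h1 : 1 + n * (2 * e + 1) = k * (e + 1))
    (h2 : e * k ≤ (e + 1) ^ 2) : 2 * n < 2 * e + 1 + 3 := by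
  have h3 : k ≤ e + 2 := by
    by_contra h4
    nlinarith [Nat.mul_le_mul_left e (show e + 3 ≤ k by omega)]
  by_contra h4
  nlinarith [Nat.mul_le_mul_right (2 * e + 1) (show e + 2 ≤ n by omega),
    Nat.mul_le_mul_right (e + 1) h3]

theorem bt_num3 {e t p b U S : ℕ} (he : 0 < e) (h1 : t * e + 1 = p) (h2 : S + b = U * p)
    (h3 : b ≤ U) (h4 : S + e ≤ e ^ 2) : U * t + 1 ≤ e :=
  Nat.le_of_mul_le_mul_right (by subst h1; nlinarith) he

theorem bt_num4 {e n p : ℕ} (h1 : n * p < e ^ 2) (h2 : 2 * e + 1 = p) : 2 * n < p + 3 := by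
  by_contra h3
  nlinarith [Nat.mul_le_mul (show e ≤ n by omega) (show e ≤ p by omega)]

theorem bt_main [IsSimpleGroup G] (hG : ¬ IsMulCommutative G) {q b g : ℕ} (hq : q.Prime)
    (hpq : p ≠ q) (hc : Nat.card G = p * q ^ b * g) (hg : g < p - 1) :
    BrConc G p ∧ ∃ m, p = 2 ^ m + 1 ∨ p + 1 = 2 ^ m := by
  classical
  have hg0 : 0 < g := Nat.pos_of_ne_zero (by rintro rfl; simp at hc; exact Nat.card_pos.ne' hc)
  obtain ⟨P⟩ : Nonempty (Sylow p G) := inferInstance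
  have hm : ¬ p ∣ q ^ b * g := fun h => (hp.out.dvd_mul.1 h).elim
    (fun h => hpq ((Nat.prime_dvd_prime_iff_eq hp.out hq).1 (hp.out.dvd_of_dvd_pow h)))
    fun h => by have := Nat.le_of_dvd hg0 h; omega
  have hc' : Nat.card G = p ^ 1 * (q ^ b * g) := by rw [hc]; ring
  have hP : Nat.card (P : Subgroup G) = p := (sm_card_sylow_eq P hc' hm).trans (pow_one p)
  have hpG : p ∣ Nat.card G := ⟨_, hc.trans (mul_assoc _ _ _)⟩
  have hperf := sm_commutator_eq_top hG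
  have hO : ∀ N : Subgroup G, N.Normal → ¬ p ∣ Nat.card N → N = ⊥ := fun N hN h =>
    hN.eq_bot_or_eq_top.resolve_right (by rintro rfl; exact h (by simpa using hpG))
  obtain ⟨n, hn⟩ := exists_card_sylow p G
  have hn0 : n ≠ 0 := by rintro rfl; exact sm_card_sylow_ne_one hG hpG (by simpa using hn)
  suffices H : 2 * n < p + 3 ∧ ∃ m, p = 2 ^ m + 1 ∨ p + 1 = 2 ^ m from
    ⟨br_main hperf hO P hP hn fun h => absurd (br_rep_le h) (by omega), H.2⟩
  have he1 := br_e_ne_one hperf P hP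
  obtain ⟨O, _, hOv⟩ := exists_ovp p
  obtain ⟨X, Y, s, ε, h⟩ := d1_exists hOv (by omega) P hP
  generalize (cent (P : Subgroup G)).relIndex (nrm (P : Subgroup G)) = e at h he1
  obtain ⟨θ, hθ⟩ := h.Y_nonempty
  obtain ⟨u, hu, hab, hB, hUV, hsum⟩ := h.split hperf hθ
  have hPi := sm_index_sylow_eq P hc' hm
  have hi : (cent (P : Subgroup G)).index ∣ q ^ b * g := hPi ▸ index_dvd_of_le (sm_le_cent hP)
  have hco : ∀ d, d ∣ q ^ b * g → ¬ q ∣ d → d ∣ g := fun d h1 h2 =>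
    ((hq.coprime_iff_not_dvd.2 h2).symm.pow_right b).dvd_of_dvd_mul_left h1
  have hge : ∀ χ ∈ X, p ≤ dg χ + 1 := fun χ hχ => by
    have := Nat.le_mul_of_pos_left p (hu χ hχ).1
    rcases (hu χ hχ).2 with h1 | h1 <;> omega
  have hXq : ∀ χ ∈ X, q ∣ dg χ := fun χ hχ => by
    by_contra h1
    have := Nat.le_of_dvd hg0 (hco _ ((h.dvdX hχ).trans hi) h1)
    have := hge χ hχ
    omega
  have hdiv : ∀ d : ℕ, (∀ χ ∈ X, d ∣ dg χ) → (d : ℤ) ∣ ε * dg θ - 1 := fun d hd => by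
    rw [h.eqn_deg hθ, add_sub_cancel_left]
    exact Finset.dvd_sum fun χ hχ => Dvd.dvd.mul_left (Int.natCast_dvd_natCast.2 (hd χ hχ)) _
  have hθq : ¬ q ∣ dg θ := fun h1 => hq.not_dvd_one (Int.natCast_dvd_ofNat.1
    ((dvd_sub_right (Dvd.dvd.mul_left (Int.natCast_dvd_natCast.2 h1) _)).1 (hdiv q hXq)))
  have hθg := hco _ ((h.dvdY hθ).trans hi) hθq
  have hθlt := Nat.le_of_dvd hg0 hθg
  have hθ0 := dg_pos θ
  have hθ1 : dg θ ≠ 1 := ch_deg_ne_one hperf (h.Y_ne hθ)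
  have hC := h.cent_le_of_small hperf (h.Y_mem hθ) (by omega)
    (h.faithful hperf hO (h.Y_mem hθ) (h.Y_ne hθ))
  have hi1 : (cent (P : Subgroup G)).index = q ^ b * g :=
    (congrArg index (le_antisymm hC (sm_le_cent hP))).trans hPi
  have hi2 : (1 + n * p) * e = q ^ b * g := by rw [← hi1, ← hn, ← h.he]; exact (sm_index_cent P).symm
  have ht := h.cardY
  have he0 := h.e_pos
  have hep := h.e_lt
  have hpo := hp.out.eq_two_or_odd.resolve_left h.odd
  have hnp : p ≤ n * p := Nat.le_mul_of_pos_left _ (by omega)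
  have hθe : (ε = 1 ∧ dg θ = e) ∨ (ε = -1 ∧ dg θ + e = p) := by
    obtain ⟨m, hm⟩ := h.degY hθ
    rcases h.eps with h1 | h1 <;> rw [h1] at hm
    · have h2 : dg θ = e + p * m := by zify; linarith
      rcases m with _ | m
      · exact Or.inl ⟨h1, h2⟩
      · rw [mul_add] at h2; omega
    · have h2 : dg θ + e = p * m := by zify; linarith
      rcases m with _ | _ | m
      · omega
      · exact Or.inr ⟨h1, by omega⟩
      · rw [mul_add, mul_add] at h2; omega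
  have ht1 : Y.card ≠ 1 := fun h1 => by rw [h1] at ht; omega
  have ht2 : 2 * e ≤ Y.card * e :=
    Nat.mul_le_mul_right _ (by have := h.Y_nonempty.card_pos; omega)
  have hpb := h.prod_bound hθ ht1
  obtain ⟨O', _, -⟩ := exists_ovp 2
  have hbt := fun h1 : q = 2 => h.bt_sum (B0 O' G) (k := b) (h1 ▸ hi1 ▸ dvd_mul_right _ _) hθ
  have hbb := fun (h1 : q = 2) h2 => h.bt_bound hθ (O' := O') (k := b)
    (h1 ▸ hi1 ▸ dvd_mul_right _ _) h2 (h1 ▸ hXq)
  have hnb : ∀ χ ∈ X, dg χ ∣ 2 ^ b → χ ∉ irr (B0 O' G) := fun χ hχ h1 h2 =>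
    b0_not_pow hG h2 (h.X_ne hχ) b h1
  have hτ := Finset.card_filter_le Y (· ∈ irr (B0 O' G))
  rw [if_pos triv_mem_B0] at hbt
  generalize (Y.filter (· ∈ irr (B0 O' G))).card = τ at hbt hbb hτ
  generalize (1 + ∑ χ ∈ X with χ ∈ irr (B0 O' G), s χ * dg χ : ℤ) = T at hbt
  set A := X.filter (s · = 1)
  set B := X.filter (s · = -1)
  have hA := Finset.card_nsmul_le_sum A u 1 fun χ hχ => (hu χ (Finset.mem_filter.1 hχ).1).1
  have hB' := Finset.card_nsmul_le_sum B u 1 fun χ hχ => (hu χ (Finset.mem_filter.1 hχ).1).1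
  rw [smul_eq_mul, mul_one] at hA hB'
  have hone : ∀ Z : Finset (IrrCharacter G), Z ⊆ X → ∑ χ ∈ Z, u χ = Z.card → Z.card ≠ 0 →
      ∃ χ ∈ Z, χ ∈ X ∧ u χ = 1 := fun Z h1 h2 h3 => by
    obtain ⟨χ, hχ⟩ := Finset.card_ne_zero.1 h3
    exact ⟨χ, hχ, h1 hχ, ((Finset.sum_eq_sum_iff_of_le fun χ hχ => (hu χ (h1 hχ)).1).1
      ((Finset.card_eq_sum_ones Z).symm.trans h2.symm) χ hχ).symm⟩
  have hp0 : (p : ℤ) ≠ 0 := by omega
  generalize hU : ∑ χ ∈ A, u χ = U at *
  generalize hV : ∑ χ ∈ B, u χ = V at *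
  generalize ∑ χ ∈ A, dg χ = SA at *
  generalize ∑ χ ∈ B, dg χ = SB at *
  rcases hθe with ⟨hε, hd⟩ | ⟨hε, hd⟩
  · rw [hε, hd] at hUV hsum hbt
    rw [if_pos hε, hd] at hpb
    obtain rfl : U = V := by
      have : ((U : ℤ) - V) * p = 0 := by linarith
      have := (mul_eq_zero.1 this).resolve_right hp0
      omega
    have h1 : U * Y.card + 1 ≤ e := bt_num3 he0 ht hB hB' hpb
    have h2 : Y.card = 2 := by
      by_contra h3
      have := Nat.mul_le_mul_left U (show 3 ≤ Y.card by have := h.Y_nonempty.card_pos; omega)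
      omega
    rw [h2] at h1 ht
    obtain ⟨χ, hχ, hχX, h3⟩ := hone A (Finset.filter_subset _ _) (by omega) (by omega)
    obtain ⟨ψ, hψ, hψX, h4⟩ := hone B (Finset.filter_subset _ _) (by omega) (by omega)
    have h5 : dg χ = p + 1 := by
      have := (hu χ hχX).2; have := (Finset.mem_filter.1 hχ).2; rw [h3] at *; omega
    have h6 : dg ψ + 1 = p := by
      have := (hu ψ hψX).2; have := (Finset.mem_filter.1 hψ).2; rw [h4] at *; omega
    obtain rfl : q = 2 := (Nat.prime_dvd_prime_iff_eq hq Nat.prime_two).1 ((Nat.dvd_add_right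
      (hXq ψ hψX)).1 (by rw [show dg ψ + 2 = dg χ by omega]; exact hXq χ hχX))
    obtain rfl : g = e := by
      obtain ⟨k, rfl⟩ := hd ▸ hθg
      rcases k with _ | _ | k
      · omega
      · omega
      · rw [mul_add, mul_add] at hg; omega
    have h7 := Nat.eq_of_mul_eq_mul_right he0 hi2
    have hb0 : b ≠ 0 := by rintro rfl; omega
    have h8 : dg χ ∣ 2 ^ b := by
      refine Nat.Coprime.dvd_of_dvd_mul_right ?_ (hi1 ▸ h.dvdX hχX)
      rw [h5, ← ht, add_assoc, Nat.coprime_mul_right_add_left]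
      exact Nat.prime_two.coprime_iff_not_dvd.2 (by omega)
    have h9 : Even τ := by
      have h10 := (dvd_pow_self _ hb0).trans (hbt rfl)
      rw [← ht] at h10
      push_cast at h10
      rw [add_sub_cancel_right, mul_assoc, dvd_sub_right (dvd_mul_right _ _), one_mul,
        Int.prime_two.dvd_mul, Int.prime_two.dvd_mul] at h10
      exact Nat.even_iff.2 (by omega)
    have h10 := hbb rfl hb0 (by have := Nat.even_iff.1 h9; omega) hχX (hnb χ hχX h8)
    obtain ⟨m, -, hm⟩ := (Nat.dvd_prime_pow Nat.prime_two).1 h8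
    refine ⟨?_, m, Or.inr (h5 ▸ hm)⟩
    exact bt_num4 (show n * p < g ^ 2 by omega) ht
  rw [hε] at hUV hsum hbt hdiv
  rw [if_neg (by omega)] at hpb
  obtain rfl : V = U + 1 := by
    have h1 : (dg θ : ℤ) + e = p := by exact_mod_cast hd
    have : ((U : ℤ) + 1 - V) * p = 0 := by linarith
    have := (mul_eq_zero.1 this).resolve_right hp0
    omega
  obtain rfl : g = dg θ := by
    obtain ⟨k, rfl⟩ := hθg
    rcases k with _ | _ | k
    · omega
    · omega
    · rw [mul_add, mul_add] at hg; omega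
  have hcop : e.Coprime (dg θ) := by
    rw [← Nat.coprime_add_self_right, hd]
    exact (Nat.coprime_of_lt_prime he0.ne' hep hp.out).symm
  obtain ⟨k, hk⟩ := hcop.dvd_of_dvd_mul_right (Dvd.intro_left _ hi2)
  have h1 : 1 + n * p = k * dg θ := Nat.eq_of_mul_eq_mul_right he0 (by rw [hi2, hk]; ring)
  have hk1 : k ≠ 1 := by rintro rfl; omega
  have hdq : ∀ d, d ∣ q ^ b → d ≠ 1 → q ∣ d := fun d h2 h3 => by
    obtain ⟨i, -, rfl⟩ := (Nat.dvd_prime_pow hq).1 h2
    exact dvd_pow_self _ (by rintro rfl; simp at h3)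
  have hdiv2 : ∀ d : ℕ, (∀ χ ∈ X, d ∣ dg χ) → d ∣ e → d ∣ 2 := fun d h2 h3 => by
    have h4 : (d : ℤ) ∣ (Y.card - 1) * e := Dvd.dvd.mul_left (Int.natCast_dvd_natCast.2 h3) _
    have h5 := dvd_add (hdiv d h2) h4
    have h6 : (dg θ : ℤ) + e = Y.card * e + 1 := by exact_mod_cast hd.trans ht.symm
    rw [show -1 * (dg θ : ℤ) - 1 + (Y.card - 1) * e = -2 by linarith, dvd_neg] at h5
    exact Int.natCast_dvd_ofNat.1 h5
  obtain rfl : q = 2 := (Nat.prime_dvd_prime_iff_eq hq Nat.prime_two).1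
    (hdiv2 q hXq (hdq e ⟨k, hk⟩ he1))
  have hb0 : b ≠ 0 := by rintro rfl; exact he1 (Nat.eq_one_of_mul_eq_one_right hk.symm)
  have hmax : max SA SB = SB := max_eq_right (by omega)
  rw [hmax] at hbb
  have hbt' : ((2 ^ b : ℕ) : ℤ) ∣ e * (Y.card * T + dg θ * τ) := by
    have := hbt rfl
    rw [← ht] at this
    push_cast at this ⊢
    convert this using 1; ring
  have hfin : ∀ χ ∈ B, u χ = 1 → χ ∈ X ∧ dg χ + 1 = p := fun χ hχ h2 => by
    obtain ⟨h3, h4⟩ := Finset.mem_filter.1 hχ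
    have := (hu χ h3).2
    rw [h2] at this
    exact ⟨h3, by omega⟩
  by_cases h4e : 4 ∣ e
  swap
  · obtain rfl : e = 2 := by
      obtain ⟨i, -, rfl⟩ := (Nat.dvd_prime_pow hq).1 ⟨k, hk⟩
      rcases i with _ | _ | i
      · omega
      · rfl
      · exact absurd ⟨2 ^ i, by ring⟩ h4e
    have hBc : B.card ≠ 0 := fun h2 => by
      rw [Finset.card_eq_zero.1 h2, Finset.sum_empty] at hV; omega
    have hU0 : U = 0 := by rw [← hU, Finset.card_eq_zero.1 (show A.card = 0 by omega)]; rfl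
    obtain ⟨χ, hχ, -, h3⟩ := hone B (Finset.filter_subset _ _) (by omega) hBc
    obtain ⟨hχX, h4⟩ := hfin χ hχ h3
    have h5 : (dg χ).Coprime (dg θ) := by
      rw [show dg χ = dg θ + 1 by omega]; simp
    have h6 : dg χ ∣ 2 ^ b := h5.dvd_of_dvd_mul_right (hi1 ▸ h.dvdX hχX)
    have h7 : Y.card ∣ τ := by
      have h8 := (Int.natCast_dvd_natCast.2 h6).trans hbt'
      rw [show dg χ = 2 * Y.card by omega, Nat.cast_mul, mul_dvd_mul_iff_left (by simp),
        dvd_add_right (dvd_mul_right _ _), ← Nat.cast_mul, Int.natCast_dvd_natCast] at h8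
      exact (Nat.Coprime.coprime_dvd_left ⟨2, by omega⟩ h5).dvd_of_dvd_mul_left h8
    have h8 := hbb rfl hb0 (or_iff_not_imp_left.2 fun h9 =>
      le_antisymm hτ (Nat.le_of_dvd (by omega) h7)) hχX (hnb χ hχX h6)
    obtain ⟨m, -, hm⟩ := (Nat.dvd_prime_pow Nat.prime_two).1 h6
    refine ⟨?_, m, Or.inl (by omega)⟩
    rw [hU0, zero_add, one_mul] at hB
    have h9 := Nat.mul_le_mul (show 2 * k ≤ p by omega) (show dg θ ≤ p by omega)
    by_contra h10
    have := Nat.mul_le_mul_right p (show p ≤ 2 * n by omega)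
    linarith
  have hpe : p = 2 * e + 1 := by
    by_contra h2
    refine absurd (Nat.le_of_dvd two_pos (hdiv2 4 (fun χ hχ => ?_) h4e)) (by omega)
    by_contra h3
    obtain ⟨r, hr⟩ := hXq χ hχ
    have h4 : r ∣ dg θ := hco r ((Dvd.intro_left _ hr.symm).trans ((h.dvdX hχ).trans hi)) (by omega)
    obtain ⟨j, hj⟩ := h4
    have h5 := hge χ hχ
    have h6 := hu χ hχ
    generalize u χ = v at h6
    rcases j with _ | _ | _ | j
    · omega
    · rcases v with _ | _ | v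
      · omega
      · omega
      · rw [add_mul, add_mul] at h6; omega
    · omega
    · rw [mul_add, mul_add, mul_add] at hj; omega
  have ht' : Y.card = 2 := Nat.eq_of_mul_eq_mul_right he0 (by omega)
  have hd' : dg θ = e + 1 := by omega
  have he4 := Nat.le_of_dvd he0 h4e
  obtain ⟨χ, hχ, h3⟩ : ∃ χ ∈ B, u χ = 1 := by
    by_contra h2
    push Not at h2
    have h3 := Finset.card_nsmul_le_sum B u 3 fun χ hχ => by
      obtain ⟨h3, h4⟩ := Finset.mem_filter.1 hχ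
      have h5 := hu χ h3
      have h6 := hXq χ h3
      have h7 := h2 χ hχ
      by_contra h8
      rw [show u χ = 2 by omega] at h5
      omega
    rw [smul_eq_mul, hV] at h3
    rw [hd'] at hpb
    rw [hpe] at hB
    exact bt_num he4 hab hA h3 hB hpb
  obtain ⟨hχX, h4⟩ := hfin χ hχ h3
  obtain ⟨k, rfl⟩ := hdq k ⟨e, hk.trans (mul_comm _ _)⟩ hk1
  have h6 : dg χ ∣ 2 ^ b := ⟨k, by rw [hk, show dg χ = 2 * e by omega]; ring⟩
  have h7 : 2 ∣ τ := by
    rw [hk, Nat.cast_mul, mul_dvd_mul_iff_left (by omega), ht'] at hbt'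
    have h8 := (show (2 : ℤ) ∣ (2 * k : ℕ) from ⟨k, by simp⟩).trans hbt'
    rw [Nat.cast_ofNat, dvd_add_right (dvd_mul_right _ _), Int.prime_two.dvd_mul] at h8
    omega
  have h8 := hbb rfl hb0 (by omega) hχX (hnb χ hχX h6)
  obtain ⟨m, -, hm⟩ := (Nat.dvd_prime_pow Nat.prime_two).1 h6
  refine ⟨?_, m, Or.inl (by omega)⟩
  rw [hd'] at hpb h1
  rw [hpe] at h1 ⊢
  exact bt_num2 he4 h1 (by omega)

end H2
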