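import Cfsg.Agent.H7.Bh
import Cfsg.Agent.H16.Gq
import Cfsg.Agent.H11.Bq2

/-! The 2-core of a group of shape `2^(1+12).3.M22.2`. -/

set_option autoImplicit false
open Subgroup H7B Cfsg Cfsg.Spor

namespace H2B1j

variable {C : Type*} [Group C] [Finite C] {Q N M : Subgroup C} [N.Normal]

omit [N.Normal] in
theorem le_of_three [Q.Normal] (hQN : Q ≤ N) (hN : Nat.card N = 3 * Nat.card Q) {x : C}
    (hx : x ∈ N) {k : ℕ} (h2 : x ^ 2 ^ k = 1) : x ∈ Q := by
  have hi : (Q.subgroupOf N).index = 3 := by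
    have := (Q.subgroupOf N).card_mul_index
    rw [Nat.card_congr (subgroupOfEquivOfLe hQN).toEquiv, hN, mul_comm 3] at this
    exact Nat.eq_of_mul_eq_mul_left Nat.card_pos this
  have h3 : x ^ 3 ∈ Q := by
    have := (Q.subgroupOf N).pow_index_mem ⟨x, hx⟩
    rw [hi] at this
    exact this
  have hc : (3 : ℕ).Coprime (orderOf x) :=
    Nat.Coprime.coprime_dvd_right (orderOf_dvd_of_pow_eq_one h2)
      (Nat.Coprime.pow_right _ (by norm_num))
  obtain ⟨m, hm⟩ := exists_pow_eq_self_of_coprime hc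
  exact hm ▸ pow_mem h3 m

theorem b1 (h : St Q N M) : pCore 2 C = Q := by
  haveI := H11.Bq2.simple
  haveI : Finite ↥M22 := Nat.finite_of_card_ne_zero (by rw [H29.card_M22]; norm_num)
  haveI := h.nQ
  haveI := h.nM
  obtain ⟨e⟩ := H11.Bq2.bq N M h.hNM h.hM h.hout h.hM22
  refine le_antisymm (sSup_le ?_) (le_sSup ⟨h.nQ, IsPGroup.of_card h.hcard⟩)
  rintro K ⟨hK, h2⟩ x hx
  let f : C →* MulAut ↥M22 := e.toMonoidHom.comp (QuotientGroup.mk' N)
  have fs : Function.Surjective f := e.surjective.comp (QuotientGroup.mk'_surjective N)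
  have h0 := H11.Bq2.aq.2 (K.map f) (hK.map f fs) (h2.map f)
  have h1 : f x = 1 := by rw [← mem_bot, ← h0]; exact mem_map_of_mem f hx
  have h3 : x ∈ N := (QuotientGroup.eq_one_iff x).1 (e.map_eq_one_iff.1 h1)
  obtain ⟨k, hk⟩ := h2 ⟨x, hx⟩
  exact le_of_three h.hQN h.hN h3 (congrArg Subtype.val hk)

end H2B1j
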