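import Cfsg.Agent.H2.Br3
import Cfsg.Agent.H2.D1x
import Cfsg.Agent.H1.Cores

/-!
Brauer's theorem on perfect groups with a Sylow subgroup of prime order.
-/

set_option autoImplicit false
set_option linter.unusedSectionVars false

open Cfsg H17 H19 Subgroup MulAction
open H20 (cent nrm)

namespace H2

variable {G : Type*} [Group G] [Finite G] {p : ℕ} [hp : Fact p.Prime]

/-- the conclusion of Brauer's theorem -/
def BrConc (G : Type*) [Group G] (p : ℕ) : Prop :=
  3 < p ∧ ((2 * Nat.card G = p * (p ^ 2 - 1) ∧ ∃ (F : Type) (_ : Field F) (_ : Fintype F),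
    Fintype.card F = p ∧ Nonempty (G ≃* Matrix.ProjectiveSpecialLinearGroup (Fin 2) F)) ∨
  (Nat.card G = p * ((p - 1) * (p - 2)) ∧ ∃ (m : ℕ) (F : Type) (_ : Field F) (_ : Fintype F),
    Fintype.card F = 2 ^ m ∧ p = 2 ^ m + 1 ∧
      Nonempty (G ≃* Matrix.SpecialLinearGroup (Fin 2) F)))

theorem br_card_sylow_ne_one (hG : commutator G = ⊤) (P : Sylow p G)
    (hP : Nat.card (P : Subgroup G) = p) : Nat.card (Sylow p G) ≠ 1 := by
  intro h
  haveI := sm_normal_of_card_sylow P h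
  haveI : IsCyclic (P : Subgroup G) := isCyclic_of_prime_card hP
  refine br_e_ne_one hG P hP (relIndex_eq_one.2 fun g _ x hx => ?_)
  have h1 := sm_hom_eq_one hG ((IsCyclic.mulAutMulEquiv (P : Subgroup G)).toMonoidHom.comp
    MulAut.conjNormal) g
  have h2 : MulAut.conjNormal (H := (P : Subgroup G)) g = 1 :=
    (IsCyclic.mulAutMulEquiv _).injective (h1.trans (map_one _).symm)
  have h3 := congrArg Subtype.val (DFunLike.congr_fun h2 ⟨x, hx⟩)
  exact (mul_inv_eq_iff_eq_mul.1 h3).symm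

theorem br_main (hG : commutator G = ⊤)
    (hO : ∀ N : Subgroup G, N.Normal → ¬ p ∣ Nat.card N → N = ⊥) (P : Sylow p G)
    (hP : Nat.card (P : Subgroup G) = p) {n : ℕ} (hn : Nat.card (Sylow p G) = 1 + n * p)
    (hr : ¬ BrRep p n) : BrConc G p := by
  have he1 := br_e_ne_one hG P hP
  have hn0 : n ≠ 0 := by rintro rfl; exact br_card_sylow_ne_one hG P hP (by simpa using hn)
  have hodd : p ≠ 2 := by
    rintro rfl
    exact he1 (Nat.dvd_one.1 (sm_e_dvd P hP))
  obtain ⟨O, _, hOv⟩ := exists_ovp p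
  obtain ⟨X, Y, s, ε, h⟩ := d1_exists hOv hodd P hP
  have he := h.he
  generalize (cent (P : Subgroup G)).relIndex (nrm (P : Subgroup G)) = e at h he1
  clear he
  obtain ⟨hX, hY⟩ := h.br_degs hG hn hn0 hr
  obtain ⟨θ, hθ⟩ := h.Y_nonempty
  have hnc := br_noncomm hG (hP ▸ (P : Subgroup G).card_subgroup_dvd_card)
  have ht := h.cardY
  have ht0 := h.Y_nonempty.card_pos
  have he0 := h.e_pos
  have h3 : Y.card ≠ 1 → 3 < p := fun h1 => by
    have := Nat.mul_le_mul (show 2 ≤ Y.card by omega) (show 2 ≤ e by omega)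
    omega
  have hfin : cent (P : Subgroup G) ≤ P → n = 1 → Y.card = 2 → BrConc G p := fun hC h1 h2 => by
    haveI := br_simple hG hO P hP hC
    have hc : 2 * Nat.card G = p * (p ^ 2 - 1) := by
      have h4 := sm_card_eq P
      rw [hn, show Nat.card (centralizer ((P : Subgroup G) : Set G)) = p from
        (congrArg (fun H : Subgroup G => Nat.card H) (le_antisymm hC (sm_le_cent hP))).trans hP] at h4
      change _ = _ * (cent _).relIndex (nrm _) * _ at h4
      rw [h4, h.he, h1, show p ^ 2 - 1 = (p + 1) * (2 * e) from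
        (Nat.sub_eq_of_eq_add (by rw [← ht, h2]; ring))]
      ring
    exact ⟨h3 (by omega), Or.inl ⟨hc, ZMod p, inferInstance, inferInstance, ZMod.card p,
      z_psl_prime hnc hodd hc (by rw [hn, h1]; ring) (ZMod.card p)⟩⟩
  rcases hY θ hθ with ⟨hε, hd⟩ | ⟨hε, hd⟩
  · have hC := h.cent_le_of_small hG (h.Y_mem hθ) (by have := h.e_lt; omega)
      (h.faithful hG hO (h.Y_mem hθ) (h.Y_ne hθ))
    have h1 := h.case_one hC he1 hX hθ hε hd
    have h2 : Y.card ≠ 1 := fun h2 => h.det_Y hG hC hθ (by rw [h2] at ht; omega) h2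
    have h4 : n = 1 := by
      have := Nat.mul_le_mul_left n (show 2 ≤ Y.card by omega)
      omega
    exact hfin hC h4 (by rw [h4] at h1; omega)
  · obtain ⟨χ, hχ, hs⟩ : ∃ χ ∈ X, dg χ + 1 = p := by
      by_contra h1
      push Not at h1
      have h2 := h.eqn_deg hθ
      have := Finset.sum_nonneg (s := X) (f := fun χ => s χ * dg χ) fun χ hχ => by
        rw [((hX χ hχ).resolve_right fun h4 => h1 χ hχ h4.2).1]; positivity
      rw [hε] at h2
      omega
    have hC := h.cent_le_of_small hG (h.X_mem hχ) (by omega)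
      (h.faithful hG hO (h.X_mem hχ) (h.X_ne hχ))
    haveI := br_simple hG hO P hP hC
    have h2 : Y.card ≠ 1 := fun h2 => by
      have := h.det_X hG hC hχ hs (Nat.even_iff.2 (by
        have := hp.out.eq_two_or_odd; rw [h2] at ht; omega))
      simp [h2] at this
    obtain ⟨w, b, β, h4, h5, h6, h7, h8, h9⟩ := h.case_two hC hn hX hθ hε hd
    rcases br_group hnc P hP hodd hC hn h.he he1 ht h2 h4 h5 h6 h7 h8 h9 with
      h10 | ⟨h10, a, ha, F, _, _, h11, h12⟩
    · exact hfin hC h10.1 h10.2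
    · exact ⟨h3 h2, Or.inr ⟨h10, a, F, _, _, h11, ha, h12⟩⟩

theorem exists_card_sylow (p : ℕ) [hp : Fact p.Prime] (G : Type*) [Group G] [Finite G] :
    ∃ n, Nat.card (Sylow p G) = 1 + n * p :=
  ⟨Nat.card (Sylow p G) / p, by
    nth_rewrite 1 [← Nat.mod_add_div' (Nat.card (Sylow p G)) p, card_sylow_modEq_one]
    rw [Nat.mod_eq_of_lt hp.out.one_lt]⟩

theorem br_perfect_quot (hG : commutator G = ⊤) (H : Subgroup G) [H.Normal] :
    commutator (G ⧸ H) = ⊤ := by
  have hs := QuotientGroup.mk'_surjective H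
  rw [commutator_def, ← map_top_of_surjective _ hs, ← map_commutator, ← commutator_def, hG]

theorem br_quot (hG : commutator G = ⊤) (P : Sylow p G) (hP : Nat.card (P : Subgroup G) = p)
    {n : ℕ} (hn : Nat.card (Sylow p G) = 1 + n * p) (hr : ¬ BrRep p n) (H : Subgroup G)
    [hH : H.Normal] (hpH : ¬ p ∣ Nat.card H) : H ≤ cent (P : Subgroup G) ∧
      Nat.card (Sylow p (G ⧸ H)) = 1 + n * p ∧
      ∃ Q : Sylow p (G ⧸ H), Nat.card (Q : Subgroup (G ⧸ H)) = p := by
  have hs := QuotientGroup.mk'_surjective H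
  have hPH : ∀ x ∈ (P : Subgroup G), x ∈ H → x = 1 := fun x hx hx' => by
    by_contra h1
    exact hpH (sm_orderOf_eq hP hx h1 ▸ H.orderOf_dvd_natCard hx')
  set Q := P.mapSurjective hs
  have hQ : Nat.card (Q : Subgroup (G ⧸ H)) = p := by
    have h1 := (P : Subgroup G).card_map_dvd (QuotientGroup.mk' H)
    rw [hP] at h1
    refine ((Nat.dvd_prime hp.out).1 h1).resolve_left fun h2 => ?_
    rw [card_eq_one, Subgroup.map_eq_bot_iff, QuotientGroup.ker_mk'] at h2
    obtain ⟨x, hx, h3⟩ := sm_exists_ne_one hP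
    exact h3 (hPH x hx (h2 hx))
  set M := (nrm (Q : Subgroup (G ⧸ H))).comap (QuotientGroup.mk' H)
  have h1 : nrm (P : Subgroup G) ≤ M := map_le_iff_le_comap.1 (le_normalizer_map _)
  have h2 := relIndex_mul_index h1
  rw [index_comap_of_surjective _ hs, ← sm_card_sylow, ← sm_card_sylow, hn] at h2
  have hp1 := hp.out.one_lt
  obtain ⟨u, hu⟩ := exists_card_sylow p (G ⧸ H)
  have hu0 : u ≠ 0 := by
    rintro rfl; exact br_card_sylow_ne_one (br_perfect_quot hG H) Q hQ (by simpa using hu)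
  obtain ⟨k, hk⟩ : ∃ k, (nrm (P : Subgroup G)).relIndex M = 1 + k * p := by
    have h3 := congrArg (· % p) h2
    simp only [hu, mul_add, mul_one, ← mul_assoc, Nat.add_mul_mod_self_right,
      Nat.mod_eq_of_lt hp1] at h3
    exact ⟨_, by rw [← h3, Nat.mod_add_div']⟩
  rw [hk, hu] at h2
  have h3 : n = k + u + k * u * p := Nat.eq_of_mul_eq_mul_right hp.out.pos (by linarith)
  have hk0 : k = 0 := by
    by_contra h4
    exact hr ⟨k * (u + 1), u, by positivity, by omega, by rw [h3]; ring⟩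
  rw [hk0] at h3 hk
  refine ⟨fun g hg x hx => ?_, by rw [hu, h3]; simp, Q, hQ⟩
  have h4 : g ∈ nrm (P : Subgroup G) := relIndex_eq_one.1 (by simpa using hk) (by
    rw [mem_comap, QuotientGroup.mk'_apply, (QuotientGroup.eq_one_iff g).2 hg]; exact one_mem _)
  have h5 := hPH (x * (g * x * g⁻¹)⁻¹) (mul_mem hx (inv_mem ((h4 x).1 hx))) (by
    have := mul_mem (hH.conj_mem g hg x) (inv_mem hg)
    convert this using 1; group)
  rw [mul_inv_eq_one, eq_mul_inv_iff_mul_eq] at h5
  exact h5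

theorem br_core (hG : commutator G = ⊤) (P : Sylow p G) (hP : Nat.card (P : Subgroup G) = p)
    {n : ℕ} (hn : Nat.card (Sylow p G) = 1 + n * p) (hr : ¬ BrRep p n) :
    BrConc (G ⧸ pPrimeCore p G) p := by
  obtain ⟨-, h1, Q, hQ⟩ := br_quot hG P hP hn hr _ (H1.not_dvd_card_pPrimeCore hp.out)
  exact br_main (br_perfect_quot hG _) (fun N hN h => H1.pPrimeCore_eq_bot_iff.1
    (H1.pPrimeCore_quotient_pPrimeCore p) N hN (hp.out.coprime_iff_not_dvd.2 h).symm) Q hQ h1 hr

theorem br_rep_le {p n : ℕ} (h : BrRep p n) : p + 3 ≤ 2 * n := by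
  obtain ⟨h, u, h1, h2, h3⟩ := h
  obtain ⟨v, rfl⟩ : ∃ v, u = v + 1 := ⟨u - 1, by omega⟩
  obtain ⟨k, rfl⟩ : ∃ k, h = k + 1 := ⟨h - 1, by omega⟩
  refine Nat.le_of_mul_le_mul_right (c := v + 1 + 1) ?_ (by omega)
  rw [mul_assoc, h3]
  nlinarith [Nat.zero_le (k * v * p), Nat.zero_le (k * p), Nat.zero_le (v * p)]

theorem br_card_of_cube (hdvd : p ∣ Nat.card G) (hbig : Nat.card G < p ^ 3) (P : Sylow p G)
    (hP : Nat.card (Sylow p G) ≠ 1) : Nat.card (P : Subgroup G) = p := by
  obtain ⟨k, hk⟩ := P.isPGroup'.exists_card_eq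
  obtain ⟨n, hn⟩ := exists_card_sylow p G
  have h1 := Nat.le_of_dvd (Nat.pos_of_ne_zero index_ne_zero_of_finite) P.card_dvd_index
  have h2 := (P : Subgroup G).index_mul_card
  have h3 : p ≤ n * p := Nat.le_mul_of_pos_left _ (Nat.pos_of_ne_zero (by rintro rfl; omega))
  rcases k with _ | _ | k
  · exact absurd (card_eq_one.1 hk) (sm_sylow_ne_bot P hdvd)
  · simpa using hk
  · rw [← h2, hk] at hbig
    have h4 : p ^ 2 ≤ p ^ (k + 1 + 1) := Nat.pow_le_pow_right hp.out.pos (by omega)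
    have := Nat.mul_le_mul (show p ≤ (P : Subgroup G).index by omega) h4
    rw [← pow_succ'] at this
    exact absurd hbig this.not_gt

theorem br_not_rep_of_cube (hG : commutator G = ⊤) (hbig : Nat.card G < p ^ 3) (P : Sylow p G)
    (hP : Nat.card (P : Subgroup G) = p) {n : ℕ} (hn : Nat.card (Sylow p G) = 1 + n * p) :
    ¬ BrRep p n := by
  intro h
  have h1 := br_rep_le h
  have h2 := br_e_ne_one hG P hP
  have h3 := sm_card_eq P
  have h4 := card_le_of_le (sm_le_cent hP)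
  have h5 : (cent (P : Subgroup G)).relIndex (nrm (P : Subgroup G)) ≠ 0 := index_ne_zero_of_finite
  change _ = _ * (cent _).relIndex (nrm _) * _ at h3
  have h6 := Nat.mul_le_mul (Nat.mul_le_mul_left (1 + n * p)
    (show 2 ≤ (cent (P : Subgroup G)).relIndex (nrm (P : Subgroup G)) by omega)) h4
  rw [← hn, ← h3, hn, hP] at h6
  nlinarith [Nat.mul_le_mul_right (p * p) h1]

theorem br_simple_cube [IsSimpleGroup G] (hG : ¬ IsMulCommutative G) (hdvd : p ∣ Nat.card G)
    (hbig : Nat.card G < p ^ 3) : BrConc G p := by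
  obtain ⟨P⟩ : Nonempty (Sylow p G) := inferInstance
  have hP := br_card_of_cube hdvd hbig P (sm_card_sylow_ne_one hG hdvd)
  obtain ⟨n, hn⟩ := exists_card_sylow p G
  have hc := sm_commutator_eq_top hG
  exact br_main hc (fun N hN h => hN.eq_bot_or_eq_top.resolve_right (by
    rintro rfl; exact h (by simpa using hdvd))) P hP hn (br_not_rep_of_cube hc hbig P hP hn)

end H2
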