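import Cfsg.Agent.H2.Br5

/-!
Sylow subgroups of prime order with normalizer of order `2 p`.
-/

set_option autoImplicit false
set_option linter.unusedSectionVars false

open scoped ComplexConjugate
open Cfsg H17 H19 Subgroup MulAction
open H20 (cent nrm)

namespace H2

variable {G : Type*} [Group G] [Finite G] {p : ℕ} [hp : Fact p.Prime]
  {O : ValuationSubring ℂ} [CharP (kk O) p]

theorem sm_simple_of_prime_index (P : Sylow p G) (hP : Nat.card (P : Subgroup G) = p)
    (hdvd : ∀ K : Subgroup G, K.Normal → K ≠ ⊥ → p ∣ Nat.card K)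
    (hn : ¬ (P : Subgroup G).Normal)
    (ht : ((P : Subgroup G).relIndex (nrm (P : Subgroup G))).Prime) : IsSimpleGroup G := by
  obtain ⟨x, -, hx⟩ := sm_exists_ne_one hP
  haveI : Nontrivial G := ⟨x, 1, hx⟩
  refine ⟨fun K hK => ?_⟩
  by_contra hc
  push Not at hc
  have hPK := br_le_of_normal P hP K (hdvd K hK hc.1)
  have hsup := Sylow.normalizer_sup_eq_top' P hPK
  have hmul := relIndex_mul_relIndex (P : Subgroup G) (K ⊓ nrm (P : Subgroup G)) _
    (le_inf hPK le_normalizer) inf_le_right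
  rcases (Nat.dvd_prime ht).mp (Dvd.intro _ hmul) with h | h
  · have h1 := relIndex_eq_one.mp h
    let Q := P.subtype hPK
    have hQ : normalizer ((Q : Subgroup K) : Set K) ≤ centralizer ((Q : Subgroup K) : Set K) := by
      intro g hg
      rw [Sylow.coe_subtype, ← subgroupOf_normalizer_eq hPK] at hg
      exact fun y hy => Subtype.ext (sm_le_cent hP (h1 ⟨g.2, hg⟩) y hy)
    have hcomp := MonoidHom.ker_transferSylow_isComplement' Q hQ
    set L := (MonoidHom.transferSylow Q hQ).ker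
    have hLc : (Nat.card L).Coprime L.index := by
      rw [hcomp.symm.index_eq_card, ← hcomp.index_eq_card]
      exact Q.card_coprime_index.symm
    haveI : L.Characteristic := sm_char_of_hall L hLc
    have hLn : (L.map K.subtype).Normal := ConjAct.normal_of_characteristic_of_normal
    by_cases hL : L.map K.subtype = ⊥
    · rw [(map_eq_bot_iff_of_injective _ K.subtype_injective).mp hL, isComplement'_bot_left,
        Sylow.coe_subtype, subgroupOf_eq_top] at hcomp
      exact hn (le_antisymm hPK hcomp ▸ hK)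
    · have h2 := hdvd _ hLn hL
      rw [card_map_of_injective K.subtype_injective, ← hcomp.index_eq_card] at h2
      exact Q.not_dvd_index h2
  · rw [h] at hmul
    have h1 := Nat.eq_of_mul_eq_mul_left ht.pos (hmul.trans (mul_one _).symm)
    exact hc.2 ((sup_eq_right.mpr ((relIndex_eq_one.mp h1).trans inf_le_left)).symm.trans hsup)

theorem two_p_setup (hG : commutator G = ⊤) (P : Sylow p G) (hP : Nat.card (P : Subgroup G) = p)
    (hN : Nat.card (nrm (P : Subgroup G)) = 2 * p) : cent (P : Subgroup G) ≤ P ∧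
      (cent (P : Subgroup G)).relIndex (nrm (P : Subgroup G)) = 2 := by
  have h1 := br_e_ne_one hG P hP
  have h2 := sm_relIndex_cent (P : Subgroup G)
  obtain ⟨k, hk⟩ := card_dvd_of_le (sm_le_cent hP)
  rw [hN, hk, hP, mul_comm p, ← mul_assoc] at h2
  have h3 := Nat.eq_of_mul_eq_mul_right hp.out.pos h2
  have h4 := ((Nat.dvd_prime Nat.prime_two).1 (Dvd.intro _ h3)).resolve_left h1
  rw [h4] at h3
  exact ⟨(eq_of_le_of_card_ge (sm_le_cent hP) (by rw [hk, show k = 1 by omega, mul_one])).ge, h4⟩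

theorem relIndex_of_two_p {P : Subgroup G} (hP : Nat.card P = p)
    (hN : Nat.card (nrm P) = 2 * p) : P.relIndex (nrm P) = 2 := by
  have := (P.subgroupOf (nrm P)).index_mul_card
  rw [Nat.card_congr (subgroupOfEquivOfLe le_normalizer).toEquiv, hP, hN] at this
  exact Nat.eq_of_mul_eq_mul_right hp.out.pos this

theorem card_of_two_p (hp2 : p ≠ 2) (P : Sylow p G)
    (hN : Nat.card (nrm (P : Subgroup G)) = 2 * p) : Nat.card (P : Subgroup G) = p := by
  obtain ⟨k, hk⟩ := P.isPGroup'.exists_card_eq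
  have h1 := card_dvd_of_le (le_normalizer (H := (P : Subgroup G)))
  rw [hN, hk] at h1
  rcases k with _ | _ | k
  · exact absurd (card_eq_one.1 hk) (sm_sylow_ne_bot P
      ((Dvd.intro_left _ hN.symm).trans (card_subgroup_dvd_card _)))
  · simpa using hk
  · rw [pow_succ, Nat.mul_dvd_mul_iff_right hp.out.pos] at h1
    exact absurd ((Nat.prime_dvd_prime_iff_eq hp.out Nat.prime_two).1
      ((dvd_pow_self _ k.succ_ne_zero).trans h1)) hp2

theorem fix_zero_of_sing {α : Type*} [MulAction G α] [IsPretransitive G α] (P : Sylow p G)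
    (hP : Nat.card (P : Subgroup G) = p) (hα : p ∣ Nat.card α) {g : G} (hg : p ∣ orderOf g) :
    Nat.card (fixedBy α g) = 0 := by
  rw [Nat.card_eq_zero]
  refine Or.inl ⟨fun a => P.not_dvd_index ?_⟩
  have h1 := (P : Subgroup G).index_mul_card
  obtain ⟨k, hk⟩ := hg.trans ((stabilizer G a.1).orderOf_dvd_natCard a.2)
  rw [← (stabilizer G a.1).index_mul_card, index_stabilizer_of_transitive, hP, hk, mul_comm p,
    ← mul_assoc] at h1
  exact Nat.eq_of_mul_eq_mul_right hp.out.pos h1 ▸ hα.mul_right _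

theorem sl2_even_cent {F : Type*} [Field F] [Fintype F] (hF : Even (Fintype.card F))
    (e : G ≃* Matrix.SpecialLinearGroup (Fin 2) F) {u g : G} (hu : u * u = 1) (h1 : u ≠ 1)
    (h : g * u = u * g) : g * g = 1 := by
  haveI : CharP F 2 := ringChar.of_eq (FiniteField.even_card_iff_char_two.2 (Nat.even_iff.1 hF))
  have h2 : (2 : F) = 0 := CharTwo.two_eq_zero
  apply e.injective
  have hu' : e u * e u = 1 := by rw [← map_mul, hu, map_one]
  have h' : e g * e u = e u * e g := by rw [← map_mul, h, map_mul]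
  have h1' : e u ≠ 1 := fun h3 => h1 (e.injective (h3.trans (map_one e).symm))
  rw [map_mul, map_one]
  generalize e u = U at *
  generalize e g = A at *
  have dU := U.det_coe
  have dA := A.det_coe
  rw [Matrix.det_fin_two] at dU dA
  have ent : ∀ {B C : Matrix.SpecialLinearGroup (Fin 2) F}, B = C → ∀ i j, B i j = C i j :=
    fun h i j => by rw [h]
  have a1 := ent hu' 0 0
  have a2 := ent hu' 1 1
  have b1 := ent h' 0 0
  have b2 := ent h' 0 1
  have b3 := ent h' 1 0
  simp only [Matrix.SpecialLinearGroup.coe_mul, Matrix.mul_apply, Fin.sum_univ_two,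
    Matrix.SpecialLinearGroup.coe_one, Matrix.one_apply_eq] at a1 a2 b1 b2 b3
  have t1 : U 1 1 = U 0 0 := pow_eq_zero_iff two_ne_zero |>.1 (show (U 1 1 - U 0 0) ^ 2 = 0 by
    linear_combination a1 + a2 - 2 * dU - 2 * U 0 1 * U 1 0 * h2) |> sub_eq_zero.1
  have t2 : A 1 1 = A 0 0 := by
    by_contra h3
    have c1 : U 0 1 = 0 := (mul_eq_zero.1 (show U 0 1 * (A 1 1 - A 0 0) = 0 by
      rw [t1] at b2; linear_combination -b2)).resolve_right (sub_ne_zero.2 h3)
    have c2 : U 1 0 = 0 := (mul_eq_zero.1 (show U 1 0 * (A 1 1 - A 0 0) = 0 by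
      rw [t1] at b3; linear_combination b3)).resolve_right (sub_ne_zero.2 h3)
    have c3 : U 0 0 = 1 := pow_eq_zero_iff two_ne_zero |>.1 (show (U 0 0 - 1) ^ 2 = 0 by
      rw [c1] at a1; linear_combination a1 + (1 - U 0 0) * h2) |> sub_eq_zero.1
    refine h1' (Subtype.ext (Matrix.ext fun i j => ?_))
    fin_cases i <;> fin_cases j <;> simp [c1, c2, c3, t1]
  refine Subtype.ext (Matrix.ext fun i j => ?_)
  rw [t2] at dA
  fin_cases i <;> fin_cases j <;> simp [Matrix.mul_apply, Fin.sum_univ_two, t2]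
  · linear_combination dA + A 0 1 * A 1 0 * h2
  · linear_combination A 0 0 * A 0 1 * h2
  · linear_combination A 0 0 * A 1 0 * h2
  · linear_combination dA + A 0 1 * A 1 0 * h2

theorem ch_sum_le [Fintype G] {P N : Subgroup G} [Fintype P] [Fintype N] (h : P ≤ N)
    [DecidablePred fun y => y ∈ N ∧ y ∉ P] (ψ : G → ℂ) :
    ∑ y : N, ψ y = ∑ y : P, ψ y + ∑ y with y ∈ N ∧ y ∉ P, ψ y := by
  classical
  rw [← Finset.sum_subtype (Finset.univ.filter (· ∈ N)) (by simp),
    ← Finset.sum_subtype (Finset.univ.filter (· ∈ P)) (by simp),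
    ← Finset.sum_filter_add_sum_filter_not _ (· ∈ P), Finset.filter_filter, Finset.filter_filter]
  congr 2
  · ext y; simpa using fun h1 => h h1
  · ext y; simp

namespace D1

variable {P : Sylow p G} {e : ℕ} {X Y : Finset (IrrCharacter G)} {s : IrrCharacter G → ℤ} {ε : ℤ}
  (h : D1 p O (P : Subgroup G) e X Y s ε)
include h

/-- a character constant on singular elements -/
theorem coeff_const (hC : cent (P : Subgroup G) ≤ P) {Φ : G → ℂ} (hΦ : IsCharacter G Φ) {a : ℤ}
    (ha : ∀ g, p ∣ orderOf g → Φ g = a) {θ : IrrCharacter G} (hθ : θ ∈ Y) [Fintype G] :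
    ∃ c : IrrCharacter G → ℕ, (∀ χ : IrrCharacter G, classInner Φ χ = c χ) ∧
      Φ = ∑ χ : IrrCharacter G, (c χ : ℂ) • (χ : G → ℂ) ∧ (∀ θ' ∈ Y, c θ' = c θ) ∧
      a = c (triv G) + ∑ χ ∈ X, c χ * s χ - ε * c θ := by
  classical
  obtain ⟨c, hc1, hc2⟩ := hΦ.exists_coeff
  have h1 : ∀ θ' ∈ Y, c θ' = c θ := fun θ' hθ' => by
    have := ch_inner_of_vanish (f := (θ' : G → ℂ) - (θ : G → ℂ)) (fun g hg => by simp [h.regY hθ' hθ hg]) ha
    rw [classInner_sub_left, classInner_sub_left, ← coe_triv, irr_inner, irr_inner,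
      if_neg (h.Y_ne hθ'), if_neg (h.Y_ne hθ), ← hΦ.inner_comm θ'.2.isCharacter,
      ← hΦ.inner_comm θ.2.isCharacter, hc1, hc1, sub_self, mul_zero, sub_eq_zero] at this
    exact_mod_cast this
  refine ⟨c, hc1, hc2, h1, ?_⟩
  obtain ⟨x, hx, hx1⟩ := h.exists_x
  have hs := h.sing hx hx1
  have h2 := congrFun hc2 x
  simp only [Finset.sum_apply, Pi.smul_apply, smul_eq_mul] at h2
  rw [ha x hs, h.sum_all, Finset.sum_eq_zero (s := Finset.univ.filter _) fun χ hχ => by
      rw [h.zero_of_not_mem hC (Finset.mem_filter.1 hχ).2 hs, mul_zero],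
    Finset.sum_congr rfl (s₁ := Y) (g := fun χ => (c θ : ℂ) * (χ : G → ℂ) x)
      fun χ hχ => by rw [h1 χ hχ], ← Finset.mul_sum, h.sumY hs,
    Finset.sum_congr rfl (s₁ := X) fun χ hχ => by rw [h.valX χ hχ x hs], triv_apply] at h2
  have : (a : ℂ) = c (triv G) + ∑ χ ∈ X, (c χ : ℂ) * s χ - ε * c θ := by linear_combination h2
  exact_mod_cast this

end D1

namespace D1

variable {P : Sylow p G} {X Y : Finset (IrrCharacter G)} {s : IrrCharacter G → ℤ} {ε : ℤ}
  (h : D1 p O (P : Subgroup G) 2 X Y s ε)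
include h

theorem X_eq {χ : IrrCharacter G} (hχ : χ ∈ X) : X = {χ} := by
  obtain ⟨ψ, hψ⟩ := Finset.card_eq_one.1 (show X.card = 1 by have := h.cardX; omega)
  rw [hψ] at hχ ⊢
  rw [Finset.mem_singleton.1 hχ]

theorem e_two (hC : cent (P : Subgroup G) ≤ P) (hN : Nat.card (nrm (P : Subgroup G)) = 2 * p)
    {χ θ : IrrCharacter G} (hχ : χ ∈ X) (hd : dg χ + 1 = p) (hθ : θ ∈ Y) :
    dg θ + 2 = p ∧ (∀ g, p ∣ orderOf g → (χ : G → ℂ) g = -1) ∧ ∀ g, ¬ p ∣ orderOf g →
      (θ : G → ℂ) g = (χ : G → ℂ) g - 1 ∧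
      (χ : G → ℂ) (g * g) = (χ : G → ℂ) g ^ 2 - (p - 1) * ((χ : G → ℂ) g - 1) := by
  classical
  haveI := Fintype.ofFinite G
  have hp3 := h.three_le
  have hs : s χ = -1 := (h.sgn χ hχ).resolve_left fun h1 => by
    obtain ⟨m, hm⟩ := h.eqX hχ
    have h2 : (p : ℤ) ∣ 2 := ⟨1 - m, by rw [h1] at hm; rw [mul_sub]; omega⟩
    have := Int.le_of_dvd two_pos h2
    omega
  have h1 := h.eqn_deg hθ
  rw [h.X_eq hχ, Finset.sum_singleton, hs] at h1
  have hε : ε = -1 := h.eps.resolve_left fun h2 => by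
    rw [h2] at h1; have := dg_pos θ; omega
  have hdθ : dg θ + 2 = p := by rw [hε] at h1; omega
  have hsing : ∀ g, p ∣ orderOf g → (χ : G → ℂ) g = -1 := fun g hg => by
    rw [h.valX χ hχ g hg, hs]; simp
  have hreg : ∀ g, ¬ p ∣ orderOf g → (θ : G → ℂ) g = (χ : G → ℂ) g - 1 := fun g hg => by
    have := h.eqn θ hθ g hg
    rw [h.X_eq hχ, Finset.sum_singleton, hs, hε] at this
    push_cast at this
    linear_combination -this
  refine ⟨hdθ, hsing, fun g hg => ⟨hreg g hg, ?_⟩⟩
  obtain ⟨S, A, -, hA, h2, h3⟩ := χ.2.isCharacter.exists_sym_alt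
  have h4 : ∀ g, 2 * A g = (χ : G → ℂ) g ^ 2 - (χ : G → ℂ) (g * g) := fun g => by
    rw [h2, h3]; ring
  have hd' : (χ : G → ℂ) 1 = p - 1 := by rw [← cast_deg, ← hd]; simp
  have h5 : ∀ g, p ∣ orderOf g → A g = (1 : ℤ) := fun g hg => by
    have := h4 g
    rw [hsing g hg, hsing (g * g) (by
      rw [← sq, orderOf_pow]
      exact (Nat.dvd_div_iff_mul_dvd (Nat.gcd_dvd_left _ _)).2 (Nat.Coprime.mul_dvd_of_dvd_of_dvd
        (Nat.Coprime.coprime_dvd_left (Nat.gcd_dvd_right _ _)
          ((Nat.coprime_primes Nat.prime_two hp.out).2 h.odd.symm)) (Nat.gcd_dvd_left _ _) hg))] at this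
    push_cast; linear_combination this / 2
  have h6 : 2 * A 1 = (p - 1) * (p - 2) := by rw [h4, mul_one, hd']; ring
  obtain ⟨c, hc1, hc2, hc3, hc4⟩ := h.coeff_const hC hA h5 hθ
  have hct : c (triv G) = 0 := by
    have hPN : (P : Subgroup G) ≤ nrm (P : Subgroup G) := le_normalizer
    have h7 := ch_sum_le hPN fun _ => 1
    have h8 : ∑ y : nrm (P : Subgroup G), A y = Nat.card (nrm (P : Subgroup G)) * (0 : ℕ) := by
      rw [ch_sum_le hPN, ch_sum_const (fun y : (P : Subgroup G) => A y) 1 fun y hy => by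
        simpa using h5 y (h.sing y.2 fun e => hy (Subtype.ext e)),
        Finset.sum_congr rfl (g := fun _ => -((p : ℂ) - 1) / 2) fun y hy => by
          obtain ⟨h9, h10⟩ := (Finset.mem_filter.1 hy).2
          have h11 := h4 y
          rw [ch_zero_of_fpf χ.2.isCharacter (P : Subgroup G) (by
            rw [h.sumP_X hχ, hs, cast_deg, hd']; simp) h9 (af_fpf h.card hC h10),
            af_fpf h.card hC h10 (y * y) (mul_self_mem_of_index_two
              (H := (P : Subgroup G).subgroupOf (nrm (P : Subgroup G)))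
              (relIndex_of_two_p h.card hN) ⟨y, h9⟩) (mul_assoc _ _ _), hd'] at h11
          linear_combination h11 / 2]
      simp only [Finset.sum_const, Finset.card_univ, ← Nat.card_eq_fintype_card, h.card, hN,
        nsmul_eq_mul, OneMemClass.coe_one] at h7 ⊢
      push_cast at h7 ⊢
      linear_combination h6 / 2 + ((p : ℂ) - 1) / 2 * h7
    have h9 : ∑ y : (⊤ : Subgroup G), A y = Nat.card (⊤ : Subgroup G) * c (triv G) := by
      rw [← hc1, coe_triv, classInner_one_right, card_top,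
        mul_inv_cancel_left₀ card_ne_zero_complex]
      exact (Finset.sum_subtype Finset.univ (by simp) A).symm
    exact Nat.le_zero.1 (ch_mult_mono hA le_top h8 h9)
  have ht := h.cardY
  have h7 := ch_deg_of_coeff hc2 (d := Y.card * dg θ) (by
    have e1 : (Y.card : ℂ) * 2 + 1 = p := by exact_mod_cast ht
    have e2 : (dg θ : ℂ) + 2 = p := by exact_mod_cast hdθ
    rw [← e1] at h6 e2
    push_cast
    linear_combination h6 / 2 - Y.card * e2)
  rw [h.X_eq hχ, Finset.sum_singleton, hs, hε, hct] at hc4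
  rw [h.sum_all, Finset.sum_congr rfl (s₁ := Y) (g := fun _ => c θ * dg θ) fun ψ hψ => by
    rw [hc3 ψ hψ, h.degY_eq hψ hθ], Finset.sum_const, smul_eq_mul, show c θ = c χ + 1 by omega,
    add_mul, one_mul, mul_add, hct] at h7
  have hz : ∀ Z : Finset (IrrCharacter G), ∑ ψ ∈ Z, c ψ * dg ψ = 0 →
      ∑ ψ ∈ Z, (c ψ : ℂ) * (ψ : G → ℂ) g = 0 := fun Z hZ => Finset.sum_eq_zero fun ψ hψ => by
    rw [(Nat.mul_eq_zero.1 (Finset.sum_eq_zero_iff.1 hZ ψ hψ)).resolve_right (dg_pos ψ).ne']; simp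
  have hc5 : c θ = 1 := by
    have := (Nat.mul_eq_zero.1 (Finset.sum_eq_zero_iff.1 (show ∑ ψ ∈ X, c ψ * dg ψ = 0 by omega)
      χ hχ)).resolve_right (dg_pos χ).ne'
    omega
  have h8 := congrFun hc2 g
  simp only [Finset.sum_apply, Pi.smul_apply, smul_eq_mul] at h8
  rw [h.sum_all, hz X (by omega), hz (Finset.univ.filter _) (by omega), hct,
    Finset.sum_congr rfl (s₁ := Y) (g := fun ψ => (ψ : G → ℂ) g) fun ψ hψ => by
      rw [hc3 ψ hψ, hc5]; simp, h.sumY_reg hθ hg, hreg g hg] at h8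
  have e1 : (Y.card : ℂ) * 2 + 1 = p := by exact_mod_cast ht
  rw [← e1]
  push_cast at h8
  linear_combination h4 g - 2 * h8

theorem e_two_conc [IsSimpleGroup G] (hG : ¬ IsMulCommutative G) (hp3 : 3 < p)
    (hC : cent (P : Subgroup G) ≤ P) (hN : Nat.card (nrm (P : Subgroup G)) = 2 * p)
    {χ : IrrCharacter G} (hχ : χ ∈ X) (hd : dg χ + 1 = p) : BrConc G p := by
  obtain ⟨θ, hθ⟩ := h.Y_nonempty
  obtain ⟨hdθ, hsing, hreg⟩ := h.e_two hC hN hχ hd hθ
  have hperf := sm_commutator_eq_top hG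
  have hpG : p ∣ Nat.card G := h.card ▸ (P : Subgroup G).card_subgroup_dvd_card
  have hf := χ.2.charKer_eq_bot_of_simple fun h1 => h.X_ne hχ (Subtype.ext h1)
  have h0 : ∀ g, g ≠ 1 → Odd (orderOf g) → ¬ p ∣ orderOf g → (θ : G → ℂ) g = 0 := by
    intro g h1 h2 h3
    obtain ⟨σ, hσ⟩ := exists_ringEquiv_pow_elt g (Nat.coprime_two_left.2 h2)
    obtain ⟨x, hx, hx1⟩ := h.exists_x
    have h4 : (⟨_, χ.2.map_ringHom σ.toRingHom⟩ : IrrCharacter G) = χ := by
      set ψ : IrrCharacter G := ⟨_, χ.2.map_ringHom σ.toRingHom⟩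
      have h5 : dg ψ = dg χ := by
        have : (dg ψ : ℂ) = dg χ := by
          rw [cast_deg]; change σ.toRingHom _ = _; rw [← cast_deg, map_natCast]
        exact_mod_cast this
      have h6 : ψ ∈ irr (B0 O G) := by
        by_contra h7
        have := h.zero_of_not_mem hC h7 (h.sing hx hx1)
        change σ.toRingHom _ = _ at this
        simp [hsing x (h.sing hx hx1)] at this
      rcases (h.mem ψ).1 h6 with h7 | h7 | h7
      · rw [h7, show dg (triv G) = 1 from ch_deg_triv] at h5; omega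
      · rwa [h.X_eq hχ, Finset.mem_singleton] at h7
      · rw [h.degY_eq h7 hθ] at h5; omega
    have h5 : σ ((χ : G → ℂ) g) = (χ : G → ℂ) g := congrFun (congrArg Subtype.val h4) g
    rw [hσ _ χ.2.isGen, sq, (hreg g h3).2] at h5
    have h6 : ((χ : G → ℂ) g - 1) * ((χ : G → ℂ) g - (p - 1)) = 0 := by linear_combination h5
    rw [(hreg g h3).1]
    refine (mul_eq_zero.1 h6).resolve_right fun h7 => h1 ?_
    rw [← mem_bot, ← hf, χ.2.mem_charKer, sub_eq_zero.1 h7, ← cast_deg, ← hd]; simp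
  obtain ⟨b, m, hm, hbm⟩ := Nat.exists_eq_two_pow_mul_odd (Nat.card_pos (α := G)).ne'
  obtain ⟨k, rfl⟩ := (Nat.Coprime.pow_right b ((Nat.coprime_primes hp.out Nat.prime_two).2
    h.odd)).dvd_of_dvd_mul_left (hbm ▸ hpG)
  have hk : k ∣ dg θ := (Nat.dvd_iff_prime_pow_dvd_dvd _ _).2 fun r i hr hi => by
    haveI := Fact.mk hr
    obtain ⟨R, hR⟩ := Sylow.exists_subgroup_card_pow_prime r
      (hbm ▸ (hi.mul_left p).mul_left _ : r ^ i ∣ Nat.card G)
    haveI := Fintype.ofFinite R
    obtain ⟨j, hj⟩ := ch_sum_sub θ.2.isCharacter R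
    rw [ch_sum_const (fun y : R => (θ : G → ℂ) y) 0 fun y hy => by
      have h1 : orderOf (y : G) ∣ k := (R.orderOf_dvd_natCard y.2).trans (hR ▸ hi)
      refine h0 y (fun e => hy (Subtype.ext e)) (hm.of_dvd_nat (h1.mul_left p)) fun h2 => ?_
      have h3 := (P : Subgroup G).index_mul_card
      rw [h.card, hbm, mul_comm p, ← mul_assoc] at h3
      exact P.not_dvd_index (Nat.eq_of_mul_eq_mul_right hp.out.pos h3 ▸ (h2.trans h1).mul_left _),
      hR, mul_zero, add_zero, OneMemClass.coe_one, ← cast_deg] at hj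
    exact ⟨j, by exact_mod_cast hj⟩
  have := Nat.le_of_dvd (dg_pos θ) hk
  exact (bt_main hG Nat.prime_two h.odd (b := b) (g := k) (by rw [hbm]; ring) (by omega)).1

end D1

end H2
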