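import Mathlib

/-! Words for the double coset representatives of `2^11 : M24` in `J4`. -/

set_option autoImplicit false

namespace H2.Cov

def tab : List (ℕ × List ℕ) := [(6, [0, 2, 0, 2, 0, 2, 0, 1, 0, 1, 0, 2, 0, 2, 0, 2, 0, 2, 0, 1]), (419, [0, 1, 0, 2]), (663, [1, 0, 2, 0, 2, 0, 1, 0, 1, 0, 1, 0, 1, 0, 1]), (720, [1, 0, 2, 0, 1]), (1255, [2]), (1591, [1, 0, 1, 0, 1, 0, 1, 0, 1, 0, 2, 0, 1, 0, 2, 0, 2, 0, 1, 0, 1]), (2299, [0, 1, 0, 2, 0, 1, 0, 2, 0, 1, 0, 1]), (2331, [0, 2, 0, 2, 0, 1, 0, 1, 0, 2]), (2580, [2, 0, 1]), (2719, []), (2781, [1, 0, 1]), (2830, [0, 1, 0, 1, 0, 1, 0, 1, 0, 2, 0, 2, 0, 1]), (3076, [0, 2, 0, 2, 0,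 2, 0, 2, 0, 1]), (3082, [2, 0, 2, 0, 1, 0, 1]), (3278, [0, 1, 0, 2, 0, 2, 0, 2, 0, 2]), (3295, [0, 1, 0, 1, 0, 1]), (3776, [1, 0, 2, 0, 2, 0, 2, 0, 2, 0, 2, 0, 1]), (3778, [0, 2, 0, 1, 0, 1])]
def WL : List (List ℕ) := [[],
  [0, 1, 0, 2, 0, 2, 0, 2, 0, 2, 3, 1, 0, 1, 0, 1, 0, 1, 0, 2, 0],
  [2, 0, 1, 3, 2, 0, 1, 0, 1, 0, 2, 0, 2, 0, 2, 0, 2, 3, 1, 0, 1, 0, 1, 0, 1, 0, 2, 0],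
  [1, 0, 2, 0, 1, 3, 2, 0, 1, 0, 2, 2, 0, 1, 3, 2, 0, 1, 0, 1, 0, 2, 0, 2, 0, 2, 0, 2, 3, 1, 0, 1, 0, 1, 0, 1, 0, 2, 0],
  [3, 0, 1, 0, 2, 0, 2, 0, 2, 0, 2, 3, 1, 0, 1, 0, 1, 0, 1, 0, 2, 0],
  [2, 0, 2, 0, 1, 0, 1, 3, 2, 0, 2, 0, 1, 0, 1, 2, 0, 1, 3, 2, 0, 1, 0, 1, 0, 2, 0, 2, 0, 2, 0, 2, 3, 1, 0, 1, 0, 1, 0, 1, 0, 2, 0],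
  [1, 0, 2, 0, 2, 0, 1, 0, 1, 0, 1, 0, 1, 0, 1, 3, 2, 0, 2, 0, 2, 0, 2, 0, 2, 0, 1, 0, 1, 0, 2, 2, 0, 2, 0, 1, 0, 1, 3, 2, 0, 2, 0, 1, 0, 1, 2, 0, 1, 3, 2, 0, 1, 0, 1, 0, 2, 0, 2, 0, 2, 0, 2, 3, 1, 0, 1, 0, 1, 0, 1, 0, 2, 0],
  [0, 1, 0, 1, 0, 1, 0, 1, 0, 2, 0, 2, 0, 1, 3, 2, 0, 1, 0, 1, 0, 2, 0, 2, 0, 2, 0, 2, 0, 1, 0, 2, 0, 2, 0, 1, 0, 1, 0, 1, 0, 1, 0, 1, 3, 2, 0, 2, 0, 2, 0, 2, 0, 2, 0, 1, 0, 1, 0, 2, 2, 0, 2, 0, 1, 0, 1, 3, 2, 0, 2, 0, 1, 0, 1, 2, 0, 1, 3, 2, 0, 1, 0, 1, 0, 2, 0, 2, 0, 2, 0, 2, 3, 1, 0, 1, 0, 1, 0, 1, 0, 2, 0],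
  [0, 2, 0, 2, 0, 2, 0, 1, 0, 1, 0, 2, 0, 2, 0, 2, 0, 2, 0, 1, 3, 2, 0, 1, 0, 1, 0, 1, 0, 1, 0, 2, 0, 2, 0, 1, 0, 1, 0, 1, 0, 0, 1, 0, 1, 0, 1, 0, 1, 0, 2, 0, 2, 0, 1, 3, 2, 0, 1, 0, 1, 0, 2, 0, 2, 0, 2, 0, 2, 0, 1, 0, 2, 0, 2, 0, 1, 0, 1, 0, 1, 0, 1, 0, 1, 3, 2, 0, 2, 0, 2, 0, 2, 0, 2, 0, 1, 0, 1, 0, 2, 2, 0, 2, 0, 1, 0, 1, 3, 2, 0, 2, 0, 1, 0, 1, 2, 0, 1, 3, 2, 0, 1, 0, 1, 0, 2, 0, 2, 0, 2, 0, 2, 3, 1, 0, 1, 0, 1, 0, 1, 0, 2, 0],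
  [0, 1, 0, 1, 0, 1, 3, 2, 0, 2, 0, 2, 0, 0, 1, 0, 1, 0, 1, 0, 1, 0, 2, 0, 2, 0, 1, 3, 2, 0, 1, 0, 1, 0, 2, 0, 2, 0, 2, 0, 2, 0, 1, 0, 2, 0, 2, 0, 1, 0, 1, 0, 1, 0, 1, 0, 1, 3, 2, 0, 2, 0, 2, 0, 2, 0, 2, 0, 1, 0, 1, 0, 2, 2, 0, 2, 0, 1, 0, 1, 3, 2, 0, 2, 0, 1, 0, 1, 2, 0, 1, 3, 2, 0, 1, 0, 1, 0, 2, 0, 2, 0, 2, 0, 2, 3, 1, 0, 1, 0, 1, 0, 1, 0, 2, 0],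
  [1, 0, 1, 3, 2, 0, 2, 0, 1, 0, 1, 0, 1, 0, 1, 0, 2, 0, 2, 0, 1, 3, 2, 0, 1, 0, 1, 0, 2, 0, 2, 0, 2, 0, 2, 0, 1, 0, 2, 0, 2, 0, 1, 0, 1, 0, 1, 0, 1, 0, 1, 3, 2, 0, 2, 0, 2, 0, 2, 0, 2, 0, 1, 0, 1, 0, 2, 2, 0, 2, 0, 1, 0, 1, 3, 2, 0, 2, 0, 1, 0, 1, 2, 0, 1, 3, 2, 0, 1, 0, 1, 0, 2, 0, 2, 0, 2, 0, 2, 3, 1, 0, 1, 0, 1, 0, 1, 0, 2, 0],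
  [1, 0, 1, 0, 1, 0, 1, 0, 1, 0, 2, 0, 1, 0, 2, 0, 2, 0, 1, 0, 1, 3, 2, 0, 2, 0, 1, 0, 1, 0, 2, 0, 1, 0, 2, 0, 2, 0, 2, 0, 2, 0, 2, 1, 0, 1, 3, 2, 0, 2, 0, 1, 0, 1, 0, 1, 0, 1, 0, 2, 0, 2, 0, 1, 3, 2, 0, 1, 0, 1, 0, 2, 0, 2, 0, 2, 0, 2, 0, 1, 0, 2, 0, 2, 0, 1, 0, 1, 0, 1, 0, 1, 0, 1, 3, 2, 0, 2, 0, 2, 0, 2, 0, 2, 0, 1, 0, 1, 0, 2, 2, 0, 2, 0, 1, 0, 1, 3, 2, 0, 2, 0, 1, 0, 1, 2, 0, 1, 3, 2, 0, 1, 0, 1, 0, 2, 0, 2, 0, 2, 0, 2, 3, 1, 0, 1, 0, 1, 0, 1, 0, 2, 0],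
  [2, 3, 1, 1, 0, 1, 0, 1, 0, 1, 0, 1, 0, 2, 0, 1, 0, 2, 0, 2, 0, 1, 0, 1, 3, 2, 0, 2, 0, 1, 0, 1, 0, 2, 0, 1, 0, 2, 0, 2, 0, 2, 0, 2, 0, 2, 1, 0, 1, 3, 2, 0, 2, 0, 1, 0, 1, 0, 1, 0, 1, 0, 2, 0, 2, 0, 1, 3, 2, 0, 1, 0, 1, 0, 2, 0, 2, 0, 2, 0, 2, 0, 1, 0, 2, 0, 2, 0, 1, 0, 1, 0, 1, 0, 1, 0, 1, 3, 2, 0, 2, 0, 2, 0, 2, 0, 2, 0, 1, 0, 1, 0, 2, 2, 0, 2, 0, 1, 0, 1, 3, 2, 0, 2, 0, 1, 0, 1, 2, 0, 1, 3, 2, 0, 1, 0, 1, 0, 2, 0, 2, 0, 2, 0, 2, 3, 1, 0, 1, 0, 1, 0, 1, 0, 2, 0],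
  [0, 2, 0, 2, 0, 2, 0, 2, 0, 1, 3, 2, 0, 1, 0, 1, 0, 1, 0, 1, 0, 2, 3, 1, 1, 0, 1, 0, 1, 0, 1, 0, 1, 0, 2, 0, 1, 0, 2, 0, 2, 0, 1, 0, 1, 3, 2, 0, 2, 0, 1, 0, 1, 0, 2, 0, 1, 0, 2, 0, 2, 0, 2, 0, 2, 0, 2, 1, 0, 1, 3, 2, 0, 2, 0, 1, 0, 1, 0, 1, 0, 1, 0, 2, 0, 2, 0, 1, 3, 2, 0, 1, 0, 1, 0, 2, 0, 2, 0, 2, 0, 2, 0, 1, 0, 2, 0, 2, 0, 1, 0, 1, 0, 1, 0, 1, 0, 1, 3, 2, 0, 2, 0, 2, 0, 2, 0, 2, 0, 1, 0, 1, 0, 2, 2, 0, 2, 0, 1, 0, 1, 3, 2, 0, 2, 0, 1, 0, 1, 2, 0, 1, 3, 2, 0, 1, 0, 1, 0, 2, 0, 2, 0, 2, 0, 2, 3, 1, 0, 1, 0, 1, 0, 1, 0, 2, 0],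
  [0, 1, 0, 2, 0, 1, 0, 2, 0, 1, 0, 1, 3, 2, 0, 2, 0, 1, 0, 2, 0, 1, 0, 2, 0, 2, 0, 2, 0, 1, 0, 1, 3, 2, 0, 2, 0, 1, 0, 1, 2, 0, 1, 3, 2, 0, 1, 0, 1, 0, 2, 0, 2, 0, 2, 0, 2, 3, 1, 0, 1, 0, 1, 0, 1, 0, 2, 0],
  [1, 0, 2, 0, 2, 0, 2, 0, 2, 0, 2, 0, 1, 3, 2, 0, 1, 0, 1, 0, 1, 0, 1, 0, 1, 0, 2, 2, 0, 2, 0, 1, 0, 1, 3, 2, 0, 2, 0, 1, 0, 1, 2, 0, 1, 3, 2, 0, 1, 0, 1, 0, 2, 0, 2, 0, 2, 0, 2, 3, 1, 0, 1, 0, 1, 0, 1, 0, 2, 0],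
  [3, 0, 1, 0, 1, 0, 1, 0, 1, 0, 2, 0, 2, 0, 1, 3, 2, 0, 1, 0, 1, 0, 2, 0, 2, 0, 2, 0, 2, 0, 1, 0, 2, 0, 2, 0, 1, 0, 1, 0, 1, 0, 1, 0, 1, 3, 2, 0, 2, 0, 2, 0, 2, 0, 2, 0, 1, 0, 1, 0, 2, 2, 0, 2, 0, 1, 0, 1, 3, 2, 0, 2, 0, 1, 0, 1, 2, 0, 1, 3, 2, 0, 1, 0, 1, 0, 2, 0, 2, 0, 2, 0, 2, 3, 1, 0, 1, 0, 1, 0, 1, 0, 2, 0],
  [0, 1, 0, 2, 3, 1, 0, 2, 0, 2, 0, 1, 3, 2, 0, 1, 0, 1, 0, 2, 0, 2, 0, 2, 0, 2, 3, 1, 0, 1, 0, 1, 0, 1, 0, 2, 0],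
  [0, 2, 0, 2, 0, 1, 0, 1, 0, 2, 3, 1, 0, 2, 0, 2, 0, 1, 0, 1, 0, 3, 0, 1, 0, 2, 0, 2, 0, 2, 0, 2, 3, 1, 0, 1, 0, 1, 0, 1, 0, 2, 0],
  [0, 2, 0, 1, 0, 1, 3, 2, 0, 2, 0, 1, 0, 1, 0, 2, 0, 1, 3, 2, 0, 1, 0, 2, 2, 0, 1, 3, 2, 0, 1, 0, 1, 0, 2, 0, 2, 0, 2, 0, 2, 3, 1, 0, 1, 0, 1, 0, 1, 0, 2, 0]]
def oL : List ℕ := [1, 3795, 318780, 1275120, 5100480, 1912680, 478170, 26565, 11385, 2550240, 2550240, 1771, 53130, 212520, 7650720, 15301440, 40803840, 81607680, 12241152, 967680]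

end H2.Cov
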