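import Cfsg.Agent.H7.J4i
import Cfsg.Agent.H2.CovD

/-! The double cosets of `2^11 : M24` in `J4` with explicit representatives. -/

set_option maxRecDepth 100000
set_option autoImplicit false

namespace H2.Cov
open H27 H28 H28.Dc H7.J4 H7.JD Cfsg MulAction
open scoped Pointwise

def wl (l : ℕ) : List ℕ := (tab.lookup l).getD []
def cw (w : List ℕ) : List ℕ := w ++ 3 :: (w.map iv).reverse
noncomputable def chkW (ls : List ℕ) : Bool :=
  ls.all fun l => (decide (l < 3795) && fm (catN mN (wl l)) jP.l0 (lab jP l)) &&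
    (wl l).all fun a => decide (a < 3)

theorem tb : ∀ i < 20, 244823040 / (jVs.getD i jV0).c = oL.getD i 0 ∧
    chkW (nth [] jP.Ws (jVs.getD i jV0).i) = true ∧
    WL.getD i [] = (nth [] jP.Ws (jVs.getD i jV0).i).flatMap fun l => cw (wl l) := by
  decide +kernel

theorem ev4 {G : Type} [Group G] (a b c t : G) {w : List ℕ} (h : ∀ i ∈ w, i < 3) :
    ev [a, b, c, t] w = ev [a, b, c] w := by
  induction w with
  | nil => rfl
  | cons g w ih =>
    rw [ev_cons, ev_cons, ih fun i hi => h i (List.mem_cons_of_mem _ hi)]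
    have := h g List.mem_cons_self
    congr 1
    interval_cases g <;> rfl

theorem ev_cw {G : Type} [Group G] {a b t : G} (h : a * a = 1) {w : List ℕ}
    (hw : (w.all fun a => decide (a < 3)) = true) :
    ev [a, b, b⁻¹] w * t * (ev [a, b, b⁻¹] w)⁻¹ = ev [a, b, b⁻¹, t] (cw w) := by
  have h1 : ∀ i ∈ w, i < 3 := by simpa using hw
  rw [cw, ev_append, ev_cons, ev4 _ _ _ _ h1, ev4, ev_iv h, mul_assoc]
  · rfl
  · intro i hi
    obtain ⟨j, hj, rfl⟩ := List.mem_map.1 (List.mem_reverse.1 hi)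
    have := h1 j hj
    unfold iv
    split_ifs <;> omega

theorem cov {G : Type} [Group G] {x y t : G} (h1 : x ^ 2 = 1) (h2 : y ^ 3 = 1) (h3 : (x * y) ^ 23 = 1)
    (h4 : (x⁻¹ * y⁻¹ * x * y) ^ 12 = 1)
    (h5 : (x⁻¹ * (y * x * y)⁻¹ * x * (y * x * y)) ^ 5 = 1) (h6 : (x * y * ((x * y * x * (y⁻¹)) ^ 3)) ^ 4 = 1)
    (h7 : ((x * y * x * y * x * (y⁻¹)) ^ 3) * ((x * y * x * (y⁻¹) * x * (y⁻¹)) ^ 3) = 1) (h8 : t ^ 2 = 1)
    (h9 : t⁻¹ * (y * x * y * ((x * (y⁻¹)) ^ 2) * ((x * y) ^ 3))⁻¹ * t * (y * x * y * ((x * (y⁻¹)) ^ 2) * ((x * y) ^ 3)) = 1)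
    (h10 : t⁻¹ * x⁻¹ * t * x = 1)
    (h11 : (y * ((y * x * (y⁻¹) * x * y * x * (y⁻¹) * x)⁻¹ * t * (y * x * (y⁻¹) * x * y * x * (y⁻¹) * x))) ^ 3 = 1)
    (h12 : (((y * x * y * x * y * x * y) ^ 3) * t * ((((x * y) ^ 3) * y * ((x * y) ^ 6) * y)⁻¹ * t *
      (((x * y) ^ 3) * y * ((x * y) ^ 6) * y))) ^ 2 = 1)
    (htop : Subgroup.closure {x, y, t} = ⊤) (H : Subgroup G) (hx : x ∈ H) (hy : y ∈ H)
    (he : (y * ((y * x) ^ 4 * y⁻¹ * x)⁻¹ * t * ((y * x) ^ 4 * y⁻¹ * x)) ^ 3 ∈ H) :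
    ∃ O : Fin 20 → Set (G ⧸ H), (∀ g : G, ∃ i, (g : G ⧸ H) ∈ O i) ∧
      (∀ i, (O i).ncard ≤ oL.getD i 0) ∧ ∀ i (g : G), (g : G ⧸ H) ∈ O i →
        ∃ k ∈ H, ∃ h ∈ H, g = k * ev [x, y, y⁻¹, t] (WL.getD i []) * h := by
  have hr := rels7 h1 h2 h3 h4 h5 h6 h7
  obtain ⟨π, hπ⟩ := hom hr
  have hxx : x * x = 1 := by rwa [← sq]
  have htt : t * t = 1 := by rwa [← sq]
  have hX : x⁻¹ = x := inv_eq_of_mul_eq_one_right hxx
  have ea : ev [x, y, y⁻¹] wa = (y * x * (y⁻¹) * x * y * x * (y⁻¹) * x) * y * (y * x * (y⁻¹) * x * y * x * (y⁻¹) * x)⁻¹ := by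
    simp only [wa, ev_cons, ev_nil, List.getD_cons_zero, List.getD_cons_succ, mul_one, mul_inv_rev, hX, inv_inv,
      mul_assoc]
  have eb : ev [x, y, y⁻¹] wb = (((x * y) ^ 3) * y * ((x * y) ^ 6) * y)⁻¹ := by
    simp only [wb, ev_cons, ev_nil, List.getD_cons_zero, List.getD_cons_succ, mul_one, mul_inv_rev, hX, inv_inv,
      mul_assoc, pow_succ, pow_zero, one_mul]
  have ec : ev [x, y, y⁻¹] wc = (((x * y) ^ 3) * y * ((x * y) ^ 6) * y) * ((y * x * y * x * y * x * y) ^ 3) := by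
    simp only [wc, ev_cons, ev_nil, List.getD_cons_zero, List.getD_cons_succ, mul_one, mul_inv_rev, hX, inv_inv,
      mul_assoc, pow_succ, pow_zero, one_mul]
  have eu : ev [x, y, y⁻¹] wu = y * x * y * ((x * (y⁻¹)) ^ 2) * ((x * y) ^ 3) := by
    simp only [wu, ev_cons, ev_nil, List.getD_cons_zero, List.getD_cons_succ, mul_one, mul_inv_rev, hX, inv_inv,
      mul_assoc, pow_succ, pow_zero, one_mul]
  have ed : ev [x, y, y⁻¹] wd = ((y * x) ^ 4 * y⁻¹ * x)⁻¹ := by
    simp only [H7.JD.wd, ev_cons, ev_nil, List.getD_cons_zero, List.getD_cons_succ, mul_one, mul_inv_rev, hX, inv_inv,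
      mul_assoc, pow_succ, pow_zero, one_mul]
  have e0 : ev [x, y, y⁻¹] [0] = x := ev_single _ _
  have hR := rr (a := ev [x, y, y⁻¹] wa) (b := ev [x, y, y⁻¹] wb) (c := ev [x, y, y⁻¹] wc) htt (by
      rw [ea]
      generalize y * x * (y⁻¹) * x * y * x * (y⁻¹) * x = w at h11 ⊢
      rw [show w * y * w⁻¹ * t = w * (y * (w⁻¹ * t * w)) * w⁻¹ by group, conj_pow, h11]; simp) (by
      rw [eb, ec]
      generalize ((x * y) ^ 3) * y * ((x * y) ^ 6) * y = w at h12 ⊢
      generalize (y * x * y * x * y * x * y) ^ 3 = v at h12 ⊢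
      rw [show w * v * t * w⁻¹ * t = w * (v * t * (w⁻¹ * t * w)) * w⁻¹ by group, conj_pow, h12]; simp)
  obtain ⟨T, T0, eqv⟩ := exists_T' (π := π) (t := t) (l0 := GE.fam jP.l0) fun g hg => by
    rw [stab_l0] at hg
    refine ((Subgroup.mem_centralizer_iff.1 (cl_le (H := (Subgroup.centralizer {t}).comap π)
      (fun g hg => ?_) hg)) _ rfl).symm
    rw [Subgroup.mem_comap, Subgroup.mem_centralizer_iff]
    intro t' ht'
    rw [show t' = t from ht']
    simp only [List.map_cons, List.map_nil, List.mem_cons, List.not_mem_nil, or_false] at hg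
    rcases hg with rfl | rfl
    · rw [hπ, e0]
      calc _ = x * t * (t⁻¹ * x⁻¹ * t * x) := by group
        _ = _ := by rw [h10, mul_one]
    · rw [hπ, eu]
      generalize y * x * y * ((x * (y⁻¹)) ^ 2) * ((x * y) ^ 3) = u at h9 ⊢
      calc _ = u * t * (t⁻¹ * u⁻¹ * t * u) := by group
        _ = _ := by rw [h9, mul_one]
  have hH : ∀ k, π k ∈ H := fun k => cl_le (H := H.comap π) (gs := mN.map mm) (fun g hg => by
    obtain ⟨i, hi, rfl⟩ := List.getElem_of_mem hg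
    rw [Subgroup.mem_comap, ← List.getD_eq_getElem _ 1, ← ev_single, hπ, ev_single]
    rcases i with _ | _ | _ | i
    exacts [hx, hy, inv_mem hy, one_mem _]) (mN_top ▸ Subgroup.mem_top k)
  have hT : ∀ w l, fm (catN mN w) jP.l0 (lab jP l) = true →
      T (GE.fam (lab jP l)) = ev [x, y, y⁻¹] w * t * (ev [x, y, y⁻¹] w)⁻¹ := fun w l h => by
    rw [← fm_spec (acts_catN mN_acts w) h, ← hπ, ← T0, eqv, mul_inv_cancel_right]
  have C : Ctx jP (jW.map (ev (mN.map mm))) π t T _ ((1 : G) : G ⧸ H) := ⟨jW_acts, T0, eqv, htt, fun a ha => by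
      interval_cases a <;> simp only [jW, List.map_cons, List.getD_cons_zero, List.getD_cons_succ, hπ, ev_iv hxx],
    rfl, hR, fun k => by rw [← mem_stabilizer_iff, stabilizer_quotient]; exact hH k, by
      rw [← mem_stabilizer_iff, stabilizer_quotient]
      simp only [jP, List.map_cons, List.map_nil, List.prod_cons, List.prod_nil]
      rw [if_pos (by norm_num), if_pos (by norm_num), if_pos (by norm_num)]
      change T (GE.fam (lab jP 762)) * (T (GE.fam (lab jP 2569)) * (T (GE.fam (lab jP 3278)) * 1)) ∈ H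
      rw [hT (1 :: wd) _ (by decide +kernel), hT (1 :: 1 :: wd) _ (by decide +kernel), hT wd _ (by decide +kernel)]
      simp only [ev_cons, List.getD_cons_zero, List.getD_cons_succ, ed]
      generalize (y * x) ^ 4 * y⁻¹ * x = w at he ⊢
      have : y * w⁻¹ * t * (y * w⁻¹)⁻¹ * (y * (y * w⁻¹) * t * (y * (y * w⁻¹))⁻¹ * (w⁻¹ * t * w⁻¹⁻¹ * 1)) =
          (y * w⁻¹ * t * w) ^ 2 * y * (y ^ 3)⁻¹ * (w⁻¹ * t * w) * 1 := by simp only [pow_succ]; group
      rw [this, h2]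
      convert he using 1
      simp only [pow_succ]; group⟩
  have hG : Good jP π T ((1 : G) : G ⧸ H) 3280 :=
    ((((((((((((((((Good.zero.run C jr0).run C jr205).run C jr410).run C jr615).run C jr820).run C jr1025).run C jr1230).run C jr1435).run C jr1640).run C jr1845).run C jr2050).run C jr2255).run C jr2460).run C jr2665).run C jr2870).run C jr3075)
  have hW : ∀ ls : List ℕ, chkW ls = true →
      (ls.map (TT jP T)).prod = ev [x, y, y⁻¹, t] (ls.flatMap fun l => cw (wl l)) := by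
    intro ls h
    induction ls with
    | nil => rfl
    | cons l ls ih =>
      simp only [chkW, List.all_cons, Bool.and_eq_true, decide_eq_true_eq] at h
      rw [List.map_cons, List.prod_cons, List.flatMap_cons, ev_append,
        ih (by simpa only [chkW] using h.2), TT_lt h.1.1.1, hT _ _ h.1.1.2, ev_cw hxx h.1.2]
  refine ⟨fun i => Set.range fun k => π k • vtx jP T ((1 : G) : G ⧸ H) (jVs.getD i jV0).i,
    fun g => ?_, fun i => ?_, fun i g ⟨k, hk⟩ => ?_⟩
  · obtain ⟨r, hr, k, e⟩ := cover C jP_lab hG jVs_ok rfl (by simp) rfl l0_mem (A := {x, y, t})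
      (g := g) (by
        rintro _ (rfl | rfl | rfl)
        exacts [Or.inl ⟨_, (hπ [0]).trans e0⟩, Or.inl ⟨_, (hπ [1]).trans (ev_single _ _)⟩, Or.inr rfl])
      (htop ▸ Subgroup.mem_top g)
    rw [Quotient.smul_mk, smul_eq_mul, mul_one] at e
    obtain ⟨i, hi, rfl⟩ := List.getElem_of_mem hr
    refine ⟨⟨i, hi⟩, k, ?_⟩
    simp only [List.getD_eq_getElem _ _ hi]
    exact e.symm
  · have hi : (i : ℕ) < jVs.length := i.2
    have h1 := (jVs_ok _ (List.getElem_mem hi)).card hG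
    rw [← List.getD_eq_getElem _ jV0 hi] at h1
    exact h1.trans (tb i i.2).1.le
  · simp only [H7.JD.vtx] at hk
    rw [hW _ (tb i i.2).2.1, ← (tb i i.2).2.2, Quotient.smul_mk, Quotient.smul_mk, smul_eq_mul,
      smul_eq_mul, mul_one, QuotientGroup.eq] at hk
    exact ⟨π k, hH k, _, hk, by group⟩

end H2.Cov
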