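import Mathlib

/-! A double count bounding the order of a centralizer. -/

set_option autoImplicit false

open Subgroup

namespace H2.Dc

theorem fib {G : Type*} [Group G] [Finite G] (z s t : G) (h : IsConj z s) (h' : IsConj s t) :
    {g : G | g⁻¹ * s * g = t}.ncard = Nat.card (centralizer ({z} : Set G)) := by
  obtain ⟨a, rfl⟩ := isConj_iff.1 h
  obtain ⟨c, rfl⟩ := isConj_iff.1 h'
  rw [← Nat.card_coe_set_eq]
  symm
  refine Nat.card_congr (Equiv.subtypeEquiv ((Equiv.mulLeft a).trans (Equiv.mulRight (a⁻¹ * c⁻¹)))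
    fun g => ?_)
  simp only [mem_centralizer_singleton_iff, Equiv.trans_apply, Equiv.coe_mulLeft,
    Equiv.coe_mulRight, Set.mem_setOf_eq]
  constructor
  · intro e
    calc _ = c * a * (g⁻¹ * (z * g)) * a⁻¹ * c⁻¹ := by group
      _ = _ := by rw [← e]; group
  · intro e
    have : g⁻¹ * z * g = z := by
      calc _ = a⁻¹ * c⁻¹ * ((a * g * (a⁻¹ * c⁻¹))⁻¹ * (a * z * a⁻¹) * (a * g * (a⁻¹ * c⁻¹))) *
            c * a := by group
        _ = _ := by rw [e]; group
    calc g * z = g * (g⁻¹ * z * g) := by rw [this]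
      _ = _ := by group

theorem dc {G : Type*} [Group G] [Finite G] (H : Subgroup G) (z : G) (S : Set G)
    (hS : ∀ g, g ∈ S ↔ ∃ h ∈ H, g = h * z * h⁻¹) {ι : Type*} [Fintype ι] (O : ι → Set (G ⧸ H))
    (o n : ι → ℕ) (hcov : ∀ g : G, ∃ i, (g : G ⧸ H) ∈ O i) (hO : ∀ i, (O i).ncard ≤ o i)
    (hn : ∀ i (g : G), (g : G ⧸ H) ∈ O i → {s | s ∈ S ∧ g⁻¹ * s * g ∈ S}.ncard ≤ n i) :
    S.ncard ^ 2 * Nat.card (centralizer ({z} : Set G)) ≤ Nat.card H * ∑ i, o i * n i := by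
  classical
  haveI := Fintype.ofFinite G
  haveI := Fintype.ofFinite (G ⧸ H)
  have cz : ∀ s ∈ S, IsConj z s := fun s hs => by
    obtain ⟨h, -, rfl⟩ := (hS s).1 hs
    exact isConj_iff.2 ⟨h, rfl⟩
  have nc : ∀ p : G → Prop, {g | p g}.ncard = ∑ g, if p g then 1 else 0 := fun p => by
    rw [← Finset.card_filter, ← Set.ncard_coe_finset]; congr 1; ext g; simp
  have e1 : ∀ s ∈ S, (∑ g : G, if g⁻¹ * s * g ∈ S then 1 else 0) =
      S.ncard * Nat.card (centralizer ({z} : Set G)) := fun s hs => by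
    have h1 : ∀ g : G, (if g⁻¹ * s * g ∈ S then 1 else 0) =
        ∑ t, if t ∈ S then (if g⁻¹ * s * g = t then 1 else 0) else 0 := fun g => by
      rw [Finset.sum_eq_single (g⁻¹ * s * g)]
      · simp
      · intro t _ ht; simp [ht.symm]
      · simp
    simp only [h1]
    rw [Finset.sum_comm, show S.ncard = _ from nc (· ∈ S), Finset.sum_mul]
    refine Finset.sum_congr rfl fun t _ => ?_
    by_cases ht : t ∈ S
    · simp only [ht, if_true, one_mul]
      rw [← nc, fib z s t (cz s hs) ((cz s hs).symm.trans (cz t ht))]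
    · simp [ht]
  have e2 : S.ncard ^ 2 * Nat.card (centralizer ({z} : Set G)) =
      ∑ g : G, {s | s ∈ S ∧ g⁻¹ * s * g ∈ S}.ncard := by
    simp only [nc]
    rw [Finset.sum_comm, sq, mul_assoc]
    nth_rewrite 1 [show S.ncard = _ from nc (· ∈ S)]
    rw [Finset.sum_mul]
    refine Finset.sum_congr rfl fun s _ => ?_
    by_cases hs : s ∈ S
    · simp only [hs, if_true, one_mul, true_and]
      exact (e1 s hs).symm
    · simp [hs]
  have e3 : ∀ g : G, {s | s ∈ S ∧ g⁻¹ * s * g ∈ S}.ncard ≤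
      ∑ i, if (g : G ⧸ H) ∈ O i then n i else 0 := fun g => by
    obtain ⟨i, hi⟩ := hcov g
    refine (hn i g hi).trans ?_
    have := Finset.single_le_sum (f := fun i => if (g : G ⧸ H) ∈ O i then n i else 0)
      (fun _ _ => Nat.zero_le _) (Finset.mem_univ i)
    simpa [hi] using this
  rw [e2, Finset.mul_sum]
  refine (Finset.sum_le_sum fun g _ => e3 g).trans ?_
  rw [Finset.sum_comm]
  refine Finset.sum_le_sum fun i _ => ?_
  rw [← Finset.sum_filter, Finset.sum_const, smul_eq_mul, ← mul_assoc]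
  refine Nat.mul_le_mul_right _ ?_
  have h1 := QuotientGroup.card_preimage_mk H (O i)
  have h2 : (Finset.univ.filter fun g : G => (g : G ⧸ H) ∈ O i).card =
      Nat.card (QuotientGroup.mk ⁻¹' O i : Set G) := by
    rw [Nat.card_coe_set_eq, ← Set.ncard_coe_finset]; congr 1; ext g; simp
  rw [h2, h1, Nat.card_coe_set_eq]
  exact Nat.mul_le_mul_left _ (hO i)

theorem dc_inv {G : Type*} [Group G] (H : Subgroup G) (z : G) (S : Set G)
    (hS : ∀ g, g ∈ S ↔ ∃ h ∈ H, g = h * z * h⁻¹) (g : G) {k h : G} (hk : k ∈ H) (hh : h ∈ H) :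
    {s | s ∈ S ∧ (k * g * h)⁻¹ * s * (k * g * h) ∈ S}.ncard =
      {s | s ∈ S ∧ g⁻¹ * s * g ∈ S}.ncard := by
  have c1 : ∀ u ∈ H, ∀ s ∈ S, u * s * u⁻¹ ∈ S := fun u hu s hs => by
    obtain ⟨v, hv, rfl⟩ := (hS s).1 hs
    exact (hS _).2 ⟨u * v, mul_mem hu hv, by group⟩
  have c2 : ∀ u ∈ H, ∀ s, u * s * u⁻¹ ∈ S ↔ s ∈ S := fun u hu s =>
    ⟨fun h => by simpa [mul_assoc] using c1 _ (inv_mem hu) _ h, c1 u hu s⟩
  rw [← Set.ncard_image_of_injective _ (MulAut.conj k⁻¹).injective]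
  congr 1
  ext s
  simp only [Set.mem_image, Set.mem_setOf_eq, MulAut.conj_apply]
  constructor
  · rintro ⟨t, ⟨h1, h2⟩, rfl⟩
    refine ⟨c1 _ (inv_mem hk) _ h1, ?_⟩
    have := c1 _ hh _ h2
    convert this using 1
    group
  · rintro ⟨h1, h2⟩
    refine ⟨k * s * k⁻¹, ⟨c1 _ hk _ h1, ?_⟩, by group⟩
    have := c1 _ (inv_mem hh) _ h2
    convert this using 1
    group

end H2.Dc
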