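import Cfsg.Agent.H2.JW
/-! Word models of the small groups met in the Janko groups J2, J3. -/
set_option maxRecDepth 100000
set_option Elab.async false
namespace H2
open H27 H28
noncomputable section
universe u
def ja5_R : List (List Nat) := [[0, 1], [2, 2], [3, 3], [1, 0], [0, 0, 0], [0, 2, 0, 2, 0, 2], [0, 3, 0, 3], [2, 3, 2, 3, 2, 3]]
def ja5_W1 : List (List Nat) := [[0, 0, 0], [0, 3, 0, 3], [0, 2, 0, 2, 0, 2], [2, 3, 2, 3, 2, 3], [1, 0], [2, 2], [3, 3]]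
theorem ja5_i1 : Impl.{u} 4 ja5_R ja5_W1 := Impl.refl.trans (impl_of_sub (R := ja5_R) [4, 6, 5, 7, 3, 1, 2] (by decide +kernel))
def ja5_N0 : Net := (.cons 1 0x444040111451155 (.cons 2 0x202020300030122 (.cons 4 0xa0305090c0a00 (.cons 8 0x8005000190034 (.cons 16 0xb3d0000ba40 (.cons 32 0xc3000 (.cons 16 0xc00003000 (.cons 8 0x8001000900000 (.cons 4 0xa030501040200 (.cons 2 0x202020310201000 (.cons 1 0x111404554401154 .nil)))))))))))
def ja5_N1 : Net := (.cons 1 0x111040001154401 (.cons 2 0x222000230012111 (.cons 4 0x70b03090500 (.cons 8 0xb000330078 (.cons 16 0x33b00007590 (.cons 32 0x87000 (.cons 16 0x800007000 (.cons 8 0x3000200010 (.cons 4 0x70b02080400 (.cons 2 0x222000210120300 (.cons 1 0x444404444104400 .nil)))))))))))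
def ja5_N2 : Net := (.cons 1 0x555444401041545 (.cons 2 0x111132023303 (.cons 4 0xb0d01090706 (.cons 8 0xd0000b0010 (.cons 16 0xdff0000fb90 (.cons 32 0x466b000 (.cons 16 0x4660000b000 (.cons 8 0x9200490080 (.cons 4 0x9090a0c0000 (.cons 2 0x333111102320030 (.cons 1 0x101150514010 .nil)))))))))))
def ja5_N3 : Net := (.cons 1 0x555515505505045 (.cons 2 0x333210103212120 (.cons 4 0x30f090f0b0303 (.cons 8 0xf0039004f00cc (.cons 16 0x8560000f380 (.cons 32 0x8568000 (.cons 16 0x85600008000 (.cons 8 0x8e00700000 (.cons 4 0xc000104040000 (.cons 2 0x120233121210 (.cons 1 0x40510 .nil)))))))))))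
def ja5_L0 : List Nat := [0x333318d111a9, 0x5554445ad6aab52, 0]
def ja5_D0 : Nat := 0xaaa888842044404
def ja5_L1 : List Nat := [0xaaabbbb5addddbd, 0xaaa88894a4ccd14, 0x84200040]
def ja5_D1 : Nat := 0x555444421022202
def ja5_L2 : List Nat := [0xccc444d8d6e8d57, 0x444444401062600, 0xbbb888862004000]
def ja5_D2 : Nat := 0x3332109110a8
def ja5_L3 : List Nat := [0xf2e7464210666af, 0xc0646631911000, 0xfff9b9842000000]
def ja5_D3 : Nat := 0x18c688950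
def ja5_Nb : List Net := [ja5_N0, ja5_N1, ja5_N2, ja5_N3]
def ja5_Ns : List Net := [ja5_N0, ja5_N1, ja5_N2, ja5_N3]
def ja5_Lv : List (List Nat) := [ja5_L0, ja5_L1, ja5_L2, ja5_L3]
def ja5_As : List (List Nat) := []
def ja5_Ds : List Nat := [ja5_D0, ja5_D1, ja5_D2, ja5_D3]
def ja5_Sb : List (List Nat) := []
theorem ja5_val : Enum.validL 60 ja5_Ns = true := by decide +kernel
theorem ja5_fix : FixR 60 ja5_Ns ja5_R := fixR_of_relA (K := 6) ja5_val (by decide +kernel)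
theorem ja5_fix1 : FixR 60 ja5_Ns ja5_W1 := ja5_fix.impl ja5_val rfl ja5_i1
theorem ja5_tree0 : TreeOk 60 ja5_Ns ja5_Ds 4 := TreeOk.step (K := 6) (a := 0) (c := 4) (ok_of_validL ja5_val) (treeOk_zero _ _ _) (by decide +kernel)
theorem ja5_c0 : cosChk 60 3 0 4 ja5_Ns ja5_Lv ja5_As ja5_Ds ja5_W1 ja5_Sb 0 [(0, 1, false), (1, 2, false), (2, 2, false), (3, 2, false), (4, 2, false), (5, 1, false), (6, 1, false)] = true := by decide +kernel
theorem ja5_cert : Cert 60 ja5_Ns ja5_W1 ja5_Sb := Cert.of (S := 0) ja5_val ja5_fix1 ja5_tree0 (Cov.zero.step ja5_c0) (by decide +kernel)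
theorem ja5_idx : Idx.{u} 4 ja5_R ja5_Sb 60 := ja5_cert.idx rfl ja5_i1
theorem ja5_pres : Pres.{u} 4 ja5_R 60 := ja5_cert.pres rfl ja5_i1 PSub.nil (c := 60) (by norm_num)
def ja5_Mb : List Net := [(.cons 1 0x5 (.cons 2 0x2 (.cons 1 0x4 .nil))), (.cons 1 0x1 (.cons 2 0x1 .nil)), (.cons 1 0x5 .nil), (.cons 1 0x5 (.cons 2 0x1 (.cons 4 0x1 (.cons 2 0x1 (.cons 1 0x4 .nil)))))]
theorem ja5_valb : Enum.validL 5 ja5_Mb = true := by decide +kernel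
theorem ja5_fixb : FixR 5 ja5_Mb ja5_R := fixR_of_relA (K := 3) ja5_valb (by decide +kernel)
theorem ja5_rels : Rels (perms 5 ja5_Mb) ja5_R := rels_perms ja5_valb ja5_fixb
theorem ja5_le : 60 ≤ Nat.card (cl (perms 5 ja5_Mb)) := le_card_netGrp (K := 3) (by norm_num) (ok_of_mem ja5_valb) [] [3, 0, 2, 1] [(4, 2, 1), (4, 0, 1), (3, 2, 1), (0, 2, 1)] (by decide +kernel)
theorem ja5_univ : Univ.{u} ja5_R (perms 5 ja5_Mb) := Univ.of_pres ja5_pres rfl ja5_rels ja5_le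
def jh_R : List (List Nat) := [[0, 1], [2, 2], [3, 3], [4, 4], [5, 5], [6, 6], [1, 0], [0, 0, 0], [0, 2, 0, 2, 0, 2], [0, 3, 0, 3], [2, 3, 2, 3, 2, 3], [4, 1, 4, 0], [4, 2, 4, 2], [3, 4, 3, 5], [4, 5, 4, 5, 6], [6, 1, 6, 0], [6, 2, 6, 2], [6, 3, 6, 3], [0, 2, 5, 2, 1, 0, 0, 2, 5, 2, 1, 1, 2, 5, 2, 5, 4]]
def jh_W1 : List (List Nat) := [[0, 3, 0, 3], [4, 1, 4, 0], [4, 2, 4, 2], [3, 4, 3, 5], [6, 2, 6, 2], [4, 5, 4, 5, 6], [0, 2, 0, 2, 0, 2], [2, 3, 2, 3, 2, 3], [0, 2, 5, 2, 0, 2, 5, 2, 1, 1, 2, 5, 2, 5, 4], [1, 0], [2, 2], [3, 3], [4, 4], [5, 5], [6, 6]]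
def jh_i1T : Tr := (.node 10 (.node 5 (.node 2 (.node 1 (.leaf 2 129 0 0 0 0 0 0 0) (.leaf 2 195 0 0 0 0 0 0 0)) (.node 3 (.leaf 2 260 0 0 0 0 0 0 0) (.node 4 (.leaf 2 325 0 0 0 0 0 0 0) (.leaf 2 390 0 0 0 0 0 0 0)))) (.node 7 (.node 6 (.leaf 2 455 0 0 0 0 0 0 0) (.leaf 2 66 0 0 0 0 0 0 0)) (.node 8 (.leaf 3 4161 0 0 0 0 0 0 0) (.node 9 (.leaf 6 0xc10c10c1 0 0 0 0 0 0 0) (.leaf 4 0x101101 0 0 0 0 0 0 0))))) (.node 15 (.node 12 (.node 11 (.leaf 6 0x103103103 0 0 0 0 0 0 0) (.leaf 4 282757 0 0 0 0 0 0 0)) (.node 13 (.leaf 4 807109 0 0 0 0 0 0 0) (.node 14 (.leaf 4 0x184144 0 0 0 0 0 0 0) (.leaf 5 0x7185185 0 0 0 0 0 0 0)))) (.node 17 (.node 16 (.leaf 4 290951 0 0 0 0 0 0 0) (.leaf 4 815303 0 0 0 0 0 0 0)) (.node 18 (.leaf 4 0x107107 0 0 0 0 0 0 0) (.node 19 (.leaf 17 0x51831830820c60c10420c60c1 0 0 0 0 0 0 0) (.leaf 15 0x51831830820c60c10c60c1 0 0 0x51831830820c60c10420c60c1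 1 6148 1 18432))))))
theorem jh_i1 : Impl.{u} 7 jh_R jh_W1 := Impl.refl.trans (impl_of_rw1 (R := jh_R) jh_i1T 19 1 [9, 11, 12, 13, 16, 14, 8, 10, 19, 6, 1, 2, 3, 4, 5] (by decide +kernel))
def jh_N0 : Net := (.cons 1 0x40150000 (.cons 2 0x30313000 (.cons 4 0x3070600 (.cons 8 0xfc0040 (.cons 16 0xb400 (.cons 8 0xa40000 (.cons 4 0xd060400 (.cons 2 0x30012000 (.cons 1 0x150400 .nil)))))))))
def jh_N1 : Net := (.cons 1 0x150400 (.cons 2 0x23103000 (.cons 4 0xa040600 (.cons 8 0x9b0040 (.cons 16 0x9600 (.cons 8 0x960000 (.cons 4 0x1000400 (.cons 2 0x1202000 (.cons 1 0x40150000 .nil)))))))))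
def jh_N2 : Net := (.cons 1 0x1551410 (.cons 2 0x20113000 (.cons 4 0x60d0304 (.cons 8 0xe700a0 (.cons 16 0x4200 (.cons 8 0x420000 (.cons 4 0x9040200 (.cons 2 0x23113000 (.cons 1 0x54011010 .nil)))))))))
def jh_N3 : Net := (.cons 1 0x11015544 (.cons 2 0x11101012 (.cons 4 0xb0a0200 (.cons 8 0x270020 (.cons 16 0x1100 (.cons 8 0x10000 (.cons 4 0x1000200 (.cons 2 0x1001000 (.cons 1 0x11014144 .nil)))))))))
def jh_N4 : Net := (.cons 1 0x10004145 (.cons 2 0x23230120 (.cons 4 0x6040e0c (.cons 8 0xff0030 (.cons 16 0x8700 (.cons 8 0x870000 (.cons 4 0x5040100 (.cons 2 0x13130210 (.cons 1 0x44541410 .nil)))))))))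
def jh_N5 : Net := (.cons 1 0x55004150 (.cons 2 0x22110313 (.cons 4 0xd04050a (.cons 8 0xaf0028 (.cons 16 0xd700 (.cons 8 0xd20000 (.cons 4 0x80e0a00 (.cons 2 0x10222020 (.cons 1 0x55004150 .nil)))))))))
def jh_N6 : Net := (.cons 1 0x10014005 (.cons 2 0x30203103 (.cons 4 0x40f0906 (.cons 8 0xda0024 (.cons 16 0x9900 (.cons 8 0x190000 (.cons 4 0xd000600 (.cons 2 0x3230130 (.cons 1 0x45541550 .nil)))))))))
def jh_L0 : List Nat := [0x99c66ed, 0x36fab41e, 0xc1a46090, 0xfb3cc528]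
def jh_D0 : Nat := 67584
def jh_L1 : List Nat := [0x56270351, 0x71ce593a, 0x8b204194, 0xeff56828]
def jh_D1 : Nat := 33792
def jh_L2 : List Nat := [0xc9c2a835, 0x8028d1aa, 0x56aac00, 0xfe950000]
def jh_D2 : Nat := 576
def jh_L3 : List Nat := [0x41e1cad9, 0x221c00d6, 0x8bfc7d28, 0xe9200000]
def jh_D3 : Nat := 0x14020000
def jh_L4 : List Nat := [0x47b66d4d, 0x76924110, 0x8b27a228, 0xfdb18000]
def jh_D4 : Nat := 0x481082
def jh_L5 : List Nat := [0x4699fc3, 0x2240a0, 0x15024108, 0x15200000]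
def jh_D5 : Nat := 0xea942014
def jh_L6 : List Nat := [0xc6582e57, 0x2c42290, 0xfe9db000, 0xfcdb8000]
def jh_D6 : Nat := 0x1204128
def jh_Nb : List Net := [jh_N0, jh_N1, jh_N2, jh_N3, jh_N4, jh_N5, jh_N6]
def jh_Ns : List Net := [jh_N0, jh_N1, jh_N2, jh_N3, jh_N4, jh_N5, jh_N6]
def jh_Lv : List (List Nat) := [jh_L0, jh_L1, jh_L2, jh_L3, jh_L4, jh_L5, jh_L6]
def jh_As : List (List Nat) := []
def jh_Ds : List Nat := [jh_D0, jh_D1, jh_D2, jh_D3, jh_D4, jh_D5, jh_D6]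
def jh_Sb : List (List Nat) := [[0], [1], [2], [3]]
theorem jh_val : Enum.validL 32 jh_Ns = true := by decide +kernel
theorem jh_fix : FixR 32 jh_Ns jh_R := fixR_of_relA (K := 5) jh_val (by decide +kernel)
theorem jh_fix1 : FixR 32 jh_Ns jh_W1 := jh_fix.impl jh_val rfl jh_i1
theorem jh_tree0 : TreeOk 32 jh_Ns jh_Ds 7 := TreeOk.step (K := 5) (a := 0) (c := 7) (ok_of_validL jh_val) (treeOk_zero _ _ _) (by decide +kernel)
theorem jh_c0 : cosChk 32 4 0 7 jh_Ns jh_Lv jh_As jh_Ds jh_W1 jh_Sb 0 [(0, 2, false), (1, 4, false), (2, 2, false), (3, 4, false), (4, 2, false), (5, 5, false), (6, 2, false), (7, 2, false), (8, 15, false), (9, 2, false), (10, 1, false), (11, 1, false), (12, 1, false), (13, 1, false), (14, 1, false), (0, 1, true), (1, 1, true), (2, 1, true), (3, 1, true)] = true := by decide +kernel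
theorem jh_cert : Cert 32 jh_Ns jh_W1 jh_Sb := Cert.of (S := 0) jh_val jh_fix1 jh_tree0 (Cov.zero.step jh_c0) (by decide +kernel)
theorem jh_idx : Idx.{u} 7 jh_R jh_Sb 32 := jh_cert.idx rfl jh_i1
theorem jh_i2 : Impl.{u} 7 jh_R (expL jh_Sb ja5_R) := Impl.refl.trans (impl_of_sub (R := jh_R) [0, 1, 2, 6, 7, 8, 9, 10] (by decide +kernel))
theorem jh_pres : Pres.{u} 7 jh_R 1920 := jh_cert.pres rfl jh_i1 (ja5_pres.sub rfl jh_i2) (c := 1920) (by norm_num)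
theorem jh_valb : Enum.validL 32 jh_Nb = true := jh_val
theorem jh_rels : Rels (perms 32 jh_Nb) jh_R := rels_perms jh_val jh_fix
theorem jh_le : 1920 ≤ Nat.card (cl (perms 32 jh_Nb)) := le_card_netGrp (K := 5) (by norm_num) (ok_of_mem jh_valb) [] [4, 5, 6, 2, 3, 0, 1] [(0, 2, 3), (4, 2, 2), (6, 1, 2)] (by decide +kernel)
theorem jh_univ : Univ.{u} jh_R (perms 32 jh_Nb) := Univ.of_pres jh_pres rfl jh_rels jh_le
def jn5_R : List (List Nat) := [[0, 1], [2, 3], [4, 5], [6, 6], [1, 0], [3, 2], [5, 4], [0, 0, 0], [0, 2, 0, 2, 0, 2], [0, 4, 0, 4, 6], [2, 4, 2, 4, 2, 4], [2, 2, 6], [4, 4, 6], [6, 1, 6, 0], [6, 3, 6, 2], [6, 5, 6, 4]]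
def jn5_W1 : List (List Nat) := [[0, 0, 0], [2, 2, 6], [4, 4, 6], [0, 4, 0, 4, 6], [0, 2, 0, 2, 0, 2], [2, 4, 2, 4, 2, 4], [1, 0], [3, 2], [5, 4], [6, 6]]
theorem jn5_i1 : Impl.{u} 7 jn5_R jn5_W1 := Impl.refl.trans (impl_of_sub (R := jn5_R) [7, 11, 12, 9, 8, 10, 4, 5, 6, 3] (by decide +kernel))
def jn5_N0 : Net := (.cons 1 0x444444404040401004000040001405 (.cons 2 0x121212302010121012032120002132 (.cons 4 0xe0d0c0201000d0202030002030100 (.cons 8 0x13002f004e00940042002100b1 (.cons 16 0x1200004e0200000e9600002754 (.cons 32 0x3f8fdc00000000bd234101 (.cons 64 0x80d02d000000 (.cons 32 0x80d0000000002d000000 (.cons 16 0x1200000c0000000c0200000100 (.cons 8 0x11002d004c0094004200210001 (.cons 4 0xe0d0c0201000d0202000002030900 (.cons 2 0x121212302010121022032120000110 (.cons 1 0x111111101010100401004404441404 .nil)))))))))))))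
def jn5_N1 : Net := (.cons 1 0x111111101010100401004004400441 (.cons 2 0x121212003000012123121221111021 (.cons 4 0xc080c0004000d0a02040202020c00 (.cons 8 0x44008f005b00b90072000400c0 (.cons 16 0x4000005b8000004b4b00000738 (.cons 32 0x6f8f1b00000000ff463000 (.cons 64 0x2080104f000000 (.cons 32 0x208010000000004f000000 (.cons 16 0x4000004b000000094200000000 (.cons 8 0x44008f005b00b9007200040000 (.cons 4 0xc080c0004000d0a02020202020000 (.cons 2 0x121212003000012113121221111020 (.cons 1 0x444444404040401004000440050400 .nil)))))))))))))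
def jn5_N2 : Net := (.cons 1 0x555555505050515455145454541505 (.cons 2 0x111111101012111101110030233013 (.cons 4 0x2020d070708070e080e040b0c0d0a (.cons 8 0x18008f00e3000100ab00be0026 (.cons 16 0x600000e7600000046c00001b30 (.cons 32 0xf7bfff00000000ff6cdb00 (.cons 64 0x1020ff9f000000 (.cons 32 0x1020ff000000009f000000 (.cons 16 0x60000087680000246400009800 (.cons 8 0x18008700e3008e00e300110000 (.cons 4 0xd0d020707080704080e0c010a0000 (.cons 2 0x20002233301112310202320 (.cons 1 0x14150 .nil)))))))))))))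
def jn5_N3 : Net := (.cons 1 0x555555555555541505414545441005 (.cons 2 0x222222222022200000112013232023 (.cons 4 0xa0a050f0f000b030006020c060501 (.cons 8 0x80000f007b0001003b00de0046 (.cons 16 0x7000007f70000004740000c3c0 (.cons 32 0xff9fff00000000ff74eb00 (.cons 64 0x8010ffcf000000 (.cons 32 0x8010ff00000000cf000000 (.cons 16 0x7000000f700000147000008a00 (.cons 8 0x80000f007b000e000b00810000 (.cons 4 0x5050a0f0f000f020006040c020a00 (.cons 2 0x30002011101113303200310 (.cons 1 0x10001014050 .nil)))))))))))))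
def jn5_N4 : Net := (.cons 1 0x555555515151551545501404145515 (.cons 2 0x30303331333030010333103212323 (.cons 4 0xf0f0f02010d0d0d0d020001080d09 (.cons 8 0xf00ff003f00ff00ef00c20006 (.cons 16 0xff00002d1e000012ff0000e318 (.cons 32 0xc33e100000000fde3c000 (.cons 64 0xc33e1c0000000 (.cons 32 0xc33e100000000c0000000 (.cons 16 0xc0ed00002d2100000000 (.cons 8 0xf0000000210010002100020000 (.cons 4 0xd01020208020d0901080200 (.cons 2 0x3000001110000030212000 (.cons 1 0x10040105040510440 .nil)))))))))))))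
def jn5_N5 : Net := (.cons 1 0x555555545454505415054151405015 (.cons 2 0x303030033303302203200030211210 (.cons 4 0xf0f0f0a0700030e090e0f030a0903 (.cons 8 0xf00fa00cf007600c30002001a (.cons 16 0xff0000410b00009cf60000c31c (.cons 32 0x43cf100000000fecb0300 (.cons 64 0x43cf182000000 (.cons 32 0x43cf10000000082000000 (.cons 16 0x8a74000071c900000000 (.cons 8 0xf0000c00a0003d00c1001b0000 (.cons 4 0x308060a0b0f000a00060f00 (.cons 2 0x2000030010333221101300 (.cons 1 0x10040104040410040 .nil)))))))))))))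
def jn5_N6 : Net := (.cons 1 0x50505054150551111115555 (.cons 2 0x333333303030303003000000110033 (.cons 4 0xc00000c0c090609 (.cons 8 0x20006 (.cons 16 0x204 (.cons 8 0x20000 (.cons 4 0x600 (.cons 2 0x3000000000113000 .nil))))))))
def jn5_L0 : List Nat := [0xf0f0f0f43d0f7131311ef79, 0x5555555050505354d5345454558c62, 0x20080202020221080, 0x8020080000000000]
def jn5_D0 : Nat := 0xaaaaaaa0a0a0a0280a008888880004
def jn5_L1 : List Nat := [0xaaaaaaafafafae2b8ae3ababaa739d, 0xaaaaaaa0a0a0a0280a008888880004, 0x340d0341010139ce0, 0x8020082020200000]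
def jn5_D1 : Nat := 0x555555505050501405004444440002
def jn5_L2 : List Nat := [0xc0c0c060606063d8f63c7470718c67, 0x2222228080802288a228acacaf39c8, 0x515151151515741d0741c9c9c80000, 0xaeaeaee0e0e0802008000000000000]
def jn5_D2 : Nat := 0xa0a0a080200820202004210
def jn5_L3 : List Nat := [0xe9e9e9d0d0d0c3f0fc3cf474f7def7, 0x57575730303020080200cc4cce5290, 0x888888aaaaaaaaaaaaaa6eee6d0840, 0x777777505050501405000000000000]
def jn5_D3 : Nat := 0x50505040100410101002108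
def jn5_L4 : List Nat := [0x29292927272744110443cfcfcc631f, 0x8383837f7f7f10441104404042d6b0, 0x101017f7f7f5d5755d7d3d3d00000, 0xfefefe808080a0280a000000000000]
def jn5_D4 : Nat := 0x280a0282020210840
def jn5_L5 : List Nat := [0x9b9b9bd1d1d1e0380e02cececf7bdf, 0x555555a1a1a1ae2b8ae141414318c0, 0xa1a1a1ae2b8ae3e3e3e04210, 0xffffff5e5e5e509425080000000000]
def jn5_D5 : Nat := 0x14050141010108420
def jn5_L6 : List Nat := [0x5959597a7a7a6a9aa6aae2e2e14a57, 0xaaaaaa5f5f5f5fd7f5ff3f3f3def78, 0x50505050140500cccccc0000, 0xffffffa0a0a0a0280a000000000000]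
def jn5_D6 : Nat := 135296
def jn5_Nb : List Net := [jn5_N0, jn5_N1, jn5_N2, jn5_N3, jn5_N4, jn5_N5, jn5_N6]
def jn5_Ns : List Net := [jn5_N0, jn5_N1, jn5_N2, jn5_N3, jn5_N4, jn5_N5, jn5_N6]
def jn5_Lv : List (List Nat) := [jn5_L0, jn5_L1, jn5_L2, jn5_L3, jn5_L4, jn5_L5, jn5_L6]
def jn5_As : List (List Nat) := []
def jn5_Ds : List Nat := [jn5_D0, jn5_D1, jn5_D2, jn5_D3, jn5_D4, jn5_D5, jn5_D6]
def jn5_Sb : List (List Nat) := []
theorem jn5_val : Enum.validL 120 jn5_Ns = true := by decide +kernel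
theorem jn5_fix : FixR 120 jn5_Ns jn5_R := fixR_of_relA (K := 7) jn5_val (by decide +kernel)
theorem jn5_fix1 : FixR 120 jn5_Ns jn5_W1 := jn5_fix.impl jn5_val rfl jn5_i1
theorem jn5_tree0 : TreeOk 120 jn5_Ns jn5_Ds 7 := TreeOk.step (K := 7) (a := 0) (c := 7) (ok_of_validL jn5_val) (treeOk_zero _ _ _) (by decide +kernel)
theorem jn5_c0 : cosChk 120 4 0 7 jn5_Ns jn5_Lv jn5_As jn5_Ds jn5_W1 jn5_Sb 0 [(0, 1, false), (1, 3, false), (2, 3, false), (3, 5, false), (4, 2, false), (5, 2, false), (6, 2, false), (7, 2, false), (8, 2, false), (9, 1, false)] = true := by decide +kernel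
theorem jn5_cert : Cert 120 jn5_Ns jn5_W1 jn5_Sb := Cert.of (S := 0) jn5_val jn5_fix1 jn5_tree0 (Cov.zero.step jn5_c0) (by decide +kernel)
theorem jn5_idx : Idx.{u} 7 jn5_R jn5_Sb 120 := jn5_cert.idx rfl jn5_i1
theorem jn5_pres : Pres.{u} 7 jn5_R 120 := jn5_cert.pres rfl jn5_i1 PSub.nil (c := 120) (by norm_num)
def jn_R : List (List Nat) := [[0, 1], [2, 3], [4, 5], [6, 6], [7, 7], [8, 8], [1, 0], [3, 2], [5, 4], [0, 0, 0], [0, 2, 0, 2, 0, 2], [0, 4, 0, 4, 8], [2, 4, 2, 4, 2, 4], [2, 2, 8], [4, 4, 8], [6, 1, 6, 0], [6, 3, 6, 2], [4, 6, 5, 7], [6, 7, 6, 7, 8], [8, 1, 8, 0], [8, 3, 8, 2], [8, 5, 8, 4], [0, 2, 7, 3, 1, 0, 0, 2, 7, 3, 1, 1, 2, 7, 3, 7, 6]]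
def jn_W1 : List (List Nat) := [[2, 2, 8], [4, 4, 8], [6, 1, 6, 0], [6, 3, 6, 2], [4, 6, 5, 7], [0, 4, 0, 4, 8], [6, 7, 6, 7, 8], [0, 2, 0, 2, 0, 2], [2, 4, 2, 4, 2, 4], [0, 2, 7, 3, 0, 2, 7, 3, 1, 1, 2, 7, 3, 7, 6], [1, 0], [3, 2], [5, 4], [6, 6], [7, 7]]
def jn_i1T : Tr := (.node 12 (.node 6 (.node 3 (.node 1 (.leaf 2 129 0 0 0 0 0 0 0) (.node 2 (.leaf 2 259 0 0 0 0 0 0 0) (.leaf 2 389 0 0 0 0 0 0 0))) (.node 4 (.leaf 2 455 0 0 0 0 0 0 0) (.node 5 (.leaf 2 520 0 0 0 0 0 0 0) (.leaf 2 585 0 0 0 0 0 0 0)))) (.node 9 (.node 7 (.leaf 2 66 0 0 0 0 0 0 0) (.node 8 (.leaf 2 196 0 0 0 0 0 0 0) (.leaf 2 326 0 0 0 0 0 0 0))) (.node 10 (.leaf 3 4161 0 0 0 0 0 0 0) (.node 11 (.leaf 6 0xc10c10c1 0 0 0 0 0 0 0) (.leaf 5 0x9141141 0 0 0 0 0 0 0))))) (.node 18 (.node 15 (.node 13 (.leaf 6 0x143143143 0 0 0 0 0 0 0) (.node 14 (.leaf 3 37059 0 0 0 0 0 0 0) (.leaf 3 37189 0 0 0 0 0 0 0)))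 (.node 16 (.leaf 4 290951 0 0 0 0 0 0 0) (.node 17 (.leaf 4 815367 0 0 0 0 0 0 0) (.leaf 4 0x2061c5 0 0 0 0 0 0 0)))) (.node 21 (.node 19 (.leaf 5 0x9207207 0 0 0 0 0 0 0) (.node 20 (.leaf 4 299145 0 0 0 0 0 0 0) (.leaf 4 823561 0 0 0 0 0 0 0))) (.node 22 (.leaf 4 0x149189 0 0 0 0 0 0 0) (.node 23 (.leaf 17 0x72042030821080c10421080c1 0 0 0 0 0 0 0) (.leaf 15 0x72042030821080c11080c1 0 0 0x72042030821080c10421080c1 1 6148 1 22528))))))
theorem jn_i1 : Impl.{u} 9 jn_R jn_W1 := Impl.refl.trans (impl_of_rw1 (R := jn_R) jn_i1T 23 1 [13, 14, 15, 16, 17, 11, 18, 10, 12, 23, 6, 7, 8, 3, 4] (by decide +kernel))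
def jn_N0 : Net := (.cons 1 0x400 (.cons 2 0x10 (.cons 4 0x700 (.cons 8 0x20 (.cons 4 0x200 (.cons 2 0x200 (.cons 1 0x5440 .nil)))))))
def jn_N1 : Net := (.cons 1 0x5440 (.cons 2 0x210 (.cons 4 0x700 (.cons 8 0x20 (.cons 4 0x200 (.cons 1 0x400 .nil))))))
def jn_N2 : Net := (.cons 1 0x440 (.cons 2 0x3230 (.cons 4 0xc (.cons 2 0x30 (.cons 1 0x400 .nil)))))
def jn_N3 : Net := (.cons 1 0x440 (.cons 2 0x3230 (.cons 4 0xc (.cons 2 0x30 (.cons 1 0x400 .nil)))))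
def jn_N4 : Net := (.cons 1 0x5544 (.cons 2 0x2002 (.cons 4 0xb00 (.cons 8 0x20 (.cons 4 0x200 (.cons 2 0x2000 (.cons 1 0x1504 .nil)))))))
def jn_N5 : Net := (.cons 1 0x5544 (.cons 2 0x2002 (.cons 4 0xb00 (.cons 8 0x20 (.cons 4 0x200 (.cons 2 0x2000 (.cons 1 0x1504 .nil)))))))
def jn_N6 : Net := (.cons 1 0x555 (.cons 2 0x3100 (.cons 4 0xc00 (.cons 8 0xc0 (.cons 4 0xc00 (.cons 2 0x200 .nil))))))
def jn_N7 : Net := (.cons 1 0x4000 (.cons 2 0x3233 (.cons 4 0x300 (.cons 8 0xf0 (.cons 4 0xc00 (.cons 2 0x100 (.cons 1 0x4000 .nil)))))))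
def jn_N8 : Net := .nil
def jn_L0 : List Nat := [19325, 30730, 56140, 64320]
def jn_D0 : Nat := 1152
def jn_L1 : List Nat := [35121, 61838, 64652, 64896]
def jn_D1 : Nat := 576
def jn_L2 : List Nat := [42141, 54594, 30832, 65408]
def jn_D2 : Nat := 0
def jn_L3 : List Nat := [23949, 20418, 62604, 64320]
def jn_D3 : Nat := 48
def jn_L4 : List Nat := [4033, 52314, 61532, 65440]
def jn_D4 : Nat := 0
def jn_L5 : List Nat := [50971, 6516, 50970, 65248]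
def jn_D5 : Nat := 0
def jn_L6 : List Nat := [14121, 26924, 36816, 61440]
def jn_D6 : Nat := 2
def jn_L7 : List Nat := [1779, 0, 0, 0]
def jn_D7 : Nat := 63756
def jn_L8 : List Nat := [13099, 21402, 42292, 65216]
def jn_D8 : Nat := 0
def jn_Nb : List Net := [jn_N0, jn_N1, jn_N2, jn_N3, jn_N4, jn_N5, jn_N6, jn_N7, jn_N8]
def jn_Ns : List Net := [jn_N0, jn_N1, jn_N2, jn_N3, jn_N4, jn_N5, jn_N6, jn_N7, jn_N8]
def jn_Lv : List (List Nat) := [jn_L0, jn_L1, jn_L2, jn_L3, jn_L4, jn_L5, jn_L6, jn_L7, jn_L8]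
def jn_As : List (List Nat) := []
def jn_Ds : List Nat := [jn_D0, jn_D1, jn_D2, jn_D3, jn_D4, jn_D5, jn_D6, jn_D7, jn_D8]
def jn_Sb : List (List Nat) := [[0], [1], [2], [3], [4], [5], [8]]
theorem jn_val : Enum.validL 16 jn_Ns = true := by decide +kernel
theorem jn_fix : FixR 16 jn_Ns jn_R := fixR_of_relA (K := 4) jn_val (by decide +kernel)
theorem jn_fix1 : FixR 16 jn_Ns jn_W1 := jn_fix.impl jn_val rfl jn_i1
theorem jn_tree0 : TreeOk 16 jn_Ns jn_Ds 9 := TreeOk.step (K := 4) (a := 0) (c := 9) (ok_of_validL jn_val) (treeOk_zero _ _ _) (by decide +kernel)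
theorem jn_c0 : cosChk 16 4 0 9 jn_Ns jn_Lv jn_As jn_Ds jn_W1 jn_Sb 0 [(0, 3, false), (1, 3, false), (2, 4, false), (3, 4, false), (4, 4, false), (5, 5, false), (6, 5, false), (7, 2, false), (8, 2, false), (9, 15, false), (10, 2, false), (11, 2, false), (12, 2, false), (13, 1, false), (14, 1, false), (0, 1, true), (1, 1, true), (2, 1, true), (3, 1, true), (4, 1, true), (5, 1, true), (6, 1, true)] = true := by decide +kernel
theorem jn_cert : Cert 16 jn_Ns jn_W1 jn_Sb := Cert.of (S := 0) jn_val jn_fix1 jn_tree0 (Cov.zero.step jn_c0) (by decide +kernel)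
theorem jn_idx : Idx.{u} 9 jn_R jn_Sb 16 := jn_cert.idx rfl jn_i1
theorem jn_i2 : Impl.{u} 9 jn_R (expL jn_Sb jn5_R) := Impl.refl.trans (impl_of_sub (R := jn_R) [0, 1, 2, 5, 6, 7, 8, 9, 10, 11, 12, 13, 14, 19, 20, 21] (by decide +kernel))
theorem jn_pres : Pres.{u} 9 jn_R 1920 := jn_cert.pres rfl jn_i1 (jn5_pres.sub rfl jn_i2) (c := 1920) (by norm_num)
def jn_Mb : List Net := [(.cons 1 0x440011000151440500 (.cons 2 0x33222100331212011120 (.cons 4 0xc00080c04080602 (.cons 8 0xb7007a008000800024 (.cons 16 0x4cde00005900 (.cons 32 0x2684fb84 (.cons 64 0x7b84 (.cons 32 0x7b84 (.cons 16 0x4c8400000000 (.cons 8 0xb7007a008000d90000 (.cons 4 0xc00040c04080600 (.cons 2 0x221200331212011020 (.cons 1 0x110000001050041100 .nil))))))))))))), (.cons 1 0x110000001050041100 (.cons 2 0x221200331212011020 (.cons 4 0xc00040c04080402 (.cons 8 0xb7007a008000d90006 (.cons 16 0x4cde00005900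 (.cons 32 0x2684fb84 (.cons 64 0x7b84 (.cons 32 0x7b84 (.cons 16 0x4c8400000000 (.cons 8 0xb7007a008000800000 (.cons 4 0xc00080c04080400 (.cons 2 0x33222100331212011120 (.cons 1 0x440011000151440500 .nil))))))))))))), (.cons 1 0x11550015405100504551 (.cons 2 0x33303330210131122132 (.cons 4 0x309030f0d0c070b0706 (.cons 8 0x8200c3008400000094 (.cons 16 0x7abf00004e30 (.cons 32 0xb18d28be (.cons 64 0x28be (.cons 32 0x28be (.cons 16 0x38bf00000000 (.cons 8 0x8200c3000900140000 (.cons 4 0x60000040103060100 (.cons 2 0x100003311030100200 (.cons 1 0x11000040104000051004 .nil))))))))))))), (.cons 1 0x11550051455155104141 (.cons 2 0x33033303211103131211 (.cons 4 0xc080c010d0a02090c0c (.cons 8 0x8200d2009000000090 (.cons 16 0x6ebf00004b24 (.cons 32 0xb49928af (.cons 64 0x28af (.cons 32 0x28af (.cons 16 0x2cbf00000000 (.cons 8 0x8200d2000900000000 (.cons 4 0x70001040802020000 (.cons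 2 0x100003211133130100 (.cons 1 0x11000040000405001004 .nil))))))))))))), (.cons 1 0x55555555145545411045 (.cons 2 0x33033300300030303013 (.cons 4 0xf0f000f0400090d0008 (.cons 8 0x830083008300070006 (.cons 16 0xffff0000f930 (.cons 32 0x4837c83 (.cons 64 0x7c83 (.cons 32 0x7c83 (.cons 16 0x7c8300000000 (.cons 8 0x830083008300800000 (.cons 4 0xb000e020100 (.cons 2 0x30003132020 (.cons 1 0x51544010 .nil))))))))))))), (.cons 1 0x55555555505504140505 (.cons 2 0x33303300010031030323 (.cons 4 0xf0f000e0f05030003 (.cons 8 0x520052005200440026 (.cons 16 0xffff0000dba0 (.cons 32 0x2052ad52 (.cons 64 0xad52 (.cons 32 0xad52 (.cons 16 0xad5200000000 (.cons 8 0x520052005200320000 (.cons 4 0x100030a0200 (.cons 2 0x100022331310 (.cons 1 0x14404500 .nil))))))))))))), (.cons 1 0x44554404010440000410 (.cons 2 0x3312130311211132000 (.cons 4 0xd02080e000b0f050600 (.cons 8 0xf900f900f800800000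 (.cons 16 0x6fff00000a38 (.cons 32 0xb6c12b4d (.cons 64 0x2b4d (.cons 32 0x2b4d (.cons 16 0xbb4d00002000 (.cons 8 0x60006000700000000 (.cons 4 0xe040b0d030808020000 (.cons 2 0x12203021200300022000 (.cons 1 0x44554404010440140400 .nil))))))))))))), (.cons 1 0x11001151555141140010 (.cons 2 0x21310303132132130200 (.cons 4 0x90a0c090a0c08000401 (.cons 8 0xff00ff00b900a10006 (.cons 16 0xbdff0000b1c0 (.cons 32 0xc204a5a5 (.cons 64 0xa5a5 (.cons 32 0xa5a5 (.cons 16 0xa5a500008000 (.cons 8 0x42008000a10000 (.cons 4 0x90a0c090a0c08000400 (.cons 2 0x12313003132112110200 (.cons 1 0x44554440444041140010 .nil))))))))))))), (.cons 1 0x550055400015 (.cons 2 0x330000000033133033 (.cons 4 0xf000f0f000f09040909 (.cons 8 0x400060 (.cons 16 0x4020 (.cons 8 0x400000 (.cons 4 0x20000 (.cons 2 0x100300 (.cons 1 0x155540 .nil)))))))))]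
theorem jn_valb : Enum.validL 80 jn_Mb = true := by decide +kernel
theorem jn_fixb : FixR 80 jn_Mb jn_R := fixR_of_relA (K := 7) jn_valb (by decide +kernel)
theorem jn_rels : Rels (perms 80 jn_Mb) jn_R := rels_perms jn_valb jn_fixb
theorem jn_le : 1920 ≤ Nat.card (cl (perms 80 jn_Mb)) := le_card_netGrp (K := 7) (by norm_num) (ok_of_mem jn_valb) [([1, 15, 12, 6, 0, 14, 13, 4, 12, 3], (.cons 1 0x10144514114155154000 (.cons 2 0x22311110031103332000 (.cons 4 0xb070503070c02000000 (.cons 8 0xf90038004f00850089 (.cons 16 0x860c00006a99 (.cons 32 0x5622fdb8 (.cons 64 0xfbb9 (.cons 32 0xfb20 (.cons 16 0x2a800000081 (.cons 8 0x49003c003000300000 (.cons 4 0x1000c0a070d06010100 (.cons 2 0x303330231200112000 (.cons 1 0x1140150114100500040 .nil)))))))))))))), ([17, 7, 14, 3, 3, 13, 13, 19, 17, 14], (.cons 1 0x11140040104540154014 (.cons 2 0x132030202022202230 (.cons 4 0x70308020c020e0d0204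 (.cons 8 0x9c00c600b9004e00e5 (.cons 16 0x77590000c6da (.cons 32 0xc0605701 (.cons 64 0xd9df (.cons 32 0x599f (.cons 16 0x5d8000088da (.cons 8 0x440032006000460000 (.cons 4 0x80b08020502040e0100 (.cons 2 0x132000110220110010 (.cons 1 0x4044045011054450044 .nil)))))))))))))), ([7, 13, 11, 7, 15, 11, 8, 4, 8, 5, 15, 16], (.cons 1 0x41144005551455554054 (.cons 2 0x3031201300033222320 (.cons 4 0xb0e0d0c010d040d0700 (.cons 8 0xd9005f00cf00a500b5 (.cons 16 0x3f1b0000feb7 (.cons 32 0x8c1480d3 (.cons 64 0x66e7 (.cons 32 0x6060 (.cons 16 0x20c5000060a7 (.cons 8 0x3000a000060000 (.cons 4 0x603020406030e030000 (.cons 2 0x22231001011230111000 (.cons 1 0x41415014414154000004 .nil)))))))))))))), ([7, 15, 7, 15, 16, 13, 13, 17, 20, 20], .nil)] [4, 5, 6, 7, 8, 9, 10, 11, 12, 3, 2, 1, 0] [(1, 1, 9), (3, 2, 4)] (by decide +kernel)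
theorem jn_univ : Univ.{u} jn_R (perms 80 jn_Mb) := Univ.of_pres jn_pres rfl jn_rels jn_le
def jl8_R : List (List Nat) := [[0, 0], [1, 1], [2, 2], [0, 1, 0, 1, 2], [0, 2, 0, 2]]
def jl8_W1 : List (List Nat) := [[0, 1, 0, 1, 2], [0, 0], [1, 1], [2, 2]]
theorem jl8_i1 : Impl.{u} 3 jl8_R jl8_W1 := Impl.refl.trans (impl_of_sub (R := jl8_R) [3, 0, 1, 2] (by decide +kernel))
def jl8_N0 : Net := (.cons 1 0x5 (.cons 2 0x20 (.cons 4 0xc (.cons 2 0x10 (.cons 1 0x50 .nil)))))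
def jl8_N1 : Net := (.cons 1 0x10 (.cons 2 0x11 (.cons 4 0xa (.cons 1 0x10 .nil))))
def jl8_N2 : Net := (.cons 1 0x45 (.cons 2 0x3 (.cons 4 0x6 (.cons 2 0x30 (.cons 1 0x10 .nil)))))
def jl8_L0 : List Nat := [141, 144, 40]
def jl8_D0 : Nat := 66
def jl8_L1 : List Nat := [195, 96, 136]
def jl8_D1 : Nat := 20
def jl8_L2 : List Nat := [23, 80, 0]
def jl8_D2 : Nat := 168
def jl8_Nb : List Net := [jl8_N0, jl8_N1, jl8_N2]
def jl8_Ns : List Net := [jl8_N0, jl8_N1, jl8_N2]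
def jl8_Lv : List (List Nat) := [jl8_L0, jl8_L1, jl8_L2]
def jl8_As : List (List Nat) := []
def jl8_Ds : List Nat := [jl8_D0, jl8_D1, jl8_D2]
def jl8_Sb : List (List Nat) := []
theorem jl8_val : Enum.validL 8 jl8_Ns = true := by decide +kernel
theorem jl8_fix : FixR 8 jl8_Ns jl8_R := fixR_of_relA (K := 3) jl8_val (by decide +kernel)
theorem jl8_fix1 : FixR 8 jl8_Ns jl8_W1 := jl8_fix.impl jl8_val rfl jl8_i1
theorem jl8_tree0 : TreeOk 8 jl8_Ns jl8_Ds 3 := TreeOk.step (K := 3) (a := 0) (c := 3) (ok_of_validL jl8_val) (treeOk_zero _ _ _) (by decide +kernel)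
theorem jl8_c0 : cosChk 8 3 0 3 jl8_Ns jl8_Lv jl8_As jl8_Ds jl8_W1 jl8_Sb 0 [(0, 5, false), (1, 1, false), (2, 1, false), (3, 1, false)] = true := by decide +kernel
theorem jl8_cert : Cert 8 jl8_Ns jl8_W1 jl8_Sb := Cert.of (S := 0) jl8_val jl8_fix1 jl8_tree0 (Cov.zero.step jl8_c0) (by decide +kernel)
theorem jl8_idx : Idx.{u} 3 jl8_R jl8_Sb 8 := jl8_cert.idx rfl jl8_i1
theorem jl8_pres : Pres.{u} 3 jl8_R 8 := jl8_cert.pres rfl jl8_i1 PSub.nil (c := 8) (by norm_num)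
def jl_R : List (List Nat) := [[0, 0], [1, 1], [2, 2], [3, 3], [4, 4], [0, 1, 0, 1, 2], [0, 2, 0, 2], [3, 2, 3, 0], [3, 2, 0, 3, 0, 2], [1, 3, 1, 3, 1, 3], [4, 2, 4, 1], [4, 2, 1, 4, 1, 2], [0, 4, 0, 4, 0, 4], [3, 4, 3, 4, 3, 4, 3, 4, 3, 4], [0, 3, 4, 0, 3, 4, 0, 3, 4, 0, 3, 4]]
def jl_W1 : List (List Nat) := [[3, 2, 3, 0], [4, 2, 4, 1], [0, 1, 0, 1, 2], [1, 3, 1, 3, 1, 3], [0, 4, 0, 4, 0, 4], [0, 3, 4, 0, 3, 4, 0, 3, 4, 0, 3, 4], [0, 0], [1, 1], [2, 2], [3, 3], [4, 4]]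
theorem jl_i1 : Impl.{u} 5 jl_R jl_W1 := Impl.refl.trans (impl_of_sub (R := jl_R) [7, 10, 5, 9, 12, 14, 0, 1, 2, 3, 4] (by decide +kernel))
def jl_N0 : Net := (.cons 1 0x44045100510 (.cons 2 0x23112232110 (.cons 4 0xe0f060604 (.cons 8 0x9005f00a0 (.cons 16 0x13b3 (.cons 32 0xb3 (.cons 16 0xb3 (.cons 8 0x1000130000 (.cons 4 0x10b0a020200 (.cons 2 0x23110232110 (.cons 1 0x4045100510 .nil)))))))))))
def jl_N1 : Net := (.cons 1 0x44541544500 (.cons 2 0x30113201002 (.cons 4 0x1040b000600 (.cons 8 0x9004f0040 (.cons 16 0x9dbf (.cons 32 0xbf (.cons 16 0xbf (.cons 8 0x3002d0000 (.cons 4 0x10c09020400 (.cons 2 0x2233001000 (.cons 1 0x44541544500 .nil)))))))))))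
def jl_N2 : Net := (.cons 1 0x540501440 (.cons 2 0x21203233010 (.cons 4 0x10a05080f00 (.cons 8 0x1800dd0080 (.cons 16 0x5bae (.cons 32 0x12ae (.cons 16 0x12ae (.cons 8 0x1400690000 (.cons 4 0x5020f0800 (.cons 2 0x130302100 (.cons 1 0x44500501440 .nil)))))))))))
def jl_N3 : Net := (.cons 1 0x44014044011 (.cons 2 0x23030300100 (.cons 4 0x1060a010506 (.cons 8 0x1b00670092 (.cons 16 0x35e0 (.cons 32 0x14e0 (.cons 16 0x14e0 (.cons 8 0x400210000 (.cons 4 0x10206050102 (.cons 2 0x32020300100 (.cons 1 0x44014044010 .nil)))))))))))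
def jl_N4 : Net := (.cons 1 0x5104554110 (.cons 2 0x32031223001 (.cons 4 0xe070e040e (.cons 8 0x1b00cb0004 (.cons 16 0x7d6d (.cons 32 0x46d (.cons 16 0x46d (.cons 8 0x900490000 (.cons 4 0x6070e0404 (.cons 2 0x22021223000 (.cons 1 0x5104554110 .nil)))))))))))
def jl_L0 : List Nat := [0xa852b1b5edd, 0x1a442080c24a, 0x1ad5adc48c00, 0x42000000000]
def jl_D0 : Nat := 0x10a50202120
def jl_L1 : List Nat := [0x38cfa6af6f3, 0xba56a1a1034, 0xb2f70902180, 0x40000000000]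
def jl_D1 : Nat := 0x105005050808
def jl_L2 : List Nat := [0x51c41012801, 0x1ae9aeffd7d6, 0x15de57252928, 0]
def jl_D2 : Nat := 0
def jl_L3 : List Nat := [0x693582a39b5, 0x170925100808, 0x179b3f150000, 0x4000000000]
def jl_D3 : Nat := 0x82480c0c642
def jl_L4 : List Nat := [0x104c94c5cf4b, 0x105681400120, 0x115ec1602000, 0x82000000000]
def jl_D4 : Nat := 0x6812a1a1094
def jl_Nb : List Net := [jl_N0, jl_N1, jl_N2, jl_N3, jl_N4]
def jl_Ns : List Net := [jl_N0, jl_N1, jl_N2, jl_N3, jl_N4]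
def jl_Lv : List (List Nat) := [jl_L0, jl_L1, jl_L2, jl_L3, jl_L4]
def jl_As : List (List Nat) := []
def jl_Ds : List Nat := [jl_D0, jl_D1, jl_D2, jl_D3, jl_D4]
def jl_Sb : List (List Nat) := [[0], [1], [2]]
theorem jl_val : Enum.validL 45 jl_Ns = true := by decide +kernel
theorem jl_fix : FixR 45 jl_Ns jl_R := fixR_of_relA (K := 6) jl_val (by decide +kernel)
theorem jl_fix1 : FixR 45 jl_Ns jl_W1 := jl_fix.impl jl_val rfl jl_i1
theorem jl_tree0 : TreeOk 45 jl_Ns jl_Ds 5 := TreeOk.step (K := 6) (a := 0) (c := 5) (ok_of_validL jl_val) (treeOk_zero _ _ _) (by decide +kernel)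
theorem jl_c0 : cosChk 45 4 0 5 jl_Ns jl_Lv jl_As jl_Ds jl_W1 jl_Sb 0 [(0, 4, false), (1, 4, false), (2, 5, false), (3, 2, false), (4, 2, false), (5, 3, false), (6, 1, false), (7, 1, false), (8, 1, false), (9, 1, false), (10, 1, false), (0, 1, true), (1, 1, true), (2, 1, true)] = true := by decide +kernel
theorem jl_cert : Cert 45 jl_Ns jl_W1 jl_Sb := Cert.of (S := 0) jl_val jl_fix1 jl_tree0 (Cov.zero.step jl_c0) (by decide +kernel)
theorem jl_idx : Idx.{u} 5 jl_R jl_Sb 45 := jl_cert.idx rfl jl_i1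
theorem jl_i2 : Impl.{u} 5 jl_R (expL jl_Sb jl8_R) := Impl.refl.trans (impl_of_sub (R := jl_R) [0, 1, 2, 5, 6] (by decide +kernel))
theorem jl_pres : Pres.{u} 5 jl_R 360 := jl_cert.pres rfl jl_i1 (jl8_pres.sub rfl jl_i2) (c := 360) (by norm_num)
def jl_Mb : List Net := [(.cons 2 0x3 (.cons 4 0x3 (.cons 2 0x3 .nil))), (.cons 1 0x11 .nil), (.cons 1 0x14 .nil), (.cons 1 0x11 (.cons 2 0x2 (.cons 4 0x2 (.cons 2 0x2 (.cons 1 0x10 .nil))))), (.cons 2 0x3 .nil)]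
theorem jl_valb : Enum.validL 6 jl_Mb = true := by decide +kernel
theorem jl_fixb : FixR 6 jl_Mb jl_R := fixR_of_relA (K := 3) jl_valb (by decide +kernel)
theorem jl_rels : Rels (perms 6 jl_Mb) jl_R := rels_perms jl_valb jl_fixb
theorem jl_le : 360 ≤ Nat.card (cl (perms 6 jl_Mb)) := le_card_netGrp (K := 3) (by norm_num) (ok_of_mem jl_valb) [([5, 9, 9, 5, 9, 7, 3, 8], (.cons 1 0x10 (.cons 4 0x2 .nil))), ([3, 5, 11, 3, 9, 2], (.cons 1 0x11 (.cons 2 0x2 (.cons 4 0x3 (.cons 1 0x10 .nil))))), ([0, 3, 1, 1, 3, 1, 2, 2, 0], (.cons 1 0x10 (.cons 2 0x2 .nil))), ([2, 4, 3, 5, 2, 5, 5, 5, 3], (.cons 2 0x2 (.cons 4 0x2 .nil))), ([0, 0, 3], (.cons 4 0x2 (.cons 1 0x10 .nil)))] [5, 6, 7, 8, 9, 4, 3, 2, 1, 0] [(2, 1, 5), (0, 1, 2), (3, 1, 2), (1, 2, 1)] (by decide +kernel)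
theorem jl_univ : Univ.{u} jl_R (perms 6 jl_Mb) := Univ.of_pres jl_pres rfl jl_rels jl_le
def jv0_R : List (List Nat) := [[0, 1], [2, 2], [3, 4], [1, 0], [4, 3], [0, 0, 0], [0, 2, 0, 2, 0, 2], [3, 3, 3], [4, 1, 3, 0], [4, 2, 3, 2]]
def jv0_W1 : List (List Nat) := [[0, 0, 0], [3, 3, 3], [4, 1, 3, 0], [4, 2, 3, 2], [0, 2, 0, 2, 0, 2], [1, 0], [2, 2], [4, 3]]
theorem jv0_i1 : Impl.{u} 5 jv0_R jv0_W1 := Impl.refl.trans (impl_of_sub (R := jv0_R) [5, 7, 8, 9, 6, 3, 1, 4] (by decide +kernel))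
def jv0_N0 : Net := (.cons 1 0x10145 (.cons 2 0x312021012 (.cons 4 0xb0d0604 (.cons 8 0x430064 (.cons 16 0x918c (.cons 32 0xc (.cons 16 0xc (.cons 8 0x10000 (.cons 4 0xb0d0200 (.cons 2 0x21021200 (.cons 1 0x101144 .nil)))))))))))
def jv0_N1 : Net := (.cons 1 0x10011 (.cons 2 0x212212321 (.cons 4 0xd060b00 (.cons 8 0x890038 (.cons 16 0xc246 (.cons 32 0x6 (.cons 16 0x6 (.cons 8 0x800000 (.cons 4 0xd060b00 (.cons 2 0x121212200 (.cons 1 0x101400 .nil)))))))))))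
def jv0_N2 : Net := (.cons 1 0x151145 (.cons 2 0x333013333 (.cons 4 0x3080006 (.cons 8 0x5f00b4 (.cons 16 0x5b8f (.cons 32 0xf (.cons 16 0xf (.cons 8 0x5f0000 (.cons 4 0xc070600 (.cons 2 0x310000 .nil))))))))))
def jv0_N3 : Net := (.cons 1 0x444004100 (.cons 2 0x322100020 (.cons 4 0x1070b03 (.cons 8 0x21002c (.cons 16 0x1346 (.cons 32 0x6 (.cons 16 0x6 (.cons 8 0x100000 (.cons 4 0x60a00 (.cons 2 0x322100020 (.cons 1 0x111440510 .nil)))))))))))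
def jv0_N4 : Net := (.cons 1 0x111440510 (.cons 2 0x322100020 (.cons 4 0x1070b01 (.cons 8 0x21002c (.cons 16 0x1346 (.cons 32 0x6 (.cons 16 0x6 (.cons 8 0x100000 (.cons 4 0x60a02 (.cons 2 0x322100020 (.cons 1 0x444004100 .nil)))))))))))
def jv0_L0 : List Nat := [0x666444759, 0xeeedddd32, 0x111000080]
def jv0_D0 : Nat := 0x222004
def jv0_L1 : List Nat := [0x666aaa76d, 0x777eee5b4, 0x888000800]
def jv0_D1 : Nat := 0x111002
def jv0_L2 : List Nat := [0xd2e302007, 0xc2efdfdb0, 0x3d1020000]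
def jv0_D2 : Nat := 584
def jv0_L3 : List Nat := [0x33324f, 0x555444490, 0]
def jv0_D3 : Nat := 0xaaa888920
def jv0_L4 : List Nat := [0xaaabbbb6f, 0xaaa888920, 0]
def jv0_D4 : Nat := 0x555444490
def jv0_Nb : List Net := [jv0_N0, jv0_N1, jv0_N2, jv0_N3, jv0_N4]
def jv0_Ns : List Net := [jv0_N0, jv0_N1, jv0_N2, jv0_N3, jv0_N4]
def jv0_Lv : List (List Nat) := [jv0_L0, jv0_L1, jv0_L2, jv0_L3, jv0_L4]
def jv0_As : List (List Nat) := []
def jv0_Ds : List Nat := [jv0_D0, jv0_D1, jv0_D2, jv0_D3, jv0_D4]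
def jv0_Sb : List (List Nat) := []
theorem jv0_val : Enum.validL 36 jv0_Ns = true := by decide +kernel
theorem jv0_fix : FixR 36 jv0_Ns jv0_R := fixR_of_relA (K := 6) jv0_val (by decide +kernel)
theorem jv0_fix1 : FixR 36 jv0_Ns jv0_W1 := jv0_fix.impl jv0_val rfl jv0_i1
theorem jv0_tree0 : TreeOk 36 jv0_Ns jv0_Ds 5 := TreeOk.step (K := 6) (a := 0) (c := 5) (ok_of_validL jv0_val) (treeOk_zero _ _ _) (by decide +kernel)
theorem jv0_c0 : cosChk 36 3 0 5 jv0_Ns jv0_Lv jv0_As jv0_Ds jv0_W1 jv0_Sb 0 [(0, 1, false), (1, 1, false), (2, 4, false), (3, 4, false), (4, 2, false), (5, 2, false), (6, 1, false), (7, 2, false)] = true := by decide +kernel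
theorem jv0_cert : Cert 36 jv0_Ns jv0_W1 jv0_Sb := Cert.of (S := 0) jv0_val jv0_fix1 jv0_tree0 (Cov.zero.step jv0_c0) (by decide +kernel)
theorem jv0_idx : Idx.{u} 5 jv0_R jv0_Sb 36 := jv0_cert.idx rfl jv0_i1
theorem jv0_pres : Pres.{u} 5 jv0_R 36 := jv0_cert.pres rfl jv0_i1 PSub.nil (c := 36) (by norm_num)
def jv_R : List (List Nat) := [[0, 1], [2, 2], [3, 3], [4, 4], [5, 5], [6, 7], [8, 8], [1, 0], [7, 6], [0, 0, 0], [0, 2, 0, 2, 0, 2], [3, 1, 3, 0], [3, 2, 3, 2], [3, 4, 3, 4, 5], [5, 1, 5, 0], [5, 2, 5, 2], [0, 2, 4, 2, 1, 0, 0, 2, 4, 2, 1, 1, 2, 4, 2, 4, 3], [6, 6, 6], [7, 1, 6, 0], [7, 2, 6, 2], [4, 6, 4, 6, 1], [6, 5, 7, 3, 5], [4, 6, 0, 8]]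
def jv_W1 : List (List Nat) := [[5, 2, 5, 2], [7, 1, 6, 0], [7, 2, 6, 2], [4, 6, 0, 8], [3, 4, 3, 4, 5], [4, 6, 4, 6, 1], [6, 5, 7, 3, 5], [0, 2, 0, 2, 0, 2], [0, 2, 4, 2, 0, 2, 4, 2, 1, 1, 2, 4, 2, 4, 3], [5, 7, 3, 6, 3], [1, 0], [2, 2], [3, 3], [4, 4], [5, 5], [7, 6], [8, 8]]
def jv_i1T : Tr := (.node 24 (.node 12 (.node 6 (.node 3 (.node 1 (.leaf 2 129 0 0 0 0 0 0 0) (.node 2 (.leaf 2 195 0 0 0 0 0 0 0) (.leaf 2 260 0 0 0 0 0 0 0))) (.node 4 (.leaf 2 325 0 0 0 0 0 0 0) (.node 5 (.leaf 2 390 0 0 0 0 0 0 0) (.leaf 2 519 0 0 0 0 0 0 0)))) (.node 9 (.node 7 (.leaf 2 585 0 0 0 0 0 0 0) (.node 8 (.leaf 2 66 0 0 0 0 0 0 0) (.leaf 2 456 0 0 0 0 0 0 0))) (.node 10 (.leaf 3 4161 0 0 0 0 0 0 0) (.node 11 (.leaf 6 0xc10c10c1 0 0 0 0 0 0 0) (.leaf 4 278660 0 0 0 0 0 0 0))))) (.node 18 (.node 15 (.node 13 (.leaf 4 803012 0 0 0 0 0 0 0) (.node 14 (.leaf 5 0x6144144 0 0 0 0 0 0 0) (.leaf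 4 286854 0 0 0 0 0 0 0))) (.node 16 (.leaf 4 811206 0 0 0 0 0 0 0) (.node 17 (.leaf 17 0x41431430820c50c10420c50c1 0 0 0 0 0 0 0) (.leaf 3 29127 0 0 0 0 0 0 0)))) (.node 21 (.node 19 (.leaf 4 290952 0 0 0 0 0 0 0) (.node 20 (.leaf 4 815304 0 0 0 0 0 0 0) (.leaf 5 0x21c51c5 0 0 0 0 0 0 0))) (.node 22 (.leaf 5 0x6108187 0 0 0 0 0 0 0) (.node 23 (.leaf 4 0x2411c5 0 0 0 0 0 0 0) (.leaf 2 65 1 2 266306 1 7168 1 9217)))))) (.node 36 (.node 30 (.node 27 (.node 25 (.leaf 2 455 1 8 0x1c71c8 1 8192 1 17409) (.node 26 (.leaf 2 385 2 70 0x46086181 1 14338 2 4097) (.leaf 2 449 2 71 0x470881c1 1 18434 2 5121))) (.node 28 (.leaf 3 24900 2 261 0x6144144105 2 0xc0000000801 1 13314) (.node 29 (.leaf 3 8645 2 328 0x21c51c5148 2 0x200000000c01 1 20482) (.leaf 3 24840 2 518 0x6108187206 2 0x100000002001 1 21506)))) (.node 33 (.node 31 (.leaf 2 130 1 1 4162 1 23553 1 7168) (.node 32 (.leaf 2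 520 1 7 29128 1 24577 1 8192) (.leaf 2 513 2 72 0x207048 2 0x200000006801 1 5122))) (.node 34 (.leaf 2 450 2 135 28737 1 23552 3 0x5c010000680000006801) (.node 35 (.leaf 3 16708 2 389 0x185104 1 27649 1 2048) (.leaf 3 24837 2 324 0x186144 1 27648 1 4098))))) (.node 42 (.node 39 (.node 37 (.leaf 3 4424 2 453 270789 1 28672 1 7170) (.node 38 (.leaf 3 8520 3 4549 532933 1 28672 1 30722) (.leaf 3 33159 2 388 0x184207 1 29697 1 5120))) (.node 40 (.leaf 2 389 2 326 0x6144144146 3 0x100000000c0100008802 3 0x80200000c0300006c04) (.node 41 (.leaf 2 388 2 262 0x4144144 4 0xc0200009c0100009c0200008802 3 0xc0100009c0000008800) (.leaf 3 16710 2 324 24837 2 0x9c000000a001 1 35840)))) (.node 45 (.node 43 (.leaf 3 28999 2 69 283143 1 36865 1 5120) (.node 44 (.leaf 3 4613 2 327 0x1c2148 3 0x60010000680200009400 3 0x7c000000700100008402) (.leaf 2 454 2 263 0x148187147 6 0xc020000ac0100009c0000008002000064010000a800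 5 0xc020000a40100009c010000a00200009802))) (.node 46 (.leaf 3 16836 2 391 0x7184207 2 0x14000000b003 2 0x200200007401) (.node 47 (.leaf 5 0x41c4206 0 0 0x41c4206 0 0 3 0x1000000020010000b402) (.leaf 15 0x41431430820c50c10c50c1 0 0 0x41431430820c50c10420c50c1 1 7172 1 16384)))))))
theorem jv_i1 : Impl.{u} 9 jv_R jv_W1 := Impl.refl.trans (impl_of_rw1 (R := jv_R) jv_i1T 23 25 [15, 18, 19, 22, 13, 20, 21, 10, 47, 46, 7, 1, 2, 3, 4, 8, 6] (by decide +kernel))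
def jv_N0 : Net := (.cons 1 0x40415000 (.cons 2 0x20312000 (.cons 4 0xb040a00 (.cons 8 0xf0080 (.cons 16 0x3600 (.cons 8 0x240000 (.cons 4 0x1070000 (.cons 2 0x31312000 (.cons 1 0x101000 .nil)))))))))
def jv_N1 : Net := (.cons 1 0x101000 (.cons 2 0x33312200 (.cons 4 0x1050200 (.cons 8 0x270080 (.cons 16 0x1e00 (.cons 8 0xc0000 (.cons 4 0x9040800 (.cons 2 0x20330000 (.cons 1 0x40415000 .nil)))))))))
def jv_N2 : Net := (.cons 1 0x41114540 (.cons 2 0x111000 (.cons 4 0x8010f04 (.cons 8 0x990090 (.cons 16 0x900 (.cons 8 0x90000 (.cons 4 0x1080900 (.cons 2 0x33111000 (.cons 1 0x14440540 .nil)))))))))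
def jv_N3 : Net := (.cons 1 0x14440045 (.cons 2 0x11333120 (.cons 4 0x60e000c (.cons 8 0x330084 (.cons 16 0x7800 (.cons 8 0x300000 (.cons 4 0x5010c00 (.cons 2 0x22333210 (.cons 1 0x41005510 .nil)))))))))
def jv_N4 : Net := (.cons 1 0x4051050 (.cons 2 0x20120011 (.cons 4 0xa090b0a (.cons 8 0x530050 (.cons 16 0x2700 (.cons 8 0x240000 (.cons 4 0x60400 (.cons 2 0x31031100 (.cons 1 0x4051050 .nil)))))))))
def jv_N5 : Net := (.cons 1 0x14000105 (.cons 2 0x10300303 (.cons 4 0x50f0f06 (.cons 8 0x5d0090 (.cons 16 0x2d00 (.cons 8 0x250000 (.cons 4 0xf050900 (.cons 2 0x22023030 (.cons 1 0x14101450 .nil)))))))))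
def jv_N6 : Net := (.cons 1 0x44404400 (.cons 2 0x12010232 (.cons 4 0xc0f0308 (.cons 8 0x1f0010 (.cons 16 0x8000 (.cons 4 0x8000100 (.cons 2 0x2100020 (.cons 1 0x54400400 .nil))))))))
def jv_N7 : Net := (.cons 1 0x11414400 (.cons 2 0x1102312 (.cons 4 0xb0e0c02 (.cons 8 0xf10040 (.cons 16 0x400 (.cons 4 0x2000400 (.cons 2 0x11012100 (.cons 1 0x41100400 .nil))))))))
def jv_N8 : Net := (.cons 1 0x10551451 (.cons 2 0x12213323 (.cons 4 0x70a0006 (.cons 8 0x650024 (.cons 16 0x4b00 (.cons 8 0xa0000 (.cons 4 0x8030600 (.cons 2 0x12210020 (.cons 1 0x45004104 .nil)))))))))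
def jv_L0 : List Nat := [0x1099e7bb, 0xf5408038, 0x901d087c, 0xf40e942, 0xfddd2000]
def jv_D0 : Nat := 0x221000
def jv_L1 : List Nat := [0x18cc5685, 0x7c002034, 0x22e21070, 0x9708f14a, 0xfdee2000]
def jv_D1 : Nat := 0x110800
def jv_L2 : List Nat := [0x9f1ac957, 0xc228d008, 0x287c9822, 0x15b30000, 0xffcce100]
def jv_D2 : Nat := 1664
def jv_L3 : List Nat := [0x72c4dcc5, 0x72c88440, 0x62400438, 0x907b0450, 0xfabfc200]
def jv_D3 : Nat := 0x5002102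
def jv_L4 : List Nat := [0x10aa3fc3, 0x919168, 0x2818800, 0x37991048, 0x35180000]
def jv_D4 : Nat := 0xc8444014
def jv_L5 : List Nat := [0x5a730653, 0xa234cb90, 0xe3310ec4, 0x148a96c4, 0xfffff800]
def jv_D5 : Nat := 40
def jv_L6 : List Nat := [0x1cbbc473, 0x82ad506e, 0xa039dd90, 0x17768540, 0xfdcf2200]
def jv_D6 : Nat := 0
def jv_L7 : List Nat := [0x18745ce5, 0x458300a6, 0xcb071b58, 0x363bc250, 0xfdfc2400]
def jv_D7 : Nat := 0
def jv_L8 : List Nat := [0x8c716e8b, 0xc5761005, 0x40345000, 0x85640138, 0xcd520000]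
def jv_D8 : Nat := 0x32888040
def jv_Nb : List Net := [jv_N0, jv_N1, jv_N2, jv_N3, jv_N4, jv_N5, jv_N6, jv_N7, jv_N8]
def jv_Ns : List Net := [jv_N0, jv_N1, jv_N2, jv_N3, jv_N4, jv_N5, jv_N6, jv_N7, jv_N8]
def jv_Lv : List (List Nat) := [jv_L0, jv_L1, jv_L2, jv_L3, jv_L4, jv_L5, jv_L6, jv_L7, jv_L8]
def jv_As : List (List Nat) := []
def jv_Ds : List Nat := [jv_D0, jv_D1, jv_D2, jv_D3, jv_D4, jv_D5, jv_D6, jv_D7, jv_D8]
def jv_Sb : List (List Nat) := [[0], [1], [2], [6], [7]]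
theorem jv_val : Enum.validL 32 jv_Ns = true := by decide +kernel
theorem jv_fix : FixR 32 jv_Ns jv_R := fixR_of_relA (K := 5) jv_val (by decide +kernel)
theorem jv_fix1 : FixR 32 jv_Ns jv_W1 := jv_fix.impl jv_val rfl jv_i1
theorem jv_tree0 : TreeOk 32 jv_Ns jv_Ds 9 := TreeOk.step (K := 5) (a := 0) (c := 9) (ok_of_validL jv_val) (treeOk_zero _ _ _) (by decide +kernel)
theorem jv_c0 : cosChk 32 5 0 9 jv_Ns jv_Lv jv_As jv_Ds jv_W1 jv_Sb 0 [(0, 2, false), (1, 4, false), (2, 4, false), (3, 4, false), (4, 5, false), (5, 5, false), (6, 5, false), (7, 2, false), (8, 15, false), (9, 5, false), (10, 2, false), (11, 1, false), (12, 1, false), (13, 1, false), (14, 1, false), (15, 2, false), (16, 1, false), (0, 1, true), (1, 1, true), (2, 1, true), (3, 1, true), (4, 1, true)] = true := by decide +kernel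
theorem jv_cert : Cert 32 jv_Ns jv_W1 jv_Sb := Cert.of (S := 0) jv_val jv_fix1 jv_tree0 (Cov.zero.step jv_c0) (by decide +kernel)
theorem jv_idx : Idx.{u} 9 jv_R jv_Sb 32 := jv_cert.idx rfl jv_i1
theorem jv_i2 : Impl.{u} 9 jv_R (expL jv_Sb jv0_R) := Impl.refl.trans (impl_of_sub (R := jv_R) [0, 1, 5, 7, 8, 9, 10, 17, 18, 19] (by decide +kernel))
theorem jv_pres : Pres.{u} 9 jv_R 1152 := jv_cert.pres rfl jv_i1 (jv0_pres.sub rfl jv_i2) (c := 1152) (by norm_num)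
theorem jv_valb : Enum.validL 32 jv_Nb = true := jv_val
theorem jv_rels : Rels (perms 32 jv_Nb) jv_R := rels_perms jv_val jv_fix
theorem jv_le : 1152 ≤ Nat.card (cl (perms 32 jv_Nb)) := le_card_netGrp (K := 5) (by norm_num) (ok_of_mem jv_valb) [] [3, 4, 5, 8, 2, 6, 7, 0, 1] [(0, 2, 4), (4, 1, 3), (7, 1, 2)] (by decide +kernel)
theorem jv_univ : Univ.{u} jv_R (perms 32 jv_Nb) := Univ.of_pres jv_pres rfl jv_rels jv_le
def jq_R : List (List Nat) := [[0, 0], [1, 1], [2, 2], [3, 3], [4, 4], [5, 5], [0, 1, 0, 1, 5], [0, 2, 0, 2, 5], [0, 3, 0, 3, 5], [0, 4, 0, 4, 5], [1, 2, 1, 2, 5], [1, 3, 1, 3, 5], [1, 4, 1, 4, 5], [2, 3, 2, 3, 5], [2, 4, 2, 4, 5], [3, 4, 3, 4, 5], [5, 0, 5, 0], [5, 1, 5, 1], [5, 2, 5, 2], [5, 3, 5, 3], [5, 4, 5, 4], [0, 1, 2, 3, 4]]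
def jq_W1 : List (List Nat) := [[1, 3, 1, 3, 5], [1, 4, 1, 4, 5], [2, 3, 2, 3, 5], [2, 4, 2, 4, 5], [3, 4, 3, 4, 5], [0, 1, 2, 3, 4], [0, 0], [1, 1], [2, 2], [3, 3], [4, 4], [5, 5]]
theorem jq_i1 : Impl.{u} 6 jq_R jq_W1 := Impl.refl.trans (impl_of_sub (R := jq_R) [11, 12, 13, 14, 15, 21, 0, 1, 2, 3, 4, 5] (by decide +kernel))
def jq_N0 : Net := (.cons 1 0x51044051 (.cons 2 0x1021310 (.cons 4 0xb030700 (.cons 8 0x8700e4 (.cons 16 0x7bd8 (.cons 8 0x200000 (.cons 4 0x6010d00 (.cons 2 0x30323030 (.cons 1 0x44500140 .nil)))))))))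
def jq_N1 : Net := (.cons 1 0x54545100 (.cons 2 0x11312233 (.cons 4 0x8060b0a (.cons 8 0x250000 (.cons 16 0xd778 (.cons 8 0xd0000 (.cons 4 0x8030400 (.cons 2 0x22021100 (.cons 1 0x54545100 .nil)))))))))
def jq_N2 : Net := (.cons 1 0x51111145 (.cons 2 0x11201013 (.cons 4 0x2020506 (.cons 8 0xe30066 (.cons 16 0xff0 (.cons 8 0x380000 (.cons 4 0x2020c00 (.cons 2 0x11231310 (.cons 1 0x4444410 .nil)))))))))
def jq_N3 : Net := (.cons 1 0x45401040 (.cons 2 0x30102100 (.cons 4 0xd030d05 (.cons 8 0xa200e6 (.cons 16 0xace8 (.cons 8 0x440000 (.cons 4 0x8060800 (.cons 2 0x30102100 (.cons 1 0x45401040 .nil)))))))))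
def jq_N4 : Net := (.cons 1 0x41114455 (.cons 2 0x33330321 (.cons 4 0xc0e0d0b (.cons 8 0xf50086 (.cons 16 0x33d8 (.cons 8 0x690000 (.cons 4 0x7080000 (.cons 2 0x33210210 (.cons 1 0x14441100 .nil)))))))))
def jq_N5 : Net := (.cons 1 0x15 (.cons 2 0x11211210 (.cons 4 0x7080803 (.cons 8 0xf300d2 (.cons 16 0x6f9c (.cons 8 0x210000 (.cons 4 0x8060500 (.cons 2 0x22122120 (.cons 1 0x55555540 .nil)))))))))
def jq_L0 : List Nat := [0xb630a8fd, 0x872d2ec0, 0xb5b9eec0, 0x40000100]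
def jq_D0 : Nat := 0x8421002
def jq_L1 : List Nat := [0xee402e7b, 0x8f22d900, 0x627b3f40, 0]
def jq_D1 : Nat := 0x10840084
def jq_L2 : List Nat := [0x86c1c8f7, 0xdedd8880, 0x1865dc40, 131584]
def jq_D2 : Nat := 0x21002108
def jq_L3 : List Nat := [0xb9c0a0af, 0xbbe3ad80, 0x14569940, 0]
def jq_D3 : Nat := 0x40084210
def jq_L4 : List Nat := [0xf0c84a9f, 0x7caf3180, 0x89c66b40, 0]
def jq_D4 : Nat := 0x2108420
def jq_L5 : List Nat := [0x25ae5bf, 0x739ee380, 0x8463700, 0]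
def jq_D5 : Nat := 0x84210840
def jq_Nb : List Net := [jq_N0, jq_N1, jq_N2, jq_N3, jq_N4, jq_N5]
def jq_Ns : List Net := [jq_N0, jq_N1, jq_N2, jq_N3, jq_N4, jq_N5]
def jq_Lv : List (List Nat) := [jq_L0, jq_L1, jq_L2, jq_L3, jq_L4, jq_L5]
def jq_As : List (List Nat) := []
def jq_Ds : List Nat := [jq_D0, jq_D1, jq_D2, jq_D3, jq_D4, jq_D5]
def jq_Sb : List (List Nat) := []
theorem jq_val : Enum.validL 32 jq_Ns = true := by decide +kernel
theorem jq_fix : FixR 32 jq_Ns jq_R := fixR_of_relA (K := 5) jq_val (by decide +kernel)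
theorem jq_fix1 : FixR 32 jq_Ns jq_W1 := jq_fix.impl jq_val rfl jq_i1
theorem jq_tree0 : TreeOk 32 jq_Ns jq_Ds 6 := TreeOk.step (K := 5) (a := 0) (c := 6) (ok_of_validL jq_val) (treeOk_zero _ _ _) (by decide +kernel)
theorem jq_c0 : cosChk 32 4 0 6 jq_Ns jq_Lv jq_As jq_Ds jq_W1 jq_Sb 0 [(0, 5, false), (1, 5, false), (2, 5, false), (3, 5, false), (4, 5, false), (5, 5, false), (6, 1, false), (7, 1, false), (8, 1, false), (9, 1, false), (10, 1, false), (11, 1, false)] = true := by decide +kernel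
theorem jq_cert : Cert 32 jq_Ns jq_W1 jq_Sb := Cert.of (S := 0) jq_val jq_fix1 jq_tree0 (Cov.zero.step jq_c0) (by decide +kernel)
theorem jq_idx : Idx.{u} 6 jq_R jq_Sb 32 := jq_cert.idx rfl jq_i1
theorem jq_pres : Pres.{u} 6 jq_R 32 := jq_cert.pres rfl jq_i1 PSub.nil (c := 32) (by norm_num)
def jq_Mb : List Net := [(.cons 1 0x4040 (.cons 2 0x3020 (.cons 4 0x802 (.cons 8 0x1c (.cons 4 0x800 (.cons 2 0x3020 (.cons 1 0x4040 .nil))))))), (.cons 1 0x4455 (.cons 2 0x30 (.cons 4 0xa00 (.cons 8 0x9c (.cons 4 0x500 (.cons 2 0x2100 (.cons 1 0x1100 .nil))))))), (.cons 1 0x5101 (.cons 2 0x3123 (.cons 4 0x906 (.cons 8 0xb4 (.cons 4 0xa00 (.cons 2 0x3000 (.cons 1 0x454 .nil))))))), (.cons 1 0x555 (.cons 2 0x3003 (.cons 4 0x400 (.cons 8 0x96 (.cons 4 0x200 (.cons 2 0x330 (.cons 1 0x5000 .nil))))))), (.cons 2 0x3120 (.cons 4 0x101 (.cons 8 0xee (.cons 2 0x1100 .nil)))), (.cons 1 0x4055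 (.cons 2 0x2020 (.cons 4 0xb07 (.cons 8 0xcc (.cons 2 0x1010 (.cons 1 0x1500 .nil))))))]
theorem jq_valb : Enum.validL 16 jq_Mb = true := by decide +kernel
theorem jq_fixb : FixR 16 jq_Mb jq_R := fixR_of_relA (K := 4) jq_valb (by decide +kernel)
theorem jq_rels : Rels (perms 16 jq_Mb) jq_R := rels_perms jq_valb jq_fixb
theorem jq_le : 32 ≤ Nat.card (cl (perms 16 jq_Mb)) := le_card_netGrp (K := 4) (by norm_num) (ok_of_mem jq_valb) [] [1, 2, 3, 4, 5, 0] [(0, 1, 5), (1, 1, 1)] (by decide +kernel)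
theorem jq_univ : Univ.{u} jq_R (perms 16 jq_Mb) := Univ.of_pres jq_pres rfl jq_rels jq_le
def jq_T : List Nat := [0x40e030c0b0209080701050f0d0a0600, 0x903080402070f0d0a05060c0e0b0001, 0x8040c0d0605030f010b0a0e09000702, 0xb0605020f090a01040e0d07000c0803, 0x50a0706030e01020d0c0f000b080904, 0x408030907020c0e0b01000f0d0a0605]
def jq_k : List Nat → Nat := keyW 16 jq_T [0, 1]
def jq_E1 : List (List Nat) := [[], [0], [1], [2], [3], [4], [1, 0], [2, 0], [3, 0], [4, 0], [2, 1], [3, 1], [4, 1], [3, 2], [4, 2], [4, 3]]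
def jq_E2 : List (List Nat) := [[], [5]]
theorem jq_bd : Bd (cl (perms 16 jq_Mb)) 32 := jq_pres.{0} _ _ rfl jq_rels
theorem jq_mk : MK (perms 16 jq_Mb) jq_k jq_E1 jq_E2 ∧ Nat.card (cl (perms 16 jq_Mb)) = 32 :=
  mk_perms (k := 6) jq_valb jq_bd (by decide +kernel)
def ja5_T : List Nat := [0x403000201, 0x403010002, 0x402030001, 0x304020001]
def ja5_k : List Nat → Nat := keyW 5 ja5_T [0, 1, 2]
def ja5_E1 : List (List Nat) := [[], [2], [3], [0, 2], [1, 2], [3, 2], [2, 3], [3, 0, 2], [3, 1, 2], [2, 3, 2], [0, 2, 3], [1, 2, 3], [2, 3, 0, 2], [2, 3, 1, 2], [0, 2, 3, 2], [1, 2, 3, 2], [0, 2, 3, 0, 2], [1, 2, 3, 0, 2], [0, 2, 3, 1, 2], [1, 2, 3, 1, 2]]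
def ja5_E2 : List (List Nat) := [[], [0], [1]]
theorem ja5_bd : Bd (cl (perms 5 ja5_Mb)) 60 := ja5_pres.{0} _ _ rfl ja5_rels
theorem ja5_mk : MK (perms 5 ja5_Mb) ja5_k ja5_E1 ja5_E2 ∧ Nat.card (cl (perms 5 ja5_Mb)) = 60 :=
  mk_perms (k := 4) ja5_valb ja5_bd (by decide +kernel)
def jh_T : List Nat := [0x191f121a1d111e0e0d0c1817161b1c0910151413060b0f08070a050403020100, 0x1e191b11121c1f1514130e0d0c1d1a0f091817160a061008070b050403020100, 0x1a14171b1c1f12151d13181e16190d0f100811070a0b040e0c02050903060100, 0x1b1d1e101f0f1215131418161719091c1a0e0c0d0a0b11050406080703010200, 0x1a1c171e141f11101d0b0f1b0a0d19181509120616130e04020c030805070001, 0x161310150f180c1a0b1f1c0a1e090e1d1b11061917141203050d070108000402, 0x1d1b1f141e17120b1a100a1c0f190d161306110918150c02040e010700080503]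
def jh_k : List Nat → Nat := keyW 32 jh_T [0, 4, 6]
def jh_E1 : List (List Nat) := [[], [4], [5], [6], [5, 4], [6, 4], [2, 5], [4, 5], [6, 5], [2, 5, 4], [0, 2, 5], [1, 2, 5], [4, 2, 5], [5, 2, 5], [6, 2, 5], [0, 2, 5, 4], [1, 2, 5, 4], [3, 2, 5, 4], [5, 2, 5, 4], [4, 0, 2, 5], [5, 0, 2, 5], [6, 0, 2, 5], [4, 1, 2, 5], [5, 1, 2, 5], [6, 1, 2, 5], [5, 4, 2, 5], [3, 0, 2, 5, 4], [5, 0, 2, 5, 4], [3, 1, 2, 5, 4], [5, 1, 2, 5, 4], [5, 4, 0, 2, 5], [5, 4, 1, 2, 5]]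
def jh_E2 : List (List Nat) := [[], [0], [1], [2], [3], [2, 0], [3, 0], [2, 1], [3, 1], [0, 2], [1, 2], [3, 2], [2, 3], [0, 2, 0], [1, 2, 0], [3, 2, 0], [2, 3, 0], [0, 2, 1], [1, 2, 1], [3, 2, 1], [2, 3, 1], [3, 0, 2], [3, 1, 2], [2, 3, 2], [0, 2, 3], [1, 2, 3], [3, 0, 2, 0], [3, 1, 2, 0], [2, 3, 2, 0], [0, 2, 3, 0], [1, 2, 3, 0], [3, 0, 2, 1], [3, 1, 2, 1], [2, 3, 2, 1], [0, 2, 3, 1], [1, 2, 3, 1], [2, 3, 0, 2], [2, 3, 1, 2], [0, 2, 3, 2], [1, 2, 3, 2], [2, 3, 0, 2, 0], [2, 3, 1, 2, 0], [0, 2, 3, 2, 0], [1, 2, 3, 2, 0], [2, 3, 0, 2, 1], [2, 3, 1, 2, 1], [0, 2, 3, 2, 1], [1, 2, 3, 2, 1], [0, 2, 3, 0, 2], [1, 2, 3, 0, 2], [0, 2, 3, 1, 2], [1, 2, 3, 1, 2], [0, 2, 3, 0, 2, 0], [1, 2, 3, 0, 2, 0], [0, 2, 3, 1, 2, 0], [1, 2, 3, 1, 2, 0], [0, 2, 3, 0, 2, 1], [1, 2, 3, 0, 2, 1], [0, 2, 3, 1, 2, 1], [1, 2, 3, 1, 2, 1]]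
theorem jh_bd : Bd (cl (perms 32 jh_Nb)) 1920 := jh_pres.{0} _ _ rfl jh_rels
theorem jh_mk : MK (perms 32 jh_Nb) jh_k jh_E1 jh_E2 ∧ Nat.card (cl (perms 32 jh_Nb)) = 1920 :=
  mk_perms (k := 7) jh_valb jh_bd (by decide +kernel)
def jn_T : List Nat := [0x37364f4e33324b4a2f472e452b432a4127263f3e23223b3a4d4c1c3549481b3146441e1d42402d2c3d3c102539380f2114292834301716130a09150e0b121124201f020d181a190108060504030c0700, 0x4d4c373649483332462f442e422b402a3d3c2726393823224f4e341c4b4a301b4745292843411e1d3f3e24103b3a200f0e2d2c35310a090b1a19151f1812112521140c021317160701060504030d0800, 0x3d4d4a3b39494e3f42314035344530474c3c4b3a48384f3e281d4641291e4443191a2723161737332c1124212d1220250e3632090a2f2e0b2b2a14051526220304180c081f1c1b070d0213100f000601, 0x39494e3f3d4d4a3b403542313047344548384f3e4c3c4b3a291e4443281d46411a192327171633372d1220252c1124210b32360a092e2f0e2a2b131505222604031f070d181b1c0c0801140f10060002,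 0x3c3d3e3f38393a3b404142434647444548494a4b4c4d4e4f26272425222320212a2b181f2f2e131432333031363734352d0b0e100f080d2c070c12292805151b1c1e1a171d01021916041100060a0903, 0x38393a3b3c3d3e3f42434041444546474c4d4e4f48494a4b22232021262724252b2a1f182e2f141336373435323330312c0e0b0f100d082d0c0711282915051c1b1d19161e02011a1703120600090a04, 0x47354634453144304f4d4b493f3d3b3943254224412140202f1c4e4c2e1b4a483733171627231a192b103e3c2a0f3a38180a09363229281f2d2c051314040326220b0d0c0e1e1d080706151211020100, 0x35453444314730464a484e4c3a383e3c25412440214320421c2e4f4d1b2f4b4932362c2d22262829102a3f3d0f2b3b390c1d1e37331a19071716060d081112272302141f010a091318150004030e0b05, 0x4b4a49484f4e4d4c45444746414043423b3a39383f3e3d3c33323130373635342e2f2c2d2a2b28292322212027262524181d1e1b1c191a1f161705131411120f100b08070e090a0d0c00150304010206]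
def jn_k : List Nat → Nat := keyW 80 jn_T [0, 9]
def jn_E1 : List (List Nat) := [[], [6], [7], [7, 6], [2, 7], [2, 7, 6], [0, 2, 7], [1, 2, 7], [7, 2, 7], [0, 2, 7, 6], [1, 2, 7, 6], [7, 2, 7, 6], [7, 0, 2, 7], [7, 1, 2, 7], [7, 0, 2, 7, 6], [7, 1, 2, 7, 6]]
def jn_E2 : List (List Nat) := [[], [0], [1], [2], [3], [4], [5], [2, 0], [3, 0], [4, 0], [5, 0], [2, 1], [3, 1], [4, 1], [5, 1], [0, 2], [1, 2], [2, 2], [4, 2], [5, 2], [0, 3], [1, 3], [2, 4], [3, 4], [0, 2, 0], [1, 2, 0], [2, 2, 0], [4, 2, 0], [5, 2, 0], [0, 3, 0], [1, 3, 0], [2, 4, 0], [3, 4, 0], [0, 2, 1], [1, 2, 1], [2, 2, 1], [4, 2, 1], [5, 2, 1], [0, 3, 1], [1, 3, 1], [2, 4, 1], [3, 4, 1], [4, 0, 2], [5, 0, 2], [4, 1, 2], [5, 1, 2], [2, 4, 2], [3, 4, 2], [0, 2, 4], [1, 2, 4], [0, 3, 4], [1, 3, 4], [4, 0, 2, 0], [5, 0, 2, 0], [4, 1, 2, 0], [5, 1, 2, 0], [2, 4, 2, 0], [3, 4, 2, 0], [0, 2, 4, 0], [1, 2, 4, 0], [0,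 3, 4, 0], [1, 3, 4, 0], [4, 0, 2, 1], [5, 0, 2, 1], [4, 1, 2, 1], [5, 1, 2, 1], [2, 4, 2, 1], [3, 4, 2, 1], [0, 2, 4, 1], [1, 2, 4, 1], [0, 3, 4, 1], [1, 3, 4, 1], [2, 4, 0, 2], [3, 4, 0, 2], [2, 4, 1, 2], [3, 4, 1, 2], [0, 2, 4, 2], [1, 2, 4, 2], [0, 3, 4, 2], [1, 3, 4, 2], [2, 4, 0, 2, 0], [3, 4, 0, 2, 0], [2, 4, 1, 2, 0], [3, 4, 1, 2, 0], [0, 2, 4, 2, 0], [1, 2, 4, 2, 0], [0, 3, 4, 2, 0], [1, 3, 4, 2, 0], [2, 4, 0, 2, 1], [3, 4, 0, 2, 1], [2, 4, 1, 2, 1], [3, 4, 1, 2, 1], [0, 2, 4, 2, 1], [1, 2, 4, 2, 1], [0, 3, 4, 2, 1], [1, 3, 4, 2, 1], [0, 2, 4, 0, 2], [1, 2, 4, 0, 2], [0, 3, 4, 0, 2], [1, 3, 4, 0, 2], [0, 2, 4, 1, 2], [1, 2, 4, 1, 2], [0, 3, 4, 1, 2], [1, 3, 4, 1, 2], [0, 2, 4, 0, 2, 0], [1, 2, 4, 0, 2, 0], [0, 3, 4, 0, 2, 0], [1, 3, 4, 0, 2, 0], [0, 2, 4, 1, 2, 0], [1, 2, 4, 1, 2, 0], [0, 3, 4, 1, 2, 0], [1, 3, 4, 1, 2, 0], [0, 2, 4, 0, 2, 1], [1, 2, 4, 0, 2, 1],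 [0, 3, 4, 0, 2, 1], [1, 3, 4, 0, 2, 1], [0, 2, 4, 1, 2, 1], [1, 2, 4, 1, 2, 1], [0, 3, 4, 1, 2, 1], [1, 3, 4, 1, 2, 1]]
theorem jn_bd : Bd (cl (perms 80 jn_Mb)) 1920 := jn_pres.{0} _ _ rfl jn_rels
theorem jn_mk : MK (perms 80 jn_Mb) jn_k jn_E1 jn_E2 ∧ Nat.card (cl (perms 80 jn_Mb)) = 1920 :=
  mk_perms (k := 9) jn_valb jn_bd (by decide +kernel)
def jl_T : List Nat := [0x30205040100, 0x40503020001, 0x40502030100, 0x50304020001, 0x50401000302]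
def jl_k : List Nat → Nat := keyW 6 jl_T [0, 1, 2, 3]
def jl_E1 : List (List Nat) := [[], [3], [4], [1, 3], [4, 3], [0, 4], [3, 4], [4, 1, 3], [0, 4, 3], [3, 4, 3], [3, 0, 4], [1, 3, 4], [4, 3, 4], [0, 4, 1, 3], [3, 4, 1, 3], [3, 0, 4, 3], [1, 3, 4, 3], [4, 3, 4, 3], [1, 3, 0, 4], [4, 3, 0, 4], [4, 1, 3, 4], [0, 4, 3, 4], [3, 4, 3, 4], [3, 0, 4, 1, 3], [1, 3, 4, 1, 3], [4, 3, 4, 1, 3], [1, 3, 0, 4, 3], [4, 3, 0, 4, 3], [0, 1, 3, 4, 3], [4, 1, 3, 4, 3], [0, 4, 3, 4, 3], [3, 4, 3, 4, 3], [4, 1, 3, 0, 4], [0, 4, 3, 0, 4], [3, 4, 3, 0, 4], [0, 4, 1, 3, 4], [1, 0, 4, 3, 4], [3, 0, 4, 3, 4], [1, 3, 4, 3, 4], [4, 3, 0, 4, 1, 3], [0, 4, 3, 4, 1, 3], [4, 1, 3, 0, 4, 3], [4, 0, 1, 3, 4, 3], [3, 0, 4, 3, 4, 3], [1, 3, 4, 3, 4, 3]]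
def jl_E2 : List (List Nat) := [[], [0], [1], [2], [1, 0], [2, 0], [0, 1], [2, 1]]
theorem jl_bd : Bd (cl (perms 6 jl_Mb)) 360 := jl_pres.{0} _ _ rfl jl_rels
theorem jl_mk : MK (perms 6 jl_Mb) jl_k jl_E1 jl_E2 ∧ Nat.card (cl (perms 6 jl_Mb)) = 360 :=
  mk_perms (k := 5) jl_valb jl_bd (by decide +kernel)
def jv_T : List Nat := [0x16121b1f130d0e1a1e1c0a151d170911190f18070c1410080b06050403020100, 0x1c1713161d180f0d121f140a1b1e10090e191a0b071511080c06050403020100, 0x1d191f1712181e1a1c0e14150f1b10111316080b0c06040d020a050903070100, 0x1d191f13160c1e0b0f1b11101c0e15141712071a18090a020d04030605080001, 0x15111a140d1d0c13100a1f1c18091e170b071b190f1612050e03080106000402, 0x191d1e0f12111f10130e0c0b171b1a181c16091514070d040a02010800060503, 0x1b16121d17150e141f1311101e1c1a18190f0a0c0b090d060704010805020300, 0x17131c121f110f101b1e1a18161d15140e19090c0b0d0a040708030601020500, 0x1814100d11160b1f0a1a121e09151b1d070c1c0e191713030f01040508000602]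
def jv_k : List Nat → Nat := keyW 32 jv_T [0, 4, 7]
def jv_E1 : List (List Nat) := [[], [3], [4], [5], [4, 3], [5, 3], [8, 3], [2, 4], [3, 4], [2, 4, 3], [2, 8, 3], [0, 2, 4], [1, 2, 4], [3, 2, 4], [4, 2, 4], [8, 2, 4], [0, 2, 4, 3], [1, 2, 4, 3], [4, 2, 4, 3], [8, 2, 4, 3], [0, 2, 8, 3], [1, 2, 8, 3], [4, 2, 8, 3], [8, 2, 8, 3], [3, 0, 2, 4], [8, 0, 2, 4], [3, 1, 2, 4], [4, 3, 2, 4], [8, 3, 2, 4], [8, 0, 2, 4, 3], [4, 1, 2, 4, 3], [4, 1, 2, 8, 3]]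
def jv_E2 : List (List Nat) := [[], [0], [1], [2], [6], [7], [2, 0], [6, 0], [7, 0], [2, 1], [6, 1], [7, 1], [0, 2], [1, 2], [6, 2], [7, 2], [0, 2, 0], [1, 2, 0], [6, 2, 0], [7, 2, 0], [0, 2, 1], [1, 2, 1], [6, 2, 1], [7, 2, 1], [6, 0, 2], [7, 0, 2], [6, 1, 2], [7, 1, 2], [6, 0, 2, 0], [7, 0, 2, 0], [6, 1, 2, 0], [7, 1, 2, 0], [6, 0, 2, 1], [7, 0, 2, 1], [6, 1, 2, 1], [7, 1, 2, 1]]
theorem jv_bd : Bd (cl (perms 32 jv_Nb)) 1152 := jv_pres.{0} _ _ rfl jv_rels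
theorem jv_mk : MK (perms 32 jv_Nb) jv_k jv_E1 jv_E2 ∧ Nat.card (cl (perms 32 jv_Nb)) = 1152 :=
  mk_perms (k := 9) jv_valb jv_bd (by decide +kernel)
end
end H2
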