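import Cfsg.Agent.H2.JO
/-! A word model of the group L2(16) and its place in the third Janko group. -/
set_option maxRecDepth 100000
set_option Elab.async false
namespace H2
open H27 H28
noncomputable section
universe u
def js_R : List (List Nat) := [[0, 1], [2, 2], [3, 3], [1, 0], [0, 0, 0], [0, 2, 0, 2, 0, 2], [0, 3, 0, 3], [2, 3, 2, 3, 2, 3], [4, 5], [5, 4], [4, 4, 4, 4, 4], [1, 5, 0, 4], [3, 4, 3, 4], [2, 5, 1, 2, 0, 4, 4, 1, 2, 0, 5]]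
def js_W1 : List (List Nat) := [[0, 3, 0, 3], [1, 5, 0, 4], [3, 4, 3, 4], [4, 4, 4, 4, 4], [0, 2, 0, 2, 0, 2], [2, 3, 2, 3, 2, 3], [2, 5, 1, 2, 0, 4, 4, 1, 2, 0, 5], [1, 0], [2, 2], [3, 3], [5, 4]]
theorem js_i1 : Impl.{u} 6 js_R js_W1 := Impl.refl.trans (impl_of_sub (R := js_R) [6, 11, 12, 10, 5, 7, 13, 3, 1, 2, 9] (by decide +kernel))
def js_N0 : Net := (.cons 1 0x15414444050451110 (.cons 2 0x1111301210000300 (.cons 4 0xf030b00000f0c08 (.cons 8 0x97000900630090 (.cons 16 0xf66600004b00 (.cons 32 0x90060007 (.cons 64 0x7 (.cons 32 0x7 (.cons 16 0x900700000000 (.cons 8 0x3001100430000 (.cons 4 0x305090800070e00 (.cons 2 0x22222331300201200 (.cons 1 0x150415015501510 .nil)))))))))))))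
def js_N1 : Net := (.cons 1 0x40550415045511510 (.cons 2 0x22220333230311300 (.cons 4 0xb0f01020a0f0309 (.cons 8 0xbb00a100570009 (.cons 16 0xef7700009600 (.cons 32 0x29100007 (.cons 64 0x7 (.cons 32 0x7 (.cons 16 0x291600000000 (.cons 8 0xa7003300170000 (.cons 4 0x70b030a0a070101 (.cons 2 0x1113131310110200 (.cons 1 0x14414414040441110 .nil)))))))))))))
def js_N2 : Net := (.cons 1 0x5115441440101050 (.cons 2 0x3200222000321212 (.cons 4 0x6090a0f0a0d0904 (.cons 8 0xb9005200550030 (.cons 16 0xc72f00000480 (.cons 32 0x822d0009 (.cons 64 0x9 (.cons 32 0x9 (.cons 16 0x822d00000000 (.cons 8 0x4b008000050000 (.cons 4 0x4050005000d0100 (.cons 2 0x31221000222120210 (.cons 1 0x51450041040101050 .nil)))))))))))))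
def js_N3 : Net := (.cons 1 0x544505405550504 (.cons 2 0x33312100222112332 (.cons 4 0xe0f0d04060a0100 (.cons 8 0x1e0010001600a4 (.cons 16 0x125f00007b80 (.cons 32 0x5b000f (.cons 64 0xf (.cons 32 0xf (.cons 16 0x5f00000000 (.cons 8 0x17001000b80000 (.cons 4 0x70b01040c0a0100 (.cons 2 0x10100000330100 (.cons 1 0x14004501405550504 .nil)))))))))))))
def js_N4 : Net := (.cons 1 0x11150415405110015 (.cons 2 0x2031320233221012 (.cons 4 0xc0204030b02 (.cons 8 0xe90082007f00c4 (.cons 16 0xafbf0000fb00 (.cons 32 0xa3000c (.cons 64 0xc (.cons 32 0xc (.cons 16 0xaf00000000 (.cons 8 0x3a000c00da0000 (.cons 4 0x906080c0b0c0000 (.cons 2 0x12211112121110020 (.cons 1 0x10410545101100444 .nil)))))))))))))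
def js_N5 : Net := (.cons 1 0x45145010454455111 (.cons 2 0x12211112123311121 (.cons 4 0x902010303070604 (.cons 8 0xfd001b004b0038 (.cons 16 0x5fdf0000c730 (.cons 32 0x18440003 (.cons 64 0x3 (.cons 32 0x3 (.cons 16 0x184700000000 (.cons 8 0x41004800d70000 (.cons 4 0x70000000100 (.cons 2 0x32301023220001110 (.cons 1 0x44405140150445540 .nil)))))))))))))
def js_L0 : List Nat := [0xa140b83f09259386d, 0xc27b35e4c5e648e06, 0xeb521508363810450, 0xe3121130c081a3080, 0x821a0c4000000000]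
def js_D0 : Nat := 0x14844200000004100
def js_L1 : List Nat := [0x463dcb3ff3ad0973b, 0xc0cdc2009ee3f8e06, 0xb6bc10144a0821050, 0xa69c1080157644100, 0x1141c608000000000]
def js_D1 : Nat := 0x8022040000002080
def js_L2 : List Nat := [0x383da690d7d9cccd7, 0x35164650012488480, 0x3c546000052486700, 0x30560650000210800, 0x41898000000000000]
def js_D2 : Nat := 0x8200192f280021028
def js_L3 : List Nat := [0x134ca8ea8914b79ed, 0x24d0ae35d31e90c06, 0xc7d74ecc280000050, 0xffbff123000000000, 0]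
def js_D3 : Nat := 0x4e148200
def js_L4 : List Nat := [0x14069a2f58eb4970b, 0x484ce890044800430, 0x448c9134604a04420, 0x448c9124362023080, 0x9a406ac0000000000]
def js_D4 : Nat := 0x21310400811490844
def js_L5 : List Nat := [0xa925752fa83587bed, 0xa914094881e0d3040, 0xa5120000898493800, 0xa51601080c7068000, 0x1aa16e40000000000]
def js_D5 : Nat := 0x40488090520a00412
def js_Nb : List Net := [js_N0, js_N1, js_N2, js_N3, js_N4, js_N5]
def js_Ns : List Net := [js_N0, js_N1, js_N2, js_N3, js_N4, js_N5]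
def js_Lv : List (List Nat) := [js_L0, js_L1, js_L2, js_L3, js_L4, js_L5]
def js_As : List (List Nat) := []
def js_Ds : List Nat := [js_D0, js_D1, js_D2, js_D3, js_D4, js_D5]
def js_Sb : List (List Nat) := [[0], [1], [2], [3]]
theorem js_val : Enum.validL 68 js_Ns = true := by decide +kernel
theorem js_fix : FixR 68 js_Ns js_R := fixR_of_relA (K := 7) js_val (by decide +kernel)
theorem js_fix1 : FixR 68 js_Ns js_W1 := js_fix.impl js_val rfl js_i1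
theorem js_tree0 : TreeOk 68 js_Ns js_Ds 6 := TreeOk.step (K := 7) (a := 0) (c := 6) (ok_of_validL js_val) (treeOk_zero _ _ _) (by decide +kernel)
theorem js_c0 : cosChk 68 5 0 6 js_Ns js_Lv js_As js_Ds js_W1 js_Sb 0 [(0, 2, false), (1, 4, false), (2, 2, false), (3, 1, false), (4, 2, false), (5, 2, false), (6, 11, false), (7, 2, false), (8, 1, false), (9, 1, false), (10, 2, false), (0, 1, true), (1, 1, true), (2, 1, true), (3, 1, true)] = true := by decide +kernel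
theorem js_cert : Cert 68 js_Ns js_W1 js_Sb := Cert.of (S := 0) js_val js_fix1 js_tree0 (Cov.zero.step js_c0) (by decide +kernel)
theorem js_idx : Idx.{u} 6 js_R js_Sb 68 := js_cert.idx rfl js_i1
theorem js_i2 : Impl.{u} 6 js_R (expL js_Sb ja5_R) := Impl.refl.trans (impl_of_sub (R := js_R) [0, 1, 2, 3, 4, 5, 6, 7] (by decide +kernel))
theorem js_pres : Pres.{u} 6 js_R 4080 := js_cert.pres rfl js_i1 (ja5_pres.sub rfl js_i2) (c := 4080) (by norm_num)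
def js_Mb : List Net := [(.cons 1 0x454 (.cons 2 0x3130 (.cons 4 0x608 (.cons 8 0x61 (.cons 16 0x1 (.cons 8 0x1 (.cons 4 0x700 (.cons 2 0x1320 (.cons 1 0x1510 .nil))))))))), (.cons 1 0x1510 (.cons 2 0x3320 (.cons 4 0x708 (.cons 8 0x61 (.cons 16 0x1 (.cons 8 0x1 (.cons 4 0x600 (.cons 2 0x1130 (.cons 1 0x454 .nil))))))))), (.cons 1 0x5144 (.cons 2 0x3323 (.cons 4 0x301 (.cons 8 0xe1 (.cons 16 0x1 (.cons 8 0x1 (.cons 4 0x900 (.cons 2 0x1001 (.cons 1 0x4104 .nil))))))))), (.cons 1 0x5511 (.cons 2 0x2230 (.cons 4 0x708 (.cons 8 0x21 (.cons 16 0x1 (.cons 8 0x1 (.cons 4 0x300 (.cons 2 0x220 (.cons 1 0x5410 .nil))))))))), (.cons 1 0x4444 (.cons 2 0x20 (.cons 4 0x20c (.cons 8 0x71 (.cons 16 0x1 (.cons 8 0x1 (.cons 4 0x500 (.cons 2 0x3100 (.cons 1 0x5054 .nil))))))))), (.cons 1 0x5054 (.cons 2 0x3100 (.cons 4 0x10c (.cons 8 0x35 (.cons 16 0x1 (.cons 8 0x1 (.cons 4 0x600 (.cons 2 0x20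 (.cons 1 0x4444 .nil)))))))))]
theorem js_valb : Enum.validL 17 js_Mb = true := by decide +kernel
theorem js_fixb : FixR 17 js_Mb js_R := fixR_of_relA (K := 5) js_valb (by decide +kernel)
theorem js_rels : Rels (perms 17 js_Mb) js_R := rels_perms js_valb js_fixb
theorem js_le : 4080 ≤ Nat.card (cl (perms 17 js_Mb)) := le_card_netGrp (K := 5) (by norm_num) (ok_of_mem js_valb) [] [3, 2, 0, 1, 4, 5] [(0, 2, 1), (1, 2, 1), (2, 2, 4)] (by decide +kernel)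
theorem js_univ : Univ.{u} js_R (perms 17 js_Mb) := Univ.of_pres js_pres rfl js_rels js_le
def js_T : List Nat := [0xb0d100c0f0e06050a0908070204030100, 0xe0c0b0f0d10080706050a090302040100, 0xf1008060705090a0e0c0d0b0304010200, 0xd0b0c100e0f0708090a05060304020001, 0x810060b0e0a040d030f020c0907050100, 0xf070c09050d0b0410030e020a08060100]
def js_k : List Nat → Nat := keyW 17 js_T [0, 1, 2]
def js_E1 : List (List Nat) := [[], [4], [5], [2, 4], [4, 4], [2, 5], [5, 5], [0, 2, 4], [1, 2, 4], [3, 2, 4], [4, 2, 4], [5, 2, 4], [2, 4, 4], [0, 2, 5], [1, 2, 5], [3, 2, 5], [5, 2, 5], [2, 5, 5], [3, 0, 2, 4], [5, 0, 2, 4], [3, 1, 2, 4], [4, 1, 2, 4], [5, 1, 2, 4], [4, 3, 2, 4], [5, 3, 2, 4], [3, 2, 4, 4], [3, 0, 2, 5], [3, 1, 2, 5], [5, 1, 2, 5], [4, 3, 2, 5], [3, 2, 5, 5], [2, 3, 0, 2, 4], [4, 3, 0, 2, 4], [2, 3, 1, 2, 4], [4, 3, 1, 2, 4], [5, 3, 1, 2, 4], [2, 4, 3, 2, 4], [2, 5, 3, 2, 4],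 [2, 3, 0, 2, 5], [2, 3, 1, 2, 5], [4, 3, 1, 2, 5], [2, 4, 3, 2, 5], [0, 2, 3, 0, 2, 4], [4, 2, 3, 0, 2, 4], [2, 4, 3, 0, 2, 4], [1, 2, 3, 1, 2, 4], [5, 2, 3, 1, 2, 4], [2, 4, 3, 1, 2, 4], [2, 5, 3, 1, 2, 4], [0, 2, 4, 3, 2, 4], [1, 2, 4, 3, 2, 4], [4, 2, 4, 3, 2, 4], [5, 2, 4, 3, 2, 4], [0, 2, 5, 3, 2, 4], [1, 2, 5, 3, 2, 4], [4, 2, 5, 3, 2, 4], [5, 2, 5, 3, 2, 4], [5, 2, 3, 0, 2, 5], [4, 2, 3, 1, 2, 5], [1, 2, 4, 3, 2, 5], [5, 2, 4, 3, 2, 5], [2, 4, 2, 3, 0, 2, 4], [1, 2, 4, 3, 0, 2, 4], [0, 2, 4, 3, 1, 2, 4], [1, 2, 4, 3, 1, 2, 4], [5, 2, 5, 3, 1, 2, 4], [4, 0, 2, 5, 3, 2, 4], [2, 5, 2, 3, 0, 2, 5]]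
def js_E2 : List (List Nat) := [[], [0], [1], [2], [3], [2, 0], [3, 0], [2, 1], [3, 1], [0, 2], [1, 2], [3, 2], [2, 3], [0, 2, 0], [1, 2, 0], [3, 2, 0], [2, 3, 0], [0, 2, 1], [1, 2, 1], [3, 2, 1], [2, 3, 1], [3, 0, 2], [3, 1, 2], [2, 3, 2], [0, 2, 3], [1, 2, 3], [3, 0, 2, 0], [3, 1, 2, 0], [2, 3, 2, 0], [0, 2, 3, 0], [1, 2, 3, 0], [3, 0, 2, 1], [3, 1, 2, 1], [2, 3, 2, 1], [0, 2, 3, 1], [1, 2, 3, 1], [2, 3, 0, 2], [2, 3, 1, 2], [0, 2, 3, 2], [1, 2, 3, 2], [2, 3, 0, 2, 0], [2, 3, 1, 2, 0], [0, 2, 3, 2, 0], [1, 2, 3, 2, 0], [2, 3, 0, 2, 1], [2, 3, 1, 2, 1], [0, 2, 3, 2, 1], [1, 2, 3, 2, 1], [0, 2, 3, 0, 2], [1, 2, 3, 0, 2], [0, 2, 3, 1, 2], [1, 2, 3, 1, 2], [0, 2, 3, 0, 2, 0], [1, 2, 3, 0, 2, 0], [0, 2, 3, 1, 2, 0], [1, 2, 3, 1, 2, 0], [0, 2, 3, 0, 2, 1], [1, 2, 3, 0, 2, 1], [0, 2, 3, 1, 2, 1], [1, 2, 3, 1, 2, 1]]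
theorem js_bd : Bd (cl (perms 17 js_Mb)) 4080 := js_pres.{0} _ _ rfl js_rels
theorem js_mk : MK (perms 17 js_Mb) js_k js_E1 js_E2 ∧ Nat.card (cl (perms 17 js_Mb)) = 4080 :=
  mk_perms (k := 6) js_valb js_bd (by decide +kernel)
def js_S : List (List Nat) := [[0], [1], [2], [3], [10, 9, 10, 5, 9], [9, 5, 10, 9, 10]]
theorem js_fx : FixR 26163 jj3_Ns (expL js_S js_R) := fixR_of_relA (K := 15) jj3_val (by decide +kernel)
end
end H2
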