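import Cfsg.Agent.H2.JO
/-! The Sylow 2-subgroup of J₂: word model facts. -/
set_option maxRecDepth 100000
namespace H2
open H27 H28 H13 Subgroup Cfsg
noncomputable section
variable {G : Type*} [Group G]
def ks_k : List Nat → Nat := fun w => jh_k (expand [[2], [0, 2, 1], [4], [5], [2, 5, 2], [0, 2, 1, 5, 0, 2, 1], [2, 0, 2, 1, 5, 0, 2, 1, 2], [5, 2, 5], [5, 0, 2, 1, 5], [6]] w)
def ks_E1 : List (List Nat) := [[], [0], [1], [2], [3], [4], [5], [6], [7], [8], [9], [1, 0], [2, 0], [3, 0], [4, 0], [5, 0], [6, 0], [7, 0], [8, 0], [9, 0], [2, 1], [3, 1], [4, 1], [5, 1], [6, 1], [7, 1], [8, 1], [9, 1], [3, 2], [4, 2], [5, 2], [6, 2], [7, 2], [8, 2], [9, 2], [2, 3], [4, 3], [5, 3], [6, 3], [9, 3], [2, 4], [5, 4], [6, 4], [7, 4], [8, 4], [9, 4], [2, 5], [4, 5], [6, 5], [7, 5], [8, 5], [9, 5], [2, 6], [3, 6], [4, 6], [5, 6], [7, 6], [8, 6], [9, 6], [1, 7], [4, 7], [8, 7], [9, 7], [0, 8], [5, 8], [9, 8], [2, 1, 0], [3,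 1, 0], [4, 1, 0], [5, 1, 0], [6, 1, 0], [7, 1, 0], [8, 1, 0], [9, 1, 0], [3, 2, 0], [4, 2, 0], [5, 2, 0], [8, 2, 0], [9, 2, 0], [2, 3, 0], [5, 3, 0], [6, 3, 0], [2, 4, 0], [5, 4, 0], [6, 4, 0], [8, 4, 0], [4, 5, 0], [6, 5, 0], [8, 5, 0], [9, 5, 0], [2, 6, 0], [3, 6, 0], [4, 6, 0], [8, 6, 0], [9, 6, 0], [1, 7, 0], [8, 7, 0], [0, 8, 0], [5, 8, 0], [9, 8, 0], [3, 2, 1], [5, 2, 1], [6, 2, 1], [9, 2, 1], [2, 3, 1], [4, 3, 1], [6, 3, 1], [2, 4, 1], [5, 4, 1], [7, 4, 1], [9, 4, 1], [2, 5, 1], [4, 5, 1], [6, 5, 1], [7, 5, 1], [7, 6, 1], [9, 6, 1], [9, 7, 1], [8, 7, 2], [1, 7, 4], [8, 7, 4], [0, 8, 4], [1, 7, 5], [8, 7, 5], [9, 1, 7], [9, 8, 7], [9, 2, 1, 0], [5, 4, 1, 0]]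
def ks_E2 : List (List Nat) := [[]]
theorem ks_mk {y a h s e z : G} [Finite G] (M : MK [y, y⁻¹, a, h, s, e, z] jh_k jh_E1 jh_E2) :
    MK [a, y * a * y⁻¹, s, e, a * e * a, y * a * y⁻¹ * e * y * a * y⁻¹, a * y * a * y⁻¹ * e * y * a * y⁻¹ * a, e * a * e, e * y * a * y⁻¹ * e, z] ks_k ks_E1 ks_E2 ∧ Nat.card (cl [a, y * a * y⁻¹, s, e, a * e * a, y * a * y⁻¹ * e * y * a * y⁻¹, a * y * a * y⁻¹ * e * y * a * y⁻¹ * a, e * a * e, e * y * a * y⁻¹ * e, z]) = 128 := by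
  have : MK _ ks_k ks_E1 ks_E2 ∧ _ := M.sub (k := 7) (m := 128) rfl [[2], [0, 2, 1], [4], [5], [2, 5, 2], [0, 2, 1, 5, 0, 2, 1], [2, 0, 2, 1, 5, 0, 2, 1, 2], [5, 2, 5], [5, 0, 2, 1, 5], [6]] ks_E1 (by decide +kernel)
  simp only [List.map_cons, List.map_nil, ev_cons, ev_nil, List.cons_append, List.nil_append, List.getD_cons_succ, List.getD_cons_zero, mul_one] at this
  simpa only [mul_assoc] using this
def kq_k : List Nat → Nat := fun w => ks_k (expand [[2], [3], [4], [5], [6], [9]] w)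
def kq_E1 : List (List Nat) := [[], [0], [1], [2], [3], [4], [5], [1, 0], [2, 0], [3, 0], [4, 0], [5, 0], [0, 1], [2, 1], [3, 1], [4, 1], [5, 1], [0, 2], [1, 2], [3, 2], [4, 2], [5, 2], [0, 3], [1, 3], [2, 3], [4, 3], [5, 3], [0, 4], [1, 4], [2, 4], [3, 4], [5, 4]]
def kq_E2 : List (List Nat) := [[]]
theorem kq_mk {a b s e c d f p q z : G} [Finite G] (M : MK [a, b, s, e, c, d, f, p, q, z] ks_k ks_E1 ks_E2) :
    MK [s, e, c, d, f, z] kq_k kq_E1 kq_E2 ∧ Nat.card (cl [s, e, c, d, f, z]) = 32 := by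
  have : MK _ kq_k kq_E1 kq_E2 ∧ _ := M.sub (k := 10) (m := 32) rfl [[2], [3], [4], [5], [6], [9]] kq_E1 (by decide +kernel)
  simp only [List.map_cons, List.map_nil, ev_cons, ev_nil, List.cons_append, List.nil_append, List.getD_cons_succ, List.getD_cons_zero, mul_one] at this
  simpa only [mul_assoc] using this
def kv_k : List Nat → Nat := fun w => ks_k (expand [[2], [9]] w)
def kv_E1 : List (List Nat) := [[], [0], [1], [1, 0]]
def kv_E2 : List (List Nat) := [[]]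
theorem kv_mk {a b s e c d f p q z : G} [Finite G] (M : MK [a, b, s, e, c, d, f, p, q, z] ks_k ks_E1 ks_E2) :
    MK [s, z] kv_k kv_E1 kv_E2 ∧ Nat.card (cl [s, z]) = 4 := by
  have : MK _ kv_k kv_E1 kv_E2 ∧ _ := M.sub (k := 10) (m := 4) rfl [[2], [9]] kv_E1 (by decide +kernel)
  simp only [List.map_cons, List.map_nil, ev_cons, ev_nil, List.cons_append, List.nil_append, List.getD_cons_succ, List.getD_cons_zero, mul_one] at this
  simpa only [mul_assoc] using this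
def ke_k : List Nat → Nat := fun w => ks_k (expand [[0], [1], [2], [9]] w)
def ke_E1 : List (List Nat) := [[], [0], [1], [2], [3], [1, 0], [2, 0], [3, 0], [2, 1], [3, 1], [3, 2], [2, 1, 0], [3, 1, 0], [3, 2, 0], [3, 2, 1], [3, 2, 1, 0]]
def ke_E2 : List (List Nat) := [[]]
theorem ke_mk {a b s e c d f p q z : G} [Finite G] (M : MK [a, b, s, e, c, d, f, p, q, z] ks_k ks_E1 ks_E2) :
    MK [a, b, s, z] ke_k ke_E1 ke_E2 ∧ Nat.card (cl [a, b, s, z]) = 16 := by
  have : MK _ ke_k ke_E1 ke_E2 ∧ _ := M.sub (k := 10) (m := 16) rfl [[0], [1], [2], [9]] ke_E1 (by decide +kernel)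
  simp only [List.map_cons, List.map_nil, ev_cons, ev_nil, List.cons_append, List.nil_append, List.getD_cons_succ, List.getD_cons_zero, mul_one] at this
  simpa only [mul_assoc] using this
theorem kv_1 {s z : G} (M : MK [s, z] kv_k kv_E1 kv_E2) {x : G} (hx : x ∈ cl [s, z]) :
    x = 1 ∨ x = z ∨ x = s ∨ x = s * z := by
  have := M.sol (k := 2) rfl [] [[], [1], [0], [0, 1]] (by decide +kernel) hx (fun _ h => absurd h List.not_mem_nil)
  simpa only [List.mem_cons, List.not_mem_nil, or_false, false_and, exists_false, exists_eq_or_imp, exists_eq_left, ev_cons, ev_nil, List.cons_append, List.nil_append, List.getD_cons_succ, List.getD_cons_zero, mul_one, pow_succ, pow_zero, one_mul, mul_one, mul_assoc, mul_inv_rev, inv_inv] using this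
theorem ke_1 {a b s z : G} (M : MK [a, b, s, z] ke_k ke_E1 ke_E2) {x : G} (hx : x ∈ cl [a, b, s, z]) :
    (x * x = 1 ∧ x * a = a * x) := by
  have := M.imp (k := 4) rfl [] [[([4, 4], []), ([4, 0], [0, 4])]] (by decide +kernel) hx (fun _ h => absurd h List.not_mem_nil)
  simpa only [List.mem_cons, List.not_mem_nil, or_false, false_and, exists_false, exists_eq_or_imp, exists_eq_left, Sat, forall_eq_or_imp, forall_eq, ev_cons, ev_nil, List.cons_append, List.nil_append, List.getD_cons_succ, List.getD_cons_zero, mul_one, pow_succ, pow_zero, one_mul, mul_one, mul_assoc, mul_inv_rev, inv_inv] using this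
theorem kq_inv {s e c d f z : G} (M : MK [s, e, c, d, f, z] kq_k kq_E1 kq_E2) {x : G} (hx : x ∈ cl [s, e, c, d, f, z]) (h0 : x * x = 1) :
    x = 1 ∨ x = z ∨ x = c ∨ x = c * z ∨ x = d ∨ x = d * z ∨ x = f ∨ x = f * z ∨ x = e ∨ x = e * z ∨ x = s ∨ x = s * z := by
  have := M.sol (k := 6) rfl [([6, 6], [])] [[], [5], [2], [2, 5], [3], [3, 5], [4], [4, 5], [1], [1, 5], [0], [0, 5]] (by decide +kernel) hx (by
    simp only [Sat, List.forall_mem_cons, List.not_mem_nil, IsEmpty.forall_iff, implies_true, and_true, ev_cons, ev_nil, List.cons_append, List.nil_append, List.getD_cons_succ, List.getD_cons_zero, mul_one]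
    exact by simpa only [pow_succ, pow_zero, one_mul, mul_one, mul_assoc, mul_inv_rev, inv_inv] using h0)
  simpa only [List.mem_cons, List.not_mem_nil, or_false, false_and, exists_false, exists_eq_or_imp, exists_eq_left, ev_cons, ev_nil, List.cons_append, List.nil_append, List.getD_cons_succ, List.getD_cons_zero, mul_one, pow_succ, pow_zero, one_mul, mul_one, mul_assoc, mul_inv_rev, inv_inv] using this
theorem kq_sq {s e c d f z : G} (M : MK [s, e, c, d, f, z] kq_k kq_E1 kq_E2) {x : G} (hx : x ∈ cl [s, e, c, d, f, z]) :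
    x * x = 1 ∨ x * x = z := by
  have := M.imp (k := 6) rfl [] [[([6, 6], [])], [([6, 6], [5])]] (by decide +kernel) hx (fun _ h => absurd h List.not_mem_nil)
  simpa only [List.mem_cons, List.not_mem_nil, or_false, false_and, exists_false, exists_eq_or_imp, exists_eq_left, Sat, forall_eq_or_imp, forall_eq, ev_cons, ev_nil, List.cons_append, List.nil_append, List.getD_cons_succ, List.getD_cons_zero, mul_one, pow_succ, pow_zero, one_mul, mul_one, mul_assoc, mul_inv_rev, inv_inv] using this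
theorem kq_e {s e c d f z : G} (M : MK [s, e, c, d, f, z] kq_k kq_E1 kq_E2) {x : G} (hx : x ∈ cl [s, e, c, d, f, z]) :
    x * e = e * x ∨ x * e = e * x * z := by
  have := M.imp (k := 6) rfl [] [[([6, 1], [1, 6])], [([6, 1], [1, 6, 5])]] (by decide +kernel) hx (fun _ h => absurd h List.not_mem_nil)
  simpa only [List.mem_cons, List.not_mem_nil, or_false, false_and, exists_false, exists_eq_or_imp, exists_eq_left, Sat, forall_eq_or_imp, forall_eq, ev_cons, ev_nil, List.cons_append, List.nil_append, List.getD_cons_succ, List.getD_cons_zero, mul_one, pow_succ, pow_zero, one_mul, mul_one, mul_assoc, mul_inv_rev, inv_inv] using this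
theorem kq_c {s e c d f z : G} (M : MK [s, e, c, d, f, z] kq_k kq_E1 kq_E2) {x : G} (hx : x ∈ cl [s, e, c, d, f, z]) :
    x * c = c * x ∨ x * c = c * x * z := by
  have := M.imp (k := 6) rfl [] [[([6, 2], [2, 6])], [([6, 2], [2, 6, 5])]] (by decide +kernel) hx (fun _ h => absurd h List.not_mem_nil)
  simpa only [List.mem_cons, List.not_mem_nil, or_false, false_and, exists_false, exists_eq_or_imp, exists_eq_left, Sat, forall_eq_or_imp, forall_eq, ev_cons, ev_nil, List.cons_append, List.nil_append, List.getD_cons_succ, List.getD_cons_zero, mul_one, pow_succ, pow_zero, one_mul, mul_one, mul_assoc, mul_inv_rev, inv_inv] using this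
theorem kq_d {s e c d f z : G} (M : MK [s, e, c, d, f, z] kq_k kq_E1 kq_E2) {x : G} (hx : x ∈ cl [s, e, c, d, f, z]) :
    x * d = d * x ∨ x * d = d * x * z := by
  have := M.imp (k := 6) rfl [] [[([6, 3], [3, 6])], [([6, 3], [3, 6, 5])]] (by decide +kernel) hx (fun _ h => absurd h List.not_mem_nil)
  simpa only [List.mem_cons, List.not_mem_nil, or_false, false_and, exists_false, exists_eq_or_imp, exists_eq_left, Sat, forall_eq_or_imp, forall_eq, ev_cons, ev_nil, List.cons_append, List.nil_append, List.getD_cons_succ, List.getD_cons_zero, mul_one, pow_succ, pow_zero, one_mul, mul_one, mul_assoc, mul_inv_rev, inv_inv] using this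
theorem kq_f {s e c d f z : G} (M : MK [s, e, c, d, f, z] kq_k kq_E1 kq_E2) {x : G} (hx : x ∈ cl [s, e, c, d, f, z]) :
    x * f = f * x ∨ x * f = f * x * z := by
  have := M.imp (k := 6) rfl [] [[([6, 4], [4, 6])], [([6, 4], [4, 6, 5])]] (by decide +kernel) hx (fun _ h => absurd h List.not_mem_nil)
  simpa only [List.mem_cons, List.not_mem_nil, or_false, false_and, exists_false, exists_eq_or_imp, exists_eq_left, Sat, forall_eq_or_imp, forall_eq, ev_cons, ev_nil, List.cons_append, List.nil_append, List.getD_cons_succ, List.getD_cons_zero, mul_one, pow_succ, pow_zero, one_mul, mul_one, mul_assoc, mul_inv_rev, inv_inv] using this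
theorem kq_s {s e c d f z : G} (M : MK [s, e, c, d, f, z] kq_k kq_E1 kq_E2) {x : G} (hx : x ∈ cl [s, e, c, d, f, z]) :
    x * s = s * x ∨ x * s = s * x * z := by
  have := M.imp (k := 6) rfl [] [[([6, 0], [0, 6])], [([6, 0], [0, 6, 5])]] (by decide +kernel) hx (fun _ h => absurd h List.not_mem_nil)
  simpa only [List.mem_cons, List.not_mem_nil, or_false, false_and, exists_false, exists_eq_or_imp, exists_eq_left, Sat, forall_eq_or_imp, forall_eq, ev_cons, ev_nil, List.cons_append, List.nil_append, List.getD_cons_succ, List.getD_cons_zero, mul_one, pow_succ, pow_zero, one_mul, mul_one, mul_assoc, mul_inv_rev, inv_inv] using this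
theorem ks_sq {a b s e c d f p q z : G} (M : MK [a, b, s, e, c, d, f, p, q, z] ks_k ks_E1 ks_E2) :
    a * a = 1 ∧ b * b = 1 ∧ s * s = 1 ∧ e * e = 1 ∧ c * c = 1 ∧ d * d = 1 ∧ f * f = 1 ∧ p * p = 1 ∧ q * q = 1 ∧ z * z = 1 :=
  ⟨by simpa only [ev_cons, ev_nil, List.cons_append, List.nil_append, List.getD_cons_succ, List.getD_cons_zero, mul_one, pow_succ, pow_zero, one_mul, mul_one, mul_assoc, mul_inv_rev, inv_inv] using M.eq' (k := 10) rfl [0, 0] [] (by decide +kernel),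
   by simpa only [ev_cons, ev_nil, List.cons_append, List.nil_append, List.getD_cons_succ, List.getD_cons_zero, mul_one, pow_succ, pow_zero, one_mul, mul_one, mul_assoc, mul_inv_rev, inv_inv] using M.eq' (k := 10) rfl [1, 1] [] (by decide +kernel),
   by simpa only [ev_cons, ev_nil, List.cons_append, List.nil_append, List.getD_cons_succ, List.getD_cons_zero, mul_one, pow_succ, pow_zero, one_mul, mul_one, mul_assoc, mul_inv_rev, inv_inv] using M.eq' (k := 10) rfl [2, 2] [] (by decide +kernel),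
   by simpa only [ev_cons, ev_nil, List.cons_append, List.nil_append, List.getD_cons_succ, List.getD_cons_zero, mul_one, pow_succ, pow_zero, one_mul, mul_one, mul_assoc, mul_inv_rev, inv_inv] using M.eq' (k := 10) rfl [3, 3] [] (by decide +kernel),
   by simpa only [ev_cons, ev_nil, List.cons_append, List.nil_append, List.getD_cons_succ, List.getD_cons_zero, mul_one, pow_succ, pow_zero, one_mul, mul_one, mul_assoc, mul_inv_rev, inv_inv] using M.eq' (k := 10) rfl [4, 4] [] (by decide +kernel),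
   by simpa only [ev_cons, ev_nil, List.cons_append, List.nil_append, List.getD_cons_succ, List.getD_cons_zero, mul_one, pow_succ, pow_zero, one_mul, mul_one, mul_assoc, mul_inv_rev, inv_inv] using M.eq' (k := 10) rfl [5, 5] [] (by decide +kernel),
   by simpa only [ev_cons, ev_nil, List.cons_append, List.nil_append, List.getD_cons_succ, List.getD_cons_zero, mul_one, pow_succ, pow_zero, one_mul, mul_one, mul_assoc, mul_inv_rev, inv_inv] using M.eq' (k := 10) rfl [6, 6] [] (by decide +kernel),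
   by simpa only [ev_cons, ev_nil, List.cons_append, List.nil_append, List.getD_cons_succ, List.getD_cons_zero, mul_one, pow_succ, pow_zero, one_mul, mul_one, mul_assoc, mul_inv_rev, inv_inv] using M.eq' (k := 10) rfl [7, 7] [] (by decide +kernel),
   by simpa only [ev_cons, ev_nil, List.cons_append, List.nil_append, List.getD_cons_succ, List.getD_cons_zero, mul_one, pow_succ, pow_zero, one_mul, mul_one, mul_assoc, mul_inv_rev, inv_inv] using M.eq' (k := 10) rfl [8, 8] [] (by decide +kernel),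
   by simpa only [ev_cons, ev_nil, List.cons_append, List.nil_append, List.getD_cons_succ, List.getD_cons_zero, mul_one, pow_succ, pow_zero, one_mul, mul_one, mul_assoc, mul_inv_rev, inv_inv] using M.eq' (k := 10) rfl [9, 9] [] (by decide +kernel)⟩
theorem ks_cj {a b s e c d f p q z : G} (M : MK [a, b, s, e, c, d, f, p, q, z] ks_k ks_E1 ks_E2) :
    a * s * a = s ∧ a * e * a = c ∧ a * c * a = e ∧ a * d * a = f ∧ a * f * a = d ∧ b * s * b = s ∧ b * e * b = d ∧ b * c * b = f ∧ b * d * b = e ∧ b * f * b = c ∧ e * a * e = p ∧ e * b * e = q ∧ e * s * e = s * z ∧ a * b = b * a ∧ p * q = q * p :=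
  ⟨by simpa only [ev_cons, ev_nil, List.cons_append, List.nil_append, List.getD_cons_succ, List.getD_cons_zero, mul_one, pow_succ, pow_zero, one_mul, mul_one, mul_assoc, mul_inv_rev, inv_inv] using M.eq' (k := 10) rfl [0, 2, 0] [2] (by decide +kernel),
   by simpa only [ev_cons, ev_nil, List.cons_append, List.nil_append, List.getD_cons_succ, List.getD_cons_zero, mul_one, pow_succ, pow_zero, one_mul, mul_one, mul_assoc, mul_inv_rev, inv_inv] using M.eq' (k := 10) rfl [0, 3, 0] [4] (by decide +kernel),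
   by simpa only [ev_cons, ev_nil, List.cons_append, List.nil_append, List.getD_cons_succ, List.getD_cons_zero, mul_one, pow_succ, pow_zero, one_mul, mul_one, mul_assoc, mul_inv_rev, inv_inv] using M.eq' (k := 10) rfl [0, 4, 0] [3] (by decide +kernel),
   by simpa only [ev_cons, ev_nil, List.cons_append, List.nil_append, List.getD_cons_succ, List.getD_cons_zero, mul_one, pow_succ, pow_zero, one_mul, mul_one, mul_assoc, mul_inv_rev, inv_inv] using M.eq' (k := 10) rfl [0, 5, 0] [6] (by decide +kernel),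
   by simpa only [ev_cons, ev_nil, List.cons_append, List.nil_append, List.getD_cons_succ, List.getD_cons_zero, mul_one, pow_succ, pow_zero, one_mul, mul_one, mul_assoc, mul_inv_rev, inv_inv] using M.eq' (k := 10) rfl [0, 6, 0] [5] (by decide +kernel),
   by simpa only [ev_cons, ev_nil, List.cons_append, List.nil_append, List.getD_cons_succ, List.getD_cons_zero, mul_one, pow_succ, pow_zero, one_mul, mul_one, mul_assoc, mul_inv_rev, inv_inv] using M.eq' (k := 10) rfl [1, 2, 1] [2] (by decide +kernel),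
   by simpa only [ev_cons, ev_nil, List.cons_append, List.nil_append, List.getD_cons_succ, List.getD_cons_zero, mul_one, pow_succ, pow_zero, one_mul, mul_one, mul_assoc, mul_inv_rev, inv_inv] using M.eq' (k := 10) rfl [1, 3, 1] [5] (by decide +kernel),
   by simpa only [ev_cons, ev_nil, List.cons_append, List.nil_append, List.getD_cons_succ, List.getD_cons_zero, mul_one, pow_succ, pow_zero, one_mul, mul_one, mul_assoc, mul_inv_rev, inv_inv] using M.eq' (k := 10) rfl [1, 4, 1] [6] (by decide +kernel),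
   by simpa only [ev_cons, ev_nil, List.cons_append, List.nil_append, List.getD_cons_succ, List.getD_cons_zero, mul_one, pow_succ, pow_zero, one_mul, mul_one, mul_assoc, mul_inv_rev, inv_inv] using M.eq' (k := 10) rfl [1, 5, 1] [3] (by decide +kernel),
   by simpa only [ev_cons, ev_nil, List.cons_append, List.nil_append, List.getD_cons_succ, List.getD_cons_zero, mul_one, pow_succ, pow_zero, one_mul, mul_one, mul_assoc, mul_inv_rev, inv_inv] using M.eq' (k := 10) rfl [1, 6, 1] [4] (by decide +kernel),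
   by simpa only [ev_cons, ev_nil, List.cons_append, List.nil_append, List.getD_cons_succ, List.getD_cons_zero, mul_one, pow_succ, pow_zero, one_mul, mul_one, mul_assoc, mul_inv_rev, inv_inv] using M.eq' (k := 10) rfl [3, 0, 3] [7] (by decide +kernel),
   by simpa only [ev_cons, ev_nil, List.cons_append, List.nil_append, List.getD_cons_succ, List.getD_cons_zero, mul_one, pow_succ, pow_zero, one_mul, mul_one, mul_assoc, mul_inv_rev, inv_inv] using M.eq' (k := 10) rfl [3, 1, 3] [8] (by decide +kernel),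
   by simpa only [ev_cons, ev_nil, List.cons_append, List.nil_append, List.getD_cons_succ, List.getD_cons_zero, mul_one, pow_succ, pow_zero, one_mul, mul_one, mul_assoc, mul_inv_rev, inv_inv] using M.eq' (k := 10) rfl [3, 2, 3] [2, 9] (by decide +kernel),
   by simpa only [ev_cons, ev_nil, List.cons_append, List.nil_append, List.getD_cons_succ, List.getD_cons_zero, mul_one, pow_succ, pow_zero, one_mul, mul_one, mul_assoc, mul_inv_rev, inv_inv] using M.eq' (k := 10) rfl [0, 1] [1, 0] (by decide +kernel),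
   by simpa only [ev_cons, ev_nil, List.cons_append, List.nil_append, List.getD_cons_succ, List.getD_cons_zero, mul_one, pow_succ, pow_zero, one_mul, mul_one, mul_assoc, mul_inv_rev, inv_inv] using M.eq' (k := 10) rfl [7, 8] [8, 7] (by decide +kernel)⟩
theorem ks_ij {a b s e c d f p q z : G} (M : MK [a, b, s, e, c, d, f, p, q, z] ks_k ks_E1 ks_E2) :
    (s * c) ^ 2 = z ∧ (s * d) ^ 2 = z ∧ s * c * (s * d) * s * c = s * d ∧ s * c * e = e * s * c ∧ s * d * e = e * s * d :=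
  ⟨by simpa only [ev_cons, ev_nil, List.cons_append, List.nil_append, List.getD_cons_succ, List.getD_cons_zero, mul_one, pow_succ, pow_zero, one_mul, mul_one, mul_assoc, mul_inv_rev, inv_inv] using M.eq' (k := 10) rfl [2, 4, 2, 4] [9] (by decide +kernel),
   by simpa only [ev_cons, ev_nil, List.cons_append, List.nil_append, List.getD_cons_succ, List.getD_cons_zero, mul_one, pow_succ, pow_zero, one_mul, mul_one, mul_assoc, mul_inv_rev, inv_inv] using M.eq' (k := 10) rfl [2, 5, 2, 5] [9] (by decide +kernel),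
   by simpa only [ev_cons, ev_nil, List.cons_append, List.nil_append, List.getD_cons_succ, List.getD_cons_zero, mul_one, pow_succ, pow_zero, one_mul, mul_one, mul_assoc, mul_inv_rev, inv_inv] using M.eq' (k := 10) rfl [2, 4, 2, 5, 2, 4] [2, 5] (by decide +kernel),
   by simpa only [ev_cons, ev_nil, List.cons_append, List.nil_append, List.getD_cons_succ, List.getD_cons_zero, mul_one, pow_succ, pow_zero, one_mul, mul_one, mul_assoc, mul_inv_rev, inv_inv] using M.eq' (k := 10) rfl [2, 4, 3] [3, 2, 4] (by decide +kernel),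
   by simpa only [ev_cons, ev_nil, List.cons_append, List.nil_append, List.getD_cons_succ, List.getD_cons_zero, mul_one, pow_succ, pow_zero, one_mul, mul_one, mul_assoc, mul_inv_rev, inv_inv] using M.eq' (k := 10) rfl [2, 5, 3] [3, 2, 5] (by decide +kernel)⟩
theorem ks_ne {a b s e c d f p q z : G} (M : MK [a, b, s, e, c, d, f, p, q, z] ks_k ks_E1 ks_E2) :
    z ≠ 1 ∧ s ≠ 1 ∧ s ≠ z ∧ s * z ≠ 1 ∧ s * z ≠ z ∧ s * z ≠ s ∧ e ≠ z ∧ e * s ≠ s * e ∧ e ≠ 1 :=
  ⟨by simpa only [ev_cons, ev_nil, List.cons_append, List.nil_append, List.getD_cons_succ, List.getD_cons_zero, mul_one, pow_succ, pow_zero, one_mul, mul_one, mul_assoc, mul_inv_rev, inv_inv] using M.ne' (k := 10) rfl [9] [] (by decide +kernel),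
   by simpa only [ev_cons, ev_nil, List.cons_append, List.nil_append, List.getD_cons_succ, List.getD_cons_zero, mul_one, pow_succ, pow_zero, one_mul, mul_one, mul_assoc, mul_inv_rev, inv_inv] using M.ne' (k := 10) rfl [2] [] (by decide +kernel),
   by simpa only [ev_cons, ev_nil, List.cons_append, List.nil_append, List.getD_cons_succ, List.getD_cons_zero, mul_one, pow_succ, pow_zero, one_mul, mul_one, mul_assoc, mul_inv_rev, inv_inv] using M.ne' (k := 10) rfl [2] [9] (by decide +kernel),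
   by simpa only [ev_cons, ev_nil, List.cons_append, List.nil_append, List.getD_cons_succ, List.getD_cons_zero, mul_one, pow_succ, pow_zero, one_mul, mul_one, mul_assoc, mul_inv_rev, inv_inv] using M.ne' (k := 10) rfl [2, 9] [] (by decide +kernel),
   by simpa only [ev_cons, ev_nil, List.cons_append, List.nil_append, List.getD_cons_succ, List.getD_cons_zero, mul_one, pow_succ, pow_zero, one_mul, mul_one, mul_assoc, mul_inv_rev, inv_inv] using M.ne' (k := 10) rfl [2, 9] [9] (by decide +kernel),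
   by simpa only [ev_cons, ev_nil, List.cons_append, List.nil_append, List.getD_cons_succ, List.getD_cons_zero, mul_one, pow_succ, pow_zero, one_mul, mul_one, mul_assoc, mul_inv_rev, inv_inv] using M.ne' (k := 10) rfl [2, 9] [2] (by decide +kernel),
   by simpa only [ev_cons, ev_nil, List.cons_append, List.nil_append, List.getD_cons_succ, List.getD_cons_zero, mul_one, pow_succ, pow_zero, one_mul, mul_one, mul_assoc, mul_inv_rev, inv_inv] using M.ne' (k := 10) rfl [3] [9] (by decide +kernel),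
   by simpa only [ev_cons, ev_nil, List.cons_append, List.nil_append, List.getD_cons_succ, List.getD_cons_zero, mul_one, pow_succ, pow_zero, one_mul, mul_one, mul_assoc, mul_inv_rev, inv_inv] using M.ne' (k := 10) rfl [3, 2] [2, 3] (by decide +kernel),
   by simpa only [ev_cons, ev_nil, List.cons_append, List.nil_append, List.getD_cons_succ, List.getD_cons_zero, mul_one, pow_succ, pow_zero, one_mul, mul_one, mul_assoc, mul_inv_rev, inv_inv] using M.ne' (k := 10) rfl [3] [] (by decide +kernel)⟩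
theorem ks_nq {a b s e c d f p q z : G} (M : MK [a, b, s, e, c, d, f, p, q, z] ks_k ks_E1 ks_E2) :
    a * e ≠ e * a ∧ a * e ≠ e * a * z ∧ b * e ≠ e * b ∧ b * e ≠ e * b * z ∧ a * b * e ≠ e * a * b ∧ a * b * e ≠ e * a * b * z :=
  ⟨by simpa only [ev_cons, ev_nil, List.cons_append, List.nil_append, List.getD_cons_succ, List.getD_cons_zero, mul_one, pow_succ, pow_zero, one_mul, mul_one, mul_assoc, mul_inv_rev, inv_inv] using M.ne' (k := 10) rfl [0, 3] [3, 0] (by decide +kernel),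
   by simpa only [ev_cons, ev_nil, List.cons_append, List.nil_append, List.getD_cons_succ, List.getD_cons_zero, mul_one, pow_succ, pow_zero, one_mul, mul_one, mul_assoc, mul_inv_rev, inv_inv] using M.ne' (k := 10) rfl [0, 3] [3, 0, 9] (by decide +kernel),
   by simpa only [ev_cons, ev_nil, List.cons_append, List.nil_append, List.getD_cons_succ, List.getD_cons_zero, mul_one, pow_succ, pow_zero, one_mul, mul_one, mul_assoc, mul_inv_rev, inv_inv] using M.ne' (k := 10) rfl [1, 3] [3, 1] (by decide +kernel),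
   by simpa only [ev_cons, ev_nil, List.cons_append, List.nil_append, List.getD_cons_succ, List.getD_cons_zero, mul_one, pow_succ, pow_zero, one_mul, mul_one, mul_assoc, mul_inv_rev, inv_inv] using M.ne' (k := 10) rfl [1, 3] [3, 1, 9] (by decide +kernel),
   by simpa only [ev_cons, ev_nil, List.cons_append, List.nil_append, List.getD_cons_succ, List.getD_cons_zero, mul_one, pow_succ, pow_zero, one_mul, mul_one, mul_assoc, mul_inv_rev, inv_inv] using M.ne' (k := 10) rfl [0, 1, 3] [3, 0, 1] (by decide +kernel),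
   by simpa only [ev_cons, ev_nil, List.cons_append, List.nil_append, List.getD_cons_succ, List.getD_cons_zero, mul_one, pow_succ, pow_zero, one_mul, mul_one, mul_assoc, mul_inv_rev, inv_inv] using M.ne' (k := 10) rfl [0, 1, 3] [3, 0, 1, 9] (by decide +kernel)⟩
theorem ks_nu {a b s e c d f p q z : G} (M : MK [a, b, s, e, c, d, f, p, q, z] ks_k ks_E1 ks_E2) :
    c ≠ d ∧ c ≠ d * z ∧ c ≠ f ∧ c ≠ f * z ∧ c ≠ e ∧ c ≠ e * z ∧ c ≠ s ∧ c ≠ s * z ∧ d ≠ f ∧ d ≠ f * z ∧ d ≠ e ∧ d ≠ e * z ∧ d ≠ s ∧ d ≠ s * z ∧ f ≠ e ∧ f ≠ e * z ∧ f ≠ s ∧ f ≠ s * z ∧ e ≠ s ∧ e ≠ s * z :=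
  ⟨by simpa only [ev_cons, ev_nil, List.cons_append, List.nil_append, List.getD_cons_succ, List.getD_cons_zero, mul_one, pow_succ, pow_zero, one_mul, mul_one, mul_assoc, mul_inv_rev, inv_inv] using M.ne' (k := 10) rfl [4] [5] (by decide +kernel),
   by simpa only [ev_cons, ev_nil, List.cons_append, List.nil_append, List.getD_cons_succ, List.getD_cons_zero, mul_one, pow_succ, pow_zero, one_mul, mul_one, mul_assoc, mul_inv_rev, inv_inv] using M.ne' (k := 10) rfl [4] [5, 9] (by decide +kernel),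
   by simpa only [ev_cons, ev_nil, List.cons_append, List.nil_append, List.getD_cons_succ, List.getD_cons_zero, mul_one, pow_succ, pow_zero, one_mul, mul_one, mul_assoc, mul_inv_rev, inv_inv] using M.ne' (k := 10) rfl [4] [6] (by decide +kernel),
   by simpa only [ev_cons, ev_nil, List.cons_append, List.nil_append, List.getD_cons_succ, List.getD_cons_zero, mul_one, pow_succ, pow_zero, one_mul, mul_one, mul_assoc, mul_inv_rev, inv_inv] using M.ne' (k := 10) rfl [4] [6, 9] (by decide +kernel),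
   by simpa only [ev_cons, ev_nil, List.cons_append, List.nil_append, List.getD_cons_succ, List.getD_cons_zero, mul_one, pow_succ, pow_zero, one_mul, mul_one, mul_assoc, mul_inv_rev, inv_inv] using M.ne' (k := 10) rfl [4] [3] (by decide +kernel),
   by simpa only [ev_cons, ev_nil, List.cons_append, List.nil_append, List.getD_cons_succ, List.getD_cons_zero, mul_one, pow_succ, pow_zero, one_mul, mul_one, mul_assoc, mul_inv_rev, inv_inv] using M.ne' (k := 10) rfl [4] [3, 9] (by decide +kernel),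
   by simpa only [ev_cons, ev_nil, List.cons_append, List.nil_append, List.getD_cons_succ, List.getD_cons_zero, mul_one, pow_succ, pow_zero, one_mul, mul_one, mul_assoc, mul_inv_rev, inv_inv] using M.ne' (k := 10) rfl [4] [2] (by decide +kernel),
   by simpa only [ev_cons, ev_nil, List.cons_append, List.nil_append, List.getD_cons_succ, List.getD_cons_zero, mul_one, pow_succ, pow_zero, one_mul, mul_one, mul_assoc, mul_inv_rev, inv_inv] using M.ne' (k := 10) rfl [4] [2, 9] (by decide +kernel),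
   by simpa only [ev_cons, ev_nil, List.cons_append, List.nil_append, List.getD_cons_succ, List.getD_cons_zero, mul_one, pow_succ, pow_zero, one_mul, mul_one, mul_assoc, mul_inv_rev, inv_inv] using M.ne' (k := 10) rfl [5] [6] (by decide +kernel),
   by simpa only [ev_cons, ev_nil, List.cons_append, List.nil_append, List.getD_cons_succ, List.getD_cons_zero, mul_one, pow_succ, pow_zero, one_mul, mul_one, mul_assoc, mul_inv_rev, inv_inv] using M.ne' (k := 10) rfl [5] [6, 9] (by decide +kernel),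
   by simpa only [ev_cons, ev_nil, List.cons_append, List.nil_append, List.getD_cons_succ, List.getD_cons_zero, mul_one, pow_succ, pow_zero, one_mul, mul_one, mul_assoc, mul_inv_rev, inv_inv] using M.ne' (k := 10) rfl [5] [3] (by decide +kernel),
   by simpa only [ev_cons, ev_nil, List.cons_append, List.nil_append, List.getD_cons_succ, List.getD_cons_zero, mul_one, pow_succ, pow_zero, one_mul, mul_one, mul_assoc, mul_inv_rev, inv_inv] using M.ne' (k := 10) rfl [5] [3, 9] (by decide +kernel),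
   by simpa only [ev_cons, ev_nil, List.cons_append, List.nil_append, List.getD_cons_succ, List.getD_cons_zero, mul_one, pow_succ, pow_zero, one_mul, mul_one, mul_assoc, mul_inv_rev, inv_inv] using M.ne' (k := 10) rfl [5] [2] (by decide +kernel),
   by simpa only [ev_cons, ev_nil, List.cons_append, List.nil_append, List.getD_cons_succ, List.getD_cons_zero, mul_one, pow_succ, pow_zero, one_mul, mul_one, mul_assoc, mul_inv_rev, inv_inv] using M.ne' (k := 10) rfl [5] [2, 9] (by decide +kernel),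
   by simpa only [ev_cons, ev_nil, List.cons_append, List.nil_append, List.getD_cons_succ, List.getD_cons_zero, mul_one, pow_succ, pow_zero, one_mul, mul_one, mul_assoc, mul_inv_rev, inv_inv] using M.ne' (k := 10) rfl [6] [3] (by decide +kernel),
   by simpa only [ev_cons, ev_nil, List.cons_append, List.nil_append, List.getD_cons_succ, List.getD_cons_zero, mul_one, pow_succ, pow_zero, one_mul, mul_one, mul_assoc, mul_inv_rev, inv_inv] using M.ne' (k := 10) rfl [6] [3, 9] (by decide +kernel),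
   by simpa only [ev_cons, ev_nil, List.cons_append, List.nil_append, List.getD_cons_succ, List.getD_cons_zero, mul_one, pow_succ, pow_zero, one_mul, mul_one, mul_assoc, mul_inv_rev, inv_inv] using M.ne' (k := 10) rfl [6] [2] (by decide +kernel),
   by simpa only [ev_cons, ev_nil, List.cons_append, List.nil_append, List.getD_cons_succ, List.getD_cons_zero, mul_one, pow_succ, pow_zero, one_mul, mul_one, mul_assoc, mul_inv_rev, inv_inv] using M.ne' (k := 10) rfl [6] [2, 9] (by decide +kernel),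
   by simpa only [ev_cons, ev_nil, List.cons_append, List.nil_append, List.getD_cons_succ, List.getD_cons_zero, mul_one, pow_succ, pow_zero, one_mul, mul_one, mul_assoc, mul_inv_rev, inv_inv] using M.ne' (k := 10) rfl [3] [2] (by decide +kernel),
   by simpa only [ev_cons, ev_nil, List.cons_append, List.nil_append, List.getD_cons_succ, List.getD_cons_zero, mul_one, pow_succ, pow_zero, one_mul, mul_one, mul_assoc, mul_inv_rev, inv_inv] using M.ne' (k := 10) rfl [3] [2, 9] (by decide +kernel)⟩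
theorem ks_z {a b s e c d f p q z : G} (M : MK [a, b, s, e, c, d, f, p, q, z] ks_k ks_E1 ks_E2) {x : G} (hx : x ∈ cl [a, b, s, e, c, d, f, p, q, z]) :
    x * z = z * x := by
  have := M.imp (k := 10) rfl [] [[([10, 9], [9, 10])]] (by decide +kernel) hx (fun _ h => absurd h List.not_mem_nil)
  simpa only [List.mem_cons, List.not_mem_nil, or_false, false_and, exists_false, exists_eq_or_imp, exists_eq_left, Sat, forall_eq_or_imp, forall_eq, ev_cons, ev_nil, List.cons_append, List.nil_append, List.getD_cons_succ, List.getD_cons_zero, mul_one, pow_succ, pow_zero, one_mul, mul_one, mul_assoc, mul_inv_rev, inv_inv] using this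
theorem ks_8 {a b s e c d f p q z : G} (M : MK [a, b, s, e, c, d, f, p, q, z] ks_k ks_E1 ks_E2) {x : G} (hx : x ∈ cl [a, b, s, e, c, d, f, p, q, z]) :
    x ^ 8 = 1 := by
  have := M.imp (k := 10) rfl [] [[([10, 10, 10, 10, 10, 10, 10, 10], [])]] (by decide +kernel) hx (fun _ h => absurd h List.not_mem_nil)
  simpa only [List.mem_cons, List.not_mem_nil, or_false, false_and, exists_false, exists_eq_or_imp, exists_eq_left, Sat, forall_eq_or_imp, forall_eq, ev_cons, ev_nil, List.cons_append, List.nil_append, List.getD_cons_succ, List.getD_cons_zero, mul_one, pow_succ, pow_zero, one_mul, mul_one, mul_assoc, mul_inv_rev, inv_inv] using this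
theorem ks_sv {a b s e c d f p q z : G} (M : MK [a, b, s, e, c, d, f, p, q, z] ks_k ks_E1 ks_E2) {x : G} (hx : x ∈ cl [a, b, s, e, c, d, f, p, q, z]) :
    x * s = s * x ∨ x * s = s * z * x := by
  have := M.imp (k := 10) rfl [] [[([10, 2], [2, 10])], [([10, 2], [2, 9, 10])]] (by decide +kernel) hx (fun _ h => absurd h List.not_mem_nil)
  simpa only [List.mem_cons, List.not_mem_nil, or_false, false_and, exists_false, exists_eq_or_imp, exists_eq_left, Sat, forall_eq_or_imp, forall_eq, ev_cons, ev_nil, List.cons_append, List.nil_append, List.getD_cons_succ, List.getD_cons_zero, mul_one, pow_succ, pow_zero, one_mul, mul_one, mul_assoc, mul_inv_rev, inv_inv] using this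
theorem ks_cen {a b s e c d f p q z : G} (M : MK [a, b, s, e, c, d, f, p, q, z] ks_k ks_E1 ks_E2) {x : G} (hx : x ∈ cl [a, b, s, e, c, d, f, p, q, z]) (h0 : x * a = a * x) (h1 : x * b = b * x) (h2 : x * e = e * x) :
    x = 1 ∨ x = z := by
  have := M.sol (k := 10) rfl [([10, 0], [0, 10]), ([10, 1], [1, 10]), ([10, 3], [3, 10])] [[], [9]] (by decide +kernel) hx (by
    simp only [Sat, List.forall_mem_cons, List.not_mem_nil, IsEmpty.forall_iff, implies_true, and_true, ev_cons, ev_nil, List.cons_append, List.nil_append, List.getD_cons_succ, List.getD_cons_zero, mul_one]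
    exact ⟨by simpa only [pow_succ, pow_zero, one_mul, mul_one, mul_assoc, mul_inv_rev, inv_inv] using h0, by simpa only [pow_succ, pow_zero, one_mul, mul_one, mul_assoc, mul_inv_rev, inv_inv] using h1, by simpa only [pow_succ, pow_zero, one_mul, mul_one, mul_assoc, mul_inv_rev, inv_inv] using h2⟩)
  simpa only [List.mem_cons, List.not_mem_nil, or_false, false_and, exists_false, exists_eq_or_imp, exists_eq_left, ev_cons, ev_nil, List.cons_append, List.nil_append, List.getD_cons_succ, List.getD_cons_zero, mul_one, pow_succ, pow_zero, one_mul, mul_one, mul_assoc, mul_inv_rev, inv_inv] using this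
theorem ks_cq {a b s e c d f p q z : G} (M : MK [a, b, s, e, c, d, f, p, q, z] ks_k ks_E1 ks_E2) {x : G} (hx : x ∈ cl [a, b, s, e, c, d, f, p, q, z]) (h0 : x * s = s * x) (h1 : x * e = e * x) (h2 : x * c = c * x) (h3 : x * d = d * x) :
    x = 1 ∨ x = z := by
  have := M.sol (k := 10) rfl [([10, 2], [2, 10]), ([10, 3], [3, 10]), ([10, 4], [4, 10]), ([10, 5], [5, 10])] [[], [9]] (by decide +kernel) hx (by
    simp only [Sat, List.forall_mem_cons, List.not_mem_nil, IsEmpty.forall_iff, implies_true, and_true, ev_cons, ev_nil, List.cons_append, List.nil_append, List.getD_cons_succ, List.getD_cons_zero, mul_one]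
    exact ⟨by simpa only [pow_succ, pow_zero, one_mul, mul_one, mul_assoc, mul_inv_rev, inv_inv] using h0, by simpa only [pow_succ, pow_zero, one_mul, mul_one, mul_assoc, mul_inv_rev, inv_inv] using h1, by simpa only [pow_succ, pow_zero, one_mul, mul_one, mul_assoc, mul_inv_rev, inv_inv] using h2, by simpa only [pow_succ, pow_zero, one_mul, mul_one, mul_assoc, mul_inv_rev, inv_inv] using h3⟩)
  simpa only [List.mem_cons, List.not_mem_nil, or_false, false_and, exists_false, exists_eq_or_imp, exists_eq_left, ev_cons, ev_nil, List.cons_append, List.nil_append, List.getD_cons_succ, List.getD_cons_zero, mul_one, pow_succ, pow_zero, one_mul, mul_one, mul_assoc, mul_inv_rev, inv_inv] using this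
theorem ks_zt {a b s e c d f p q z : G} (M : MK [a, b, s, e, c, d, f, p, q, z] ks_k ks_E1 ks_E2) {x : G} (hx : x ∈ cl [a, b, s, e, c, d, f, p, q, z]) (h0 : x * a = a * x) (h1 : x * b = b * x) (h2 : x * p = p * x) (h3 : x * q = q * x) :
    x = 1 ∨ x = z ∨ x = s ∨ x = s * z := by
  have := M.sol (k := 10) rfl [([10, 0], [0, 10]), ([10, 1], [1, 10]), ([10, 7], [7, 10]), ([10, 8], [8, 10])] [[], [9], [2], [2, 9]] (by decide +kernel) hx (by
    simp only [Sat, List.forall_mem_cons, List.not_mem_nil, IsEmpty.forall_iff, implies_true, and_true, ev_cons, ev_nil, List.cons_append, List.nil_append, List.getD_cons_succ, List.getD_cons_zero, mul_one]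
    exact ⟨by simpa only [pow_succ, pow_zero, one_mul, mul_one, mul_assoc, mul_inv_rev, inv_inv] using h0, by simpa only [pow_succ, pow_zero, one_mul, mul_one, mul_assoc, mul_inv_rev, inv_inv] using h1, by simpa only [pow_succ, pow_zero, one_mul, mul_one, mul_assoc, mul_inv_rev, inv_inv] using h2, by simpa only [pow_succ, pow_zero, one_mul, mul_one, mul_assoc, mul_inv_rev, inv_inv] using h3⟩)
  simpa only [List.mem_cons, List.not_mem_nil, or_false, false_and, exists_false, exists_eq_or_imp, exists_eq_left, ev_cons, ev_nil, List.cons_append, List.nil_append, List.getD_cons_succ, List.getD_cons_zero, mul_one, pow_succ, pow_zero, one_mul, mul_one, mul_assoc, mul_inv_rev, inv_inv] using this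
theorem ks_inv {a b s e c d f p q z : G} (M : MK [a, b, s, e, c, d, f, p, q, z] ks_k ks_E1 ks_E2) {x : G} (hx : x ∈ cl [a, b, s, e, c, d, f, p, q, z]) (h0 : x * x = 1) :
    ∃ n ∈ cl [a, b, s, e, c, d, f, p, q, z], (x = 1 ∨ x = n * z * n⁻¹ ∨ x = n * s * n⁻¹ ∨ x = n * e * n⁻¹ ∨ x = n * a * n⁻¹ ∨ x = n * b * n⁻¹ ∨ x = n * (a * b) * n⁻¹) := by
  obtain ⟨c₀, hc, hD, hr⟩ := M.cj (k := 10) rfl [([10, 10], [])] [] [[], [9], [2], [3], [0], [1], [0, 1]] [([], [], 0), ([], [], 4), ([], [], 5), ([], [], 2), ([], [], 3), ([0], [0], 3), ([1], [1], 3), ([1, 0], [0, 1], 3), ([3], [3], 4), ([3], [3], 5), ([], [], 1), ([], [], 6), ([6, 3], [3, 6], 4), ([7], [7], 4), ([7], [7], 5), ([8], [8], 5), ([5], [5], 4), ([6], [6], 5), ([3], [3], 2), ([2], [2], 3), ([7], [7], 3), ([8], [8], 3), ([1, 7], [7, 1], 3), ([3], [3], 6), ([4], [4], 4), ([5], [5], 5), ([8], [8], 6), ([6, 3], [3, 6], 6), ([8], [8], 4), ([6], [6], 4), ([4], [4],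 5), ([6, 3], [3, 6], 5), ([4], [4], 6), ([6], [6], 6), ([7], [7], 6), ([5], [5], 6)] (by decide +kernel) hx (by
    simp only [Sat, List.forall_mem_cons, List.not_mem_nil, IsEmpty.forall_iff, implies_true, and_true, ev_cons, ev_nil, List.cons_append, List.nil_append, List.getD_cons_succ, List.getD_cons_zero, mul_one]
    exact by simpa only [pow_succ, pow_zero, one_mul, mul_one, mul_assoc, mul_inv_rev, inv_inv] using h0)
  exact ⟨c₀, hc, by simpa only [List.mem_cons, List.not_mem_nil, or_false, exists_eq_or_imp, exists_eq_left, mul_inv_cancel, ev_cons, ev_nil, List.cons_append, List.nil_append, List.getD_cons_succ, List.getD_cons_zero, mul_one, pow_succ, pow_zero, one_mul, mul_one, mul_assoc, mul_inv_rev, inv_inv] using hr⟩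
theorem ks_ca {a b s e c d f p q z : G} (M : MK [a, b, s, e, c, d, f, p, q, z] ks_k ks_E1 ks_E2) {x : G} (hx : x ∈ cl [a, b, s, e, c, d, f, p, q, z]) (h0 : x * a = a * x) {K : Subgroup G} (k0 : a ∈ K) (k1 : b ∈ K) (k2 : s ∈ K) (k3 : z ∈ K) : x ∈ K :=
  M.solS (k := 10) rfl [([10, 0], [0, 10])] [[], [0], [1], [2], [9], [1, 0], [2, 0], [9, 0], [2, 1], [9, 1], [9, 2], [2, 1, 0], [9, 1, 0], [9, 2, 0], [9, 2, 1], [9, 2, 1, 0]] [0, 1, 2, 9] (by decide +kernel) (by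
    simp only [List.forall_mem_cons, List.not_mem_nil, IsEmpty.forall_iff, implies_true, and_true, List.getD_cons_succ, List.getD_cons_zero]
    exact ⟨k0, k1, k2, k3⟩) hx (by
    simp only [Sat, List.forall_mem_cons, List.not_mem_nil, IsEmpty.forall_iff, implies_true, and_true, ev_cons, ev_nil, List.cons_append, List.nil_append, List.getD_cons_succ, List.getD_cons_zero, mul_one]
    exact by simpa only [pow_succ, pow_zero, one_mul, mul_one, mul_assoc, mul_inv_rev, inv_inv] using h0)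
theorem ks_cb {a b s e c d f p q z : G} (M : MK [a, b, s, e, c, d, f, p, q, z] ks_k ks_E1 ks_E2) {x : G} (hx : x ∈ cl [a, b, s, e, c, d, f, p, q, z]) (h0 : x * b = b * x) {K : Subgroup G} (k0 : a ∈ K) (k1 : b ∈ K) (k2 : s ∈ K) (k3 : z ∈ K) : x ∈ K :=
  M.solS (k := 10) rfl [([10, 1], [1, 10])] [[], [0], [1], [2], [9], [1, 0], [2, 0], [9, 0], [2, 1], [9, 1], [9, 2], [2, 1, 0], [9, 1, 0], [9, 2, 0], [9, 2, 1], [9, 2, 1, 0]] [0, 1, 2, 9] (by decide +kernel) (by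
    simp only [List.forall_mem_cons, List.not_mem_nil, IsEmpty.forall_iff, implies_true, and_true, List.getD_cons_succ, List.getD_cons_zero]
    exact ⟨k0, k1, k2, k3⟩) hx (by
    simp only [Sat, List.forall_mem_cons, List.not_mem_nil, IsEmpty.forall_iff, implies_true, and_true, ev_cons, ev_nil, List.cons_append, List.nil_append, List.getD_cons_succ, List.getD_cons_zero, mul_one]
    exact by simpa only [pow_succ, pow_zero, one_mul, mul_one, mul_assoc, mul_inv_rev, inv_inv] using h0)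
theorem ks_cab {a b s e c d f p q z : G} (M : MK [a, b, s, e, c, d, f, p, q, z] ks_k ks_E1 ks_E2) {x : G} (hx : x ∈ cl [a, b, s, e, c, d, f, p, q, z]) (h0 : x * a * b = a * b * x) {K : Subgroup G} (k0 : a ∈ K) (k1 : b ∈ K) (k2 : s ∈ K) (k3 : z ∈ K) : x ∈ K :=
  M.solS (k := 10) rfl [([10, 0, 1], [0, 1, 10])] [[], [0], [1], [2], [9], [1, 0], [2, 0], [9, 0], [2, 1], [9, 1], [9, 2], [2, 1, 0], [9, 1, 0], [9, 2, 0], [9, 2, 1], [9, 2, 1, 0]] [0, 1, 2, 9] (by decide +kernel) (by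
    simp only [List.forall_mem_cons, List.not_mem_nil, IsEmpty.forall_iff, implies_true, and_true, List.getD_cons_succ, List.getD_cons_zero]
    exact ⟨k0, k1, k2, k3⟩) hx (by
    simp only [Sat, List.forall_mem_cons, List.not_mem_nil, IsEmpty.forall_iff, implies_true, and_true, ev_cons, ev_nil, List.cons_append, List.nil_append, List.getD_cons_succ, List.getD_cons_zero, mul_one]
    exact by simpa only [pow_succ, pow_zero, one_mul, mul_one, mul_assoc, mul_inv_rev, inv_inv] using h0)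
theorem ks_q1 {a b s e c d f p q z : G} (M : MK [a, b, s, e, c, d, f, p, q, z] ks_k ks_E1 ks_E2) {x : G} (hx : x ∈ cl [a, b, s, e, c, d, f, p, q, z]) (h0 : x * e = e * x) {K : Subgroup G} (k0 : s ∈ K) (k1 : e ∈ K) (k2 : c ∈ K) (k3 : d ∈ K) (k4 : f ∈ K) (k5 : z ∈ K) : x ∈ K :=
  M.solS (k := 10) rfl [([10, 3], [3, 10])] [[], [3], [9], [4, 2], [5, 2], [6, 2], [9, 3], [2, 4], [5, 4], [6, 4], [2, 5], [4, 5], [6, 5], [2, 6], [4, 6], [5, 6]] [2, 3, 4, 5, 6, 9] (by decide +kernel) (by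
    simp only [List.forall_mem_cons, List.not_mem_nil, IsEmpty.forall_iff, implies_true, and_true, List.getD_cons_succ, List.getD_cons_zero]
    exact ⟨k0, k1, k2, k3, k4, k5⟩) hx (by
    simp only [Sat, List.forall_mem_cons, List.not_mem_nil, IsEmpty.forall_iff, implies_true, and_true, ev_cons, ev_nil, List.cons_append, List.nil_append, List.getD_cons_succ, List.getD_cons_zero, mul_one]
    exact by simpa only [pow_succ, pow_zero, one_mul, mul_one, mul_assoc, mul_inv_rev, inv_inv] using h0)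
theorem ks_q2 {a b s e c d f p q z : G} (M : MK [a, b, s, e, c, d, f, p, q, z] ks_k ks_E1 ks_E2) {x : G} (hx : x ∈ cl [a, b, s, e, c, d, f, p, q, z]) (h0 : x * e = e * x * z) {K : Subgroup G} (k0 : s ∈ K) (k1 : e ∈ K) (k2 : c ∈ K) (k3 : d ∈ K) (k4 : f ∈ K) (k5 : z ∈ K) : x ∈ K :=
  M.solS (k := 10) rfl [([10, 3], [3, 10, 9])] [[2], [4], [5], [6], [3, 4], [3, 5], [3, 2], [9, 2], [2, 3], [4, 3], [5, 3], [6, 3], [9, 4], [9, 5], [3, 6], [9, 6]] [2, 3, 4, 5, 6, 9] (by decide +kernel) (by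
    simp only [List.forall_mem_cons, List.not_mem_nil, IsEmpty.forall_iff, implies_true, and_true, List.getD_cons_succ, List.getD_cons_zero]
    exact ⟨k0, k1, k2, k3, k4, k5⟩) hx (by
    simp only [Sat, List.forall_mem_cons, List.not_mem_nil, IsEmpty.forall_iff, implies_true, and_true, ev_cons, ev_nil, List.cons_append, List.nil_append, List.getD_cons_succ, List.getD_cons_zero, mul_one]
    exact by simpa only [pow_succ, pow_zero, one_mul, mul_one, mul_assoc, mul_inv_rev, inv_inv] using h0)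
theorem ks_q3 {a b s e c d f p q z : G} (M : MK [a, b, s, e, c, d, f, p, q, z] ks_k ks_E1 ks_E2) {x : G} (hx : x ∈ cl [a, b, s, e, c, d, f, p, q, z]) (h0 : x * x = z) {K : Subgroup G} (k0 : s ∈ K) (k1 : e ∈ K) (k2 : c ∈ K) (k3 : d ∈ K) (k4 : f ∈ K) (k5 : z ∈ K) : x ∈ K :=
  M.solS (k := 10) rfl [([10, 10], [9])] [[3, 4], [3, 5], [3, 2], [4, 2], [5, 2], [6, 2], [2, 3], [4, 3], [5, 3], [6, 3], [2, 4], [5, 4], [6, 4], [2, 5], [4, 5], [6, 5], [2, 6], [3, 6], [4, 6], [5, 6]] [2, 3, 4, 5, 6, 9] (by decide +kernel) (by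
    simp only [List.forall_mem_cons, List.not_mem_nil, IsEmpty.forall_iff, implies_true, and_true, List.getD_cons_succ, List.getD_cons_zero]
    exact ⟨k0, k1, k2, k3, k4, k5⟩) hx (by
    simp only [Sat, List.forall_mem_cons, List.not_mem_nil, IsEmpty.forall_iff, implies_true, and_true, ev_cons, ev_nil, List.cons_append, List.nil_append, List.getD_cons_succ, List.getD_cons_zero, mul_one]
    exact by simpa only [pow_succ, pow_zero, one_mul, mul_one, mul_assoc, mul_inv_rev, inv_inv] using h0)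
theorem ks_gt {a b s e c d f p q z : G} (M : MK [a, b, s, e, c, d, f, p, q, z] ks_k ks_E1 ks_E2) {x : G} (hx : x ∈ cl [a, b, s, e, c, d, f, p, q, z]) (h0 : x * s = s * x) {K : Subgroup G} (k0 : a ∈ K) (k1 : b ∈ K) (k2 : p ∈ K) (k3 : q ∈ K) : x ∈ K :=
  M.solS (k := 10) rfl [([10, 2], [2, 10])] [[], [0], [1], [7, 1, 7, 1], [7], [8], [7, 0, 7, 0], [1, 0], [7, 1, 7, 1, 0], [7, 0], [8, 0], [7, 0, 7], [7, 1, 7], [7, 1], [8, 1], [8, 1, 8], [1, 7, 1], [1, 0, 8, 1, 0], [8, 0, 8, 0], [0, 7], [1, 8], [7, 1, 8, 0], [1, 8, 7, 0], [1, 0, 8, 0], [8, 1, 7, 0], [1, 0, 7, 1], [8, 7, 1, 0], [0, 8, 1, 0], [1, 7, 1, 0], [1, 7], [8, 7], [0, 7, 0], [0, 8], [1, 8, 1], [7, 1, 7, 0], [7, 1, 0], [8, 1, 0], [8, 1, 8, 0], [1, 0, 8, 1], [8, 0, 8], [1, 8, 0], [7, 1, 8], [1, 8, 7], [1, 0, 8], [8, 1, 7], [1, 0, 7, 1, 0], [8, 7, 1], [0, 8, 1], [1, 7, 0], [8, 7, 0], [0, 8, 0], [1, 8, 1, 0], [8, 0, 8, 1, 0], [0, 7, 1], [8, 0, 7], [7, 0, 8], [0,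 8, 7], [1, 0, 7], [0, 7, 1, 0], [0, 8, 7, 0], [1, 0, 7, 0], [8, 0, 7, 0], [8, 0, 8, 1], [7, 0, 8, 0]] [0, 1, 7, 8] (by decide +kernel) (by
    simp only [List.forall_mem_cons, List.not_mem_nil, IsEmpty.forall_iff, implies_true, and_true, List.getD_cons_succ, List.getD_cons_zero]
    exact ⟨k0, k1, k2, k3⟩) hx (by
    simp only [Sat, List.forall_mem_cons, List.not_mem_nil, IsEmpty.forall_iff, implies_true, and_true, ev_cons, ev_nil, List.cons_append, List.nil_append, List.getD_cons_succ, List.getD_cons_zero, mul_one]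
    exact by simpa only [pow_succ, pow_zero, one_mul, mul_one, mul_assoc, mul_inv_rev, inv_inv] using h0)
theorem ks_ce {a b s e c d f p q z : G} (M : MK [a, b, s, e, c, d, f, p, q, z] ks_k ks_E1 ks_E2) {K : Subgroup G} (hK : ∀ x ∈ K, x ∈ cl [a, b, s, e, c, d, f, p, q, z] ∧ x * e = e * x ∧ x * x = 1) : Nat.card K ≤ 4 :=
  M.card_le (k := 10) rfl [([10, 3], [3, 10]), ([10, 10], [])] [[], [3], [9], [9, 3]] (by decide +kernel) fun x hx => by
    obtain ⟨hx, h0, h1⟩ := hK x hx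
    exact ⟨hx, (by
      simp only [Sat, List.forall_mem_cons, List.not_mem_nil, IsEmpty.forall_iff, implies_true, and_true, ev_cons, ev_nil, List.cons_append, List.nil_append, List.getD_cons_succ, List.getD_cons_zero, mul_one]
      exact ⟨by simpa only [pow_succ, pow_zero, one_mul, mul_one, mul_assoc, mul_inv_rev, inv_inv] using h0, by simpa only [pow_succ, pow_zero, one_mul, mul_one, mul_assoc, mul_inv_rev, inv_inv] using h1⟩)⟩
theorem ks_cos {a b s e c d f p q z : G} (M : MK [a, b, s, e, c, d, f, p, q, z] ks_k ks_E1 ks_E2) {x : G} (hx : x ∈ cl [a, b, s, e, c, d, f, p, q, z]) :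
    x * e = e * x ∨ x * e = e * x * z ∨ x * a * e = e * x * a ∨ x * a * e = e * x * a * z ∨ x * b * e = e * x * b ∨ x * b * e = e * x * b * z ∨ x * a * b * e = e * x * a * b ∨ x * a * b * e = e * x * a * b * z := by
  have := M.imp (k := 10) rfl [] [[([10, 3], [3, 10])], [([10, 3], [3, 10, 9])], [([10, 0, 3], [3, 10, 0])], [([10, 0, 3], [3, 10, 0, 9])], [([10, 1, 3], [3, 10, 1])], [([10, 1, 3], [3, 10, 1, 9])], [([10, 0, 1, 3], [3, 10, 0, 1])], [([10, 0, 1, 3], [3, 10, 0, 1, 9])]] (by decide +kernel) hx (fun _ h => absurd h List.not_mem_nil)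
  simpa only [List.mem_cons, List.not_mem_nil, or_false, false_and, exists_false, exists_eq_or_imp, exists_eq_left, Sat, forall_eq_or_imp, forall_eq, ev_cons, ev_nil, List.cons_append, List.nil_append, List.getD_cons_succ, List.getD_cons_zero, mul_one, pow_succ, pow_zero, one_mul, mul_one, mul_assoc, mul_inv_rev, inv_inv] using this
theorem ks_4 {a b s e c d f p q z : G} (M : MK [a, b, s, e, c, d, f, p, q, z] ks_k ks_E1 ks_E2) {x : G} (hx : x ∈ cl [a, b, s, e, c, d, f, p, q, z]) (h0 : x ^ 4 = 1) :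
    x * x = 1 ∨ x * x = z ∨ x * x = s ∨ x * x = s * z := by
  have := M.imp (k := 10) rfl [([10, 10, 10, 10], [])] [[([10, 10], [])], [([10, 10], [9])], [([10, 10], [2])], [([10, 10], [2, 9])]] (by decide +kernel) hx (by
    simp only [Sat, List.forall_mem_cons, List.not_mem_nil, IsEmpty.forall_iff, implies_true, and_true, ev_cons, ev_nil, List.cons_append, List.nil_append, List.getD_cons_succ, List.getD_cons_zero, mul_one]
    exact by simpa only [pow_succ, pow_zero, one_mul, mul_one, mul_assoc, mul_inv_rev, inv_inv] using h0)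
  simpa only [List.mem_cons, List.not_mem_nil, or_false, false_and, exists_false, exists_eq_or_imp, exists_eq_left, Sat, forall_eq_or_imp, forall_eq, ev_cons, ev_nil, List.cons_append, List.nil_append, List.getD_cons_succ, List.getD_cons_zero, mul_one, pow_succ, pow_zero, one_mul, mul_one, mul_assoc, mul_inv_rev, inv_inv] using this
theorem ks_ea {a b s e c d f p q z : G} (M : MK [a, b, s, e, c, d, f, p, q, z] ks_k ks_E1 ks_E2) {x : G} (hx : x ∈ cl [a, b, s, e, c, d, f, p, q, z]) (h0 : x * s = s * x) :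
    x * a = a * x ∨ x * a = a * z * x ∨ x * a = a * s * x ∨ x * a = a * s * z * x := by
  have := M.imp (k := 10) rfl [([10, 2], [2, 10])] [[([10, 0], [0, 10])], [([10, 0], [0, 9, 10])], [([10, 0], [0, 2, 10])], [([10, 0], [0, 2, 9, 10])]] (by decide +kernel) hx (by
    simp only [Sat, List.forall_mem_cons, List.not_mem_nil, IsEmpty.forall_iff, implies_true, and_true, ev_cons, ev_nil, List.cons_append, List.nil_append, List.getD_cons_succ, List.getD_cons_zero, mul_one]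
    exact by simpa only [pow_succ, pow_zero, one_mul, mul_one, mul_assoc, mul_inv_rev, inv_inv] using h0)
  simpa only [List.mem_cons, List.not_mem_nil, or_false, false_and, exists_false, exists_eq_or_imp, exists_eq_left, Sat, forall_eq_or_imp, forall_eq, ev_cons, ev_nil, List.cons_append, List.nil_append, List.getD_cons_succ, List.getD_cons_zero, mul_one, pow_succ, pow_zero, one_mul, mul_one, mul_assoc, mul_inv_rev, inv_inv] using this
theorem ks_eb {a b s e c d f p q z : G} (M : MK [a, b, s, e, c, d, f, p, q, z] ks_k ks_E1 ks_E2) {x : G} (hx : x ∈ cl [a, b, s, e, c, d, f, p, q, z]) (h0 : x * s = s * x) :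
    x * b = b * x ∨ x * b = b * z * x ∨ x * b = b * s * x ∨ x * b = b * s * z * x := by
  have := M.imp (k := 10) rfl [([10, 2], [2, 10])] [[([10, 1], [1, 10])], [([10, 1], [1, 9, 10])], [([10, 1], [1, 2, 10])], [([10, 1], [1, 2, 9, 10])]] (by decide +kernel) hx (by
    simp only [Sat, List.forall_mem_cons, List.not_mem_nil, IsEmpty.forall_iff, implies_true, and_true, ev_cons, ev_nil, List.cons_append, List.nil_append, List.getD_cons_succ, List.getD_cons_zero, mul_one]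
    exact by simpa only [pow_succ, pow_zero, one_mul, mul_one, mul_assoc, mul_inv_rev, inv_inv] using h0)
  simpa only [List.mem_cons, List.not_mem_nil, or_false, false_and, exists_false, exists_eq_or_imp, exists_eq_left, Sat, forall_eq_or_imp, forall_eq, ev_cons, ev_nil, List.cons_append, List.nil_append, List.getD_cons_succ, List.getD_cons_zero, mul_one, pow_succ, pow_zero, one_mul, mul_one, mul_assoc, mul_inv_rev, inv_inv] using this
theorem ks_ne1 {a b s e c d f p q z : G} (M : MK [a, b, s, e, c, d, f, p, q, z] ks_k ks_E1 ks_E2) {x : G} (hx : x ∈ cl [a, b, s, e, c, d, f, p, q, z]) (h0 : a * x * a * x ^ 7 = x * a * x ^ 7 * a) :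
    x * s = s * x := by
  have := M.imp (k := 10) rfl [([0, 10, 0, 10, 10, 10, 10, 10, 10, 10], [10, 0, 10, 10, 10, 10, 10, 10, 10, 0])] [[([10, 2], [2, 10])]] (by decide +kernel) hx (by
    simp only [Sat, List.forall_mem_cons, List.not_mem_nil, IsEmpty.forall_iff, implies_true, and_true, ev_cons, ev_nil, List.cons_append, List.nil_append, List.getD_cons_succ, List.getD_cons_zero, mul_one]
    exact by simpa only [pow_succ, pow_zero, one_mul, mul_one, mul_assoc, mul_inv_rev, inv_inv] using h0)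
  simpa only [List.mem_cons, List.not_mem_nil, or_false, false_and, exists_false, exists_eq_or_imp, exists_eq_left, Sat, forall_eq_or_imp, forall_eq, ev_cons, ev_nil, List.cons_append, List.nil_append, List.getD_cons_succ, List.getD_cons_zero, mul_one, pow_succ, pow_zero, one_mul, mul_one, mul_assoc, mul_inv_rev, inv_inv] using this
theorem ks_p1 {a b s e c d f p q z : G} (M : MK [a, b, s, e, c, d, f, p, q, z] ks_k ks_E1 ks_E2) {x : G} (hx : x ∈ cl [a, b, s, e, c, d, f, p, q, z]) (h0 : x * a = a * x) :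
    p * x * p * x = 1 ∨ p * x * p * x = z ∨ p * x * p * x = s ∨ p * x * p * x = s * z := by
  have := M.imp (k := 10) rfl [([10, 0], [0, 10])] [[([7, 10, 7, 10], [])], [([7, 10, 7, 10], [9])], [([7, 10, 7, 10], [2])], [([7, 10, 7, 10], [2, 9])]] (by decide +kernel) hx (by
    simp only [Sat, List.forall_mem_cons, List.not_mem_nil, IsEmpty.forall_iff, implies_true, and_true, ev_cons, ev_nil, List.cons_append, List.nil_append, List.getD_cons_succ, List.getD_cons_zero, mul_one]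
    exact by simpa only [pow_succ, pow_zero, one_mul, mul_one, mul_assoc, mul_inv_rev, inv_inv] using h0)
  simpa only [List.mem_cons, List.not_mem_nil, or_false, false_and, exists_false, exists_eq_or_imp, exists_eq_left, Sat, forall_eq_or_imp, forall_eq, ev_cons, ev_nil, List.cons_append, List.nil_append, List.getD_cons_succ, List.getD_cons_zero, mul_one, pow_succ, pow_zero, one_mul, mul_one, mul_assoc, mul_inv_rev, inv_inv] using this
theorem ks_q1' {a b s e c d f p q z : G} (M : MK [a, b, s, e, c, d, f, p, q, z] ks_k ks_E1 ks_E2) {x : G} (hx : x ∈ cl [a, b, s, e, c, d, f, p, q, z]) (h0 : x * a = a * x) :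
    q * x * q * x = 1 ∨ q * x * q * x = z ∨ q * x * q * x = s ∨ q * x * q * x = s * z := by
  have := M.imp (k := 10) rfl [([10, 0], [0, 10])] [[([8, 10, 8, 10], [])], [([8, 10, 8, 10], [9])], [([8, 10, 8, 10], [2])], [([8, 10, 8, 10], [2, 9])]] (by decide +kernel) hx (by
    simp only [Sat, List.forall_mem_cons, List.not_mem_nil, IsEmpty.forall_iff, implies_true, and_true, ev_cons, ev_nil, List.cons_append, List.nil_append, List.getD_cons_succ, List.getD_cons_zero, mul_one]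
    exact by simpa only [pow_succ, pow_zero, one_mul, mul_one, mul_assoc, mul_inv_rev, inv_inv] using h0)
  simpa only [List.mem_cons, List.not_mem_nil, or_false, false_and, exists_false, exists_eq_or_imp, exists_eq_left, Sat, forall_eq_or_imp, forall_eq, ev_cons, ev_nil, List.cons_append, List.nil_append, List.getD_cons_succ, List.getD_cons_zero, mul_one, pow_succ, pow_zero, one_mul, mul_one, mul_assoc, mul_inv_rev, inv_inv] using this
theorem ks_r1 {a b s e c d f p q z : G} (M : MK [a, b, s, e, c, d, f, p, q, z] ks_k ks_E1 ks_E2) {x : G} (hx : x ∈ cl [a, b, s, e, c, d, f, p, q, z]) (h0 : x * a = a * x) :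
    p * q * x * p * q * x = 1 ∨ p * q * x * p * q * x = z ∨ p * q * x * p * q * x = s ∨ p * q * x * p * q * x = s * z := by
  have := M.imp (k := 10) rfl [([10, 0], [0, 10])] [[([7, 8, 10, 7, 8, 10], [])], [([7, 8, 10, 7, 8, 10], [9])], [([7, 8, 10, 7, 8, 10], [2])], [([7, 8, 10, 7, 8, 10], [2, 9])]] (by decide +kernel) hx (by
    simp only [Sat, List.forall_mem_cons, List.not_mem_nil, IsEmpty.forall_iff, implies_true, and_true, ev_cons, ev_nil, List.cons_append, List.nil_append, List.getD_cons_succ, List.getD_cons_zero, mul_one]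
    exact by simpa only [pow_succ, pow_zero, one_mul, mul_one, mul_assoc, mul_inv_rev, inv_inv] using h0)
  simpa only [List.mem_cons, List.not_mem_nil, or_false, false_and, exists_false, exists_eq_or_imp, exists_eq_left, Sat, forall_eq_or_imp, forall_eq, ev_cons, ev_nil, List.cons_append, List.nil_append, List.getD_cons_succ, List.getD_cons_zero, mul_one, pow_succ, pow_zero, one_mul, mul_one, mul_assoc, mul_inv_rev, inv_inv] using this
theorem ks_p2 {a b s e c d f p q z : G} (M : MK [a, b, s, e, c, d, f, p, q, z] ks_k ks_E1 ks_E2) {x : G} (hx : x ∈ cl [a, b, s, e, c, d, f, p, q, z]) (h0 : x * a = a * x) (h1 : p * x * p * x = 1) :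
    x = 1 ∨ x = z ∨ x = s ∨ x = s * z := by
  have := M.sol (k := 10) rfl [([10, 0], [0, 10]), ([7, 10, 7, 10], [])] [[], [9], [2], [2, 9]] (by decide +kernel) hx (by
    simp only [Sat, List.forall_mem_cons, List.not_mem_nil, IsEmpty.forall_iff, implies_true, and_true, ev_cons, ev_nil, List.cons_append, List.nil_append, List.getD_cons_succ, List.getD_cons_zero, mul_one]
    exact ⟨by simpa only [pow_succ, pow_zero, one_mul, mul_one, mul_assoc, mul_inv_rev, inv_inv] using h0, by simpa only [pow_succ, pow_zero, one_mul, mul_one, mul_assoc, mul_inv_rev, inv_inv] using h1⟩)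
  simpa only [List.mem_cons, List.not_mem_nil, or_false, false_and, exists_false, exists_eq_or_imp, exists_eq_left, ev_cons, ev_nil, List.cons_append, List.nil_append, List.getD_cons_succ, List.getD_cons_zero, mul_one, pow_succ, pow_zero, one_mul, mul_one, mul_assoc, mul_inv_rev, inv_inv] using this
theorem ks_q2' {a b s e c d f p q z : G} (M : MK [a, b, s, e, c, d, f, p, q, z] ks_k ks_E1 ks_E2) {x : G} (hx : x ∈ cl [a, b, s, e, c, d, f, p, q, z]) (h0 : x * a = a * x) (h1 : q * x * q * x = 1) :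
    x = 1 ∨ x = z ∨ x = s ∨ x = s * z := by
  have := M.sol (k := 10) rfl [([10, 0], [0, 10]), ([8, 10, 8, 10], [])] [[], [9], [2], [2, 9]] (by decide +kernel) hx (by
    simp only [Sat, List.forall_mem_cons, List.not_mem_nil, IsEmpty.forall_iff, implies_true, and_true, ev_cons, ev_nil, List.cons_append, List.nil_append, List.getD_cons_succ, List.getD_cons_zero, mul_one]
    exact ⟨by simpa only [pow_succ, pow_zero, one_mul, mul_one, mul_assoc, mul_inv_rev, inv_inv] using h0, by simpa only [pow_succ, pow_zero, one_mul, mul_one, mul_assoc, mul_inv_rev, inv_inv] using h1⟩)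
  simpa only [List.mem_cons, List.not_mem_nil, or_false, false_and, exists_false, exists_eq_or_imp, exists_eq_left, ev_cons, ev_nil, List.cons_append, List.nil_append, List.getD_cons_succ, List.getD_cons_zero, mul_one, pow_succ, pow_zero, one_mul, mul_one, mul_assoc, mul_inv_rev, inv_inv] using this
theorem ks_r2 {a b s e c d f p q z : G} (M : MK [a, b, s, e, c, d, f, p, q, z] ks_k ks_E1 ks_E2) {x : G} (hx : x ∈ cl [a, b, s, e, c, d, f, p, q, z]) (h0 : x * a = a * x) (h1 : p * q * x * p * q * x = 1) :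
    x = 1 ∨ x = z ∨ x = s ∨ x = s * z := by
  have := M.sol (k := 10) rfl [([10, 0], [0, 10]), ([7, 8, 10, 7, 8, 10], [])] [[], [9], [2], [2, 9]] (by decide +kernel) hx (by
    simp only [Sat, List.forall_mem_cons, List.not_mem_nil, IsEmpty.forall_iff, implies_true, and_true, ev_cons, ev_nil, List.cons_append, List.nil_append, List.getD_cons_succ, List.getD_cons_zero, mul_one]
    exact ⟨by simpa only [pow_succ, pow_zero, one_mul, mul_one, mul_assoc, mul_inv_rev, inv_inv] using h0, by simpa only [pow_succ, pow_zero, one_mul, mul_one, mul_assoc, mul_inv_rev, inv_inv] using h1⟩)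
  simpa only [List.mem_cons, List.not_mem_nil, or_false, false_and, exists_false, exists_eq_or_imp, exists_eq_left, ev_cons, ev_nil, List.cons_append, List.nil_append, List.getD_cons_succ, List.getD_cons_zero, mul_one, pow_succ, pow_zero, one_mul, mul_one, mul_assoc, mul_inv_rev, inv_inv] using this
theorem ks_tz {a b s e c d f p q z : G} (M : MK [a, b, s, e, c, d, f, p, q, z] ks_k ks_E1 ks_E2) {x : G} (hx : x ∈ cl [a, b, s, e, c, d, f, p, q, z]) (h0 : x * a = a * x) :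
    x = 1 ∨ x = z ∨ x = s ∨ x = s * z ∨ p * x * p * x = z ∨ q * x * q * x = z ∨ p * q * x * p * q * x = z := by
  have := M.imp (k := 10) rfl [([10, 0], [0, 10])] [[([10], [])], [([10], [9])], [([10], [2])], [([10], [2, 9])], [([7, 10, 7, 10], [9])], [([8, 10, 8, 10], [9])], [([7, 8, 10, 7, 8, 10], [9])]] (by decide +kernel) hx (by
    simp only [Sat, List.forall_mem_cons, List.not_mem_nil, IsEmpty.forall_iff, implies_true, and_true, ev_cons, ev_nil, List.cons_append, List.nil_append, List.getD_cons_succ, List.getD_cons_zero, mul_one]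
    exact by simpa only [pow_succ, pow_zero, one_mul, mul_one, mul_assoc, mul_inv_rev, inv_inv] using h0)
  simpa only [List.mem_cons, List.not_mem_nil, or_false, false_and, exists_false, exists_eq_or_imp, exists_eq_left, Sat, forall_eq_or_imp, forall_eq, ev_cons, ev_nil, List.cons_append, List.nil_append, List.getD_cons_succ, List.getD_cons_zero, mul_one, pow_succ, pow_zero, one_mul, mul_one, mul_assoc, mul_inv_rev, inv_inv] using this
theorem ks_ts {a b s e c d f p q z : G} (M : MK [a, b, s, e, c, d, f, p, q, z] ks_k ks_E1 ks_E2) {x : G} (hx : x ∈ cl [a, b, s, e, c, d, f, p, q, z]) (h0 : x * a = a * x) :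
    x = 1 ∨ x = z ∨ x = s ∨ x = s * z ∨ p * x * p * x = s ∨ q * x * q * x = s ∨ p * q * x * p * q * x = s := by
  have := M.imp (k := 10) rfl [([10, 0], [0, 10])] [[([10], [])], [([10], [9])], [([10], [2])], [([10], [2, 9])], [([7, 10, 7, 10], [2])], [([8, 10, 8, 10], [2])], [([7, 8, 10, 7, 8, 10], [2])]] (by decide +kernel) hx (by
    simp only [Sat, List.forall_mem_cons, List.not_mem_nil, IsEmpty.forall_iff, implies_true, and_true, ev_cons, ev_nil, List.cons_append, List.nil_append, List.getD_cons_succ, List.getD_cons_zero, mul_one]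
    exact by simpa only [pow_succ, pow_zero, one_mul, mul_one, mul_assoc, mul_inv_rev, inv_inv] using h0)
  simpa only [List.mem_cons, List.not_mem_nil, or_false, false_and, exists_false, exists_eq_or_imp, exists_eq_left, Sat, forall_eq_or_imp, forall_eq, ev_cons, ev_nil, List.cons_append, List.nil_append, List.getD_cons_succ, List.getD_cons_zero, mul_one, pow_succ, pow_zero, one_mul, mul_one, mul_assoc, mul_inv_rev, inv_inv] using this
theorem ks_tsz {a b s e c d f p q z : G} (M : MK [a, b, s, e, c, d, f, p, q, z] ks_k ks_E1 ks_E2) {x : G} (hx : x ∈ cl [a, b, s, e, c, d, f, p, q, z]) (h0 : x * a = a * x) :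
    x = 1 ∨ x = z ∨ x = s ∨ x = s * z ∨ p * x * p * x = s * z ∨ q * x * q * x = s * z ∨ p * q * x * p * q * x = s * z := by
  have := M.imp (k := 10) rfl [([10, 0], [0, 10])] [[([10], [])], [([10], [9])], [([10], [2])], [([10], [2, 9])], [([7, 10, 7, 10], [2, 9])], [([8, 10, 8, 10], [2, 9])], [([7, 8, 10, 7, 8, 10], [2, 9])]] (by decide +kernel) hx (by
    simp only [Sat, List.forall_mem_cons, List.not_mem_nil, IsEmpty.forall_iff, implies_true, and_true, ev_cons, ev_nil, List.cons_append, List.nil_append, List.getD_cons_succ, List.getD_cons_zero, mul_one]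
    exact by simpa only [pow_succ, pow_zero, one_mul, mul_one, mul_assoc, mul_inv_rev, inv_inv] using h0)
  simpa only [List.mem_cons, List.not_mem_nil, or_false, false_and, exists_false, exists_eq_or_imp, exists_eq_left, Sat, forall_eq_or_imp, forall_eq, ev_cons, ev_nil, List.cons_append, List.nil_append, List.getD_cons_succ, List.getD_cons_zero, mul_one, pow_succ, pow_zero, one_mul, mul_one, mul_assoc, mul_inv_rev, inv_inv] using this
theorem kh_15 {y a h s e z : G} (M : MK [y, y⁻¹, a, h, s, e, z] jh_k jh_E1 jh_E2) {x : G} (hx : x ∈ cl [y, y⁻¹, a, h, s, e, z]) (h0 : x ^ 15 = 1) :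
    ∃ c ∈ cl [y, y⁻¹, a, h, s, e, z], (x = 1 ∨ x = c * y * c⁻¹ ∨ x = c * (h * a * y) * c⁻¹ ∨ x = c * ((h * a * y) ^ 2) * c⁻¹) := by
  obtain ⟨c₀, hc, hD, hr⟩ := M.cj (k := 7) rfl [([7, 7, 7, 7, 7, 7, 7, 7, 7, 7, 7, 7, 7, 7, 7], [])] [] [[], [0], [3, 2, 0], [3, 2, 0, 3, 2, 0]] [([], [], 0), ([], [], 1), ([3], [3], 1), ([0, 2], [2, 1], 1), ([1, 2, 3], [3, 2, 0], 1), ([1, 2], [2, 0], 1), ([0, 2, 3], [3, 2, 1], 1), ([0, 2, 3, 0, 2], [2, 1, 3, 2, 1], 1), ([1, 2, 3, 1, 2], [2, 0, 3, 2, 0], 1), ([2, 3], [3, 2], 1), ([], [], 2), ([1, 2, 1], [0, 2, 0], 3), ([2], [2], 1), ([1, 2], [2, 0], 3), ([3], [3], 2), ([0, 2], [2, 1], 3), ([0], [1], 2), ([2, 1], [0, 2], 3), ([3, 0], [1, 3], 2), ([2, 3, 0, 2], [2, 1, 3, 2], 1), ([2], [2], 3), ([0, 2, 3, 2], [2, 3, 2, 1], 1), ([3, 1], [0, 3], 2), ([0, 2, 3, 1, 2], [2, 0, 3, 2, 1], 1), ([2, 5, 0, 2, 5], [5, 2, 1, 5, 2], 3), ([4, 3, 1, 2, 5], [5, 2, 0, 3, 4], 3), ([3, 1, 2, 5, 4], [4,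 5, 2, 0, 3], 3), ([5, 0, 2], [2, 1, 5], 1), ([1], [0], 2), ([1, 2, 3, 0, 2], [2, 1, 3, 2, 0], 1), ([3, 0, 2], [2, 1, 3], 1), ([5, 1, 2, 5], [5, 2, 0, 5], 3), ([5, 1, 2, 5, 4], [4, 5, 2, 0, 5], 3), ([2, 3, 1, 2], [2, 0, 3, 2], 1), ([3, 2], [2, 3], 3), ([1, 2, 5, 4], [4, 5, 2, 0], 3), ([5, 1, 2, 3], [3, 2, 0, 5], 1), ([5, 0, 2, 5], [5, 2, 1, 5], 3), ([5, 0, 2, 5, 4], [4, 5, 2, 1, 5], 3), ([1, 2, 3, 2], [2, 3, 2, 0], 1), ([3, 1, 2], [2, 0, 3], 1), ([4, 0, 2, 3, 0, 2], [2, 1, 3, 2, 1, 4], 1), ([2, 5, 1, 2, 5, 2], [2, 5, 2, 0, 5, 2], 3), ([4, 3, 0, 2, 5], [5, 2, 1, 3, 4], 3), ([5, 1, 2, 3, 1, 2], [2, 0, 3, 2, 0, 5], 1), ([3, 0, 2, 5, 4], [4, 5, 2, 1, 3], 3), ([4, 1, 2, 3, 1, 2], [2, 0, 3, 2, 0, 4], 1), ([0, 2, 5, 4], [4, 5, 2, 1], 3), ([5, 1, 2], [2, 0, 5], 1), ([5, 0, 2, 3], [3, 2, 1, 5], 1), ([5, 0, 2, 3, 0, 2], [2, 1, 3, 2, 1, 5], 1), ([3, 1], [0, 3], 3), ([2, 1], [0, 2], 2), ([5, 2, 5], [5, 2, 5], 3), ([5, 2,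 5, 4], [4, 5, 2, 5], 3), ([3, 2], [2, 3], 1), ([5, 0, 2, 5, 2, 1], [0, 2, 5, 2, 1, 5], 2), ([4], [4], 2), ([5, 0, 2, 5, 4, 2, 1], [0, 2, 4, 5, 2, 1, 5], 2), ([5, 1, 2, 1], [0, 2, 0, 5], 3), ([4, 1, 2, 1], [0, 2, 0, 4], 3), ([5, 2, 3], [3, 2, 5], 1), ([2, 5, 4], [4, 5, 2], 3), ([5], [5], 2), ([0, 2, 5, 4, 2, 1], [0, 2, 4, 5, 2, 1], 2), ([], [], 3), ([2], [2], 2), ([2, 3, 2], [2, 3, 2], 1), ([4, 1, 2], [2, 0, 4], 3), ([4, 3, 2, 5, 4], [4, 5, 2, 3, 4], 3), ([4, 3, 2, 5], [5, 2, 3, 4], 3), ([5, 3], [3, 5], 2), ([2, 5, 1, 2, 5, 2, 1], [0, 2, 5, 2, 0, 5, 2], 2), ([1, 2, 5, 4, 1, 2], [2, 0, 4, 5, 2, 0], 2), ([3, 2, 5, 4], [4, 5, 2, 3], 3), ([4, 3], [3, 4], 2), ([5, 1, 2, 5, 1, 2], [2, 0, 5, 2, 0, 5], 2), ([5, 2], [2, 5], 1), ([5, 1, 2], [2, 0, 5], 3), ([3, 0], [1, 3], 3), ([1], [0], 3), ([4, 0, 2], [2, 1, 4], 3), ([3, 2], [2, 3], 2), ([1, 2], [2, 0], 2), ([5, 1, 2, 5, 2, 1], [0, 2, 5, 2, 0, 5], 2), ([4, 0], [1, 4],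 2), ([5, 1, 2, 5, 4, 2, 1], [0, 2, 4, 5, 2, 0, 5], 2), ([5, 2, 1], [0, 2, 5], 3), ([5, 3, 0], [1, 3, 5], 2), ([2, 5, 0, 2, 5, 1], [0, 5, 2, 1, 5, 2], 2), ([0, 2, 5, 4, 1, 2], [2, 0, 4, 5, 2, 1], 2), ([4, 2, 1], [0, 2, 4], 3), ([4, 3, 0], [1, 3, 4], 2), ([5, 0, 2, 5, 1, 2], [2, 0, 5, 2, 1, 5], 2), ([2, 5, 0, 2, 3, 0, 2], [2, 1, 3, 2, 1, 5, 2], 1), ([5, 0, 2], [2, 1, 5], 3), ([5, 0], [1, 5], 2), ([1, 2, 5, 4, 2, 1], [0, 2, 4, 5, 2, 0], 2), ([5, 4, 0, 2, 3, 0, 2], [2, 1, 3, 2, 1, 4, 5], 1), ([0], [1], 3), ([2, 5, 1, 2, 5], [5, 2, 0, 5, 2], 3), ([0, 2, 5, 4, 0], [1, 4, 5, 2, 1], 3), ([5, 1, 2, 5, 3, 2], [2, 3, 5, 2, 0, 5], 3), ([4, 2, 3, 0, 2], [2, 1, 3, 2, 4], 1), ([0, 2], [2, 1], 2), ([4, 2], [2, 4], 3), ([4, 0, 2, 3, 2], [2, 3, 2, 1, 4], 1), ([0, 2, 5, 2], [2, 5, 2, 1], 1), ([5, 3, 1], [0, 3, 5], 2), ([5, 2, 5, 4, 1, 2], [2, 0, 4, 5, 2, 5], 2), ([0, 2, 5, 4, 1], [0, 4, 5, 2, 1], 3), ([2, 5, 4, 1, 2], [2, 0, 4,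 5, 2], 2), ([5, 0, 2, 3, 1, 2], [2, 0, 3, 2, 1, 5], 1), ([5, 0, 2, 5, 0, 2], [2, 1, 5, 2, 1, 5], 3), ([3, 1, 2, 5], [5, 2, 0, 3], 3), ([4, 3, 1], [0, 3, 4], 2), ([5, 2, 5, 1, 2], [2, 0, 5, 2, 5], 2), ([4, 0, 2, 3, 1, 2], [2, 0, 3, 2, 1, 4], 1), ([5, 4, 1, 2, 1], [0, 2, 0, 4, 5], 3), ([5, 0, 2, 5, 4, 0], [1, 4, 5, 2, 1, 5], 3), ([5, 2, 3, 0, 2], [2, 1, 3, 2, 5], 1), ([5, 2], [2, 5], 3), ([5, 4], [4, 5], 2), ([0, 2, 5, 2, 1], [0, 2, 5, 2, 1], 2), ([3], [3], 3), ([5, 2, 5, 2], [2, 5, 2, 5], 3), ([5, 1, 2, 5, 4, 3], [3, 4, 5, 2, 0, 5], 3), ([5, 2, 5, 2, 1], [0, 2, 5, 2, 5], 2), ([5, 2, 5, 4, 2], [2, 4, 5, 2, 5], 3), ([4, 1], [0, 4], 2), ([5, 2, 5, 4, 2, 1], [0, 2, 4, 5, 2, 5], 2), ([3, 0, 2, 5, 4, 1], [0, 4, 5, 2, 1, 3], 3), ([1, 2, 1], [0, 2, 0], 2), ([4, 1, 2, 3, 0, 2], [2, 1, 3, 2, 0, 4], 1), ([1, 2, 5, 4, 3, 1], [0, 3, 4, 5, 2, 0], 3), ([4, 3, 0, 2], [2, 1, 3, 4], 1), ([3, 0, 2, 5, 2], [2, 5, 2, 1, 3], 1), ([5,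 2, 3, 1, 2], [2, 0, 3, 2, 5], 1), ([5, 3, 2], [2, 3, 5], 3), ([4, 2, 3, 1, 2], [2, 0, 3, 2, 4], 1), ([4, 3, 2], [2, 3, 4], 3), ([1, 2, 5, 1, 2], [2, 0, 5, 2, 0], 2), ([5, 4, 3], [3, 4, 5], 2), ([1, 2, 5], [5, 2, 0], 3), ([1, 2, 5, 4, 3], [3, 4, 5, 2, 0], 3), ([5, 1], [0, 5], 2), ([2, 5, 4, 2, 1], [0, 2, 4, 5, 2], 2), ([5, 1, 2, 3, 0, 2], [2, 1, 3, 2, 0, 5], 1), ([5, 4, 1, 2], [2, 0, 4, 5], 3), ([5, 2, 5, 4, 3, 2], [2, 3, 4, 5, 2, 5], 3), ([1, 2, 5, 4, 0], [1, 4, 5, 2, 0], 3), ([5, 1, 2, 5, 2], [2, 5, 2, 0, 5], 3), ([5, 0, 2, 5, 4, 3], [3, 4, 5, 2, 1, 5], 3), ([5, 2, 5, 3, 2], [2, 3, 5, 2, 5], 3), ([5, 1, 2, 5, 4, 2], [2, 4, 5, 2, 0, 5], 3), ([3, 1, 2, 5, 4, 1], [0, 4, 5, 2, 0, 3], 3), ([1, 2, 5, 1, 2], [2, 0, 5, 2, 0], 1), ([2, 5, 0, 2], [2, 1, 5, 2], 1), ([2, 3, 0, 2, 5, 2], [2, 5, 2, 1, 3, 2], 1), ([0, 2, 5, 4, 3, 1], [0, 3, 4, 5, 2, 1], 3), ([2, 5, 1, 2, 3], [3, 2, 0, 5, 2], 1), ([0, 2, 5, 4, 3], [3, 4, 5,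 2, 1], 3), ([4, 1, 2, 3, 2], [2, 3, 2, 0, 4], 1), ([4, 3, 1, 2], [2, 0, 3, 4], 1), ([1, 2, 5, 2], [2, 5, 2, 0], 1), ([1, 2, 5, 4, 1], [0, 4, 5, 2, 0], 3), ([2, 5, 1, 2], [2, 0, 5, 2], 1), ([3, 1, 2, 5, 2], [2, 5, 2, 0, 3], 1), ([2, 5, 0, 2, 3], [3, 2, 1, 5, 2], 1), ([5, 1, 2, 5, 0, 2], [2, 1, 5, 2, 0, 5], 3), ([3, 0, 2, 5], [5, 2, 1, 3], 3), ([5, 4, 2, 1], [0, 2, 4, 5], 3), ([0, 2, 5, 1, 2], [2, 0, 5, 2, 1], 2), ([5, 4, 3, 0], [1, 3, 4, 5], 2), ([0, 2, 5], [5, 2, 1], 3), ([0, 2, 5, 0, 2], [2, 1, 5, 2, 1], 1), ([5, 1, 2, 5, 4, 0], [1, 4, 5, 2, 0, 5], 3), ([5, 4, 0, 2], [2, 1, 4, 5], 3), ([5, 4, 0], [1, 4, 5], 2), ([1, 2, 5, 2, 1], [0, 2, 5, 2, 0], 2), ([2, 3, 1, 2, 5, 2], [2, 5, 2, 0, 3, 2], 1), ([5, 0, 2, 5, 2], [2, 5, 2, 1, 5], 3), ([5, 2, 5, 4, 3], [3, 4, 5, 2, 5], 3), ([2, 5, 4, 1, 2], [2, 0, 4, 5, 2], 3), ([5, 0, 2, 5, 4, 2], [2, 4, 5, 2, 1, 5], 3), ([4, 3, 1], [0, 3, 4], 3), ([3, 2, 5, 4, 1], [0, 4, 5,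 2, 3], 3), ([2, 5, 4, 3], [3, 4, 5, 2], 2), ([0, 2, 5, 4, 2], [2, 4, 5, 2, 1], 2), ([5, 2, 5, 1], [0, 5, 2, 5], 2), ([3, 0, 2, 5, 4], [4, 5, 2, 1, 3], 2), ([2, 5, 0, 2, 5, 3], [3, 5, 2, 1, 5, 2], 2), ([4, 2, 1], [0, 2, 4], 2), ([2, 5, 1, 2, 5, 2], [2, 5, 2, 0, 5, 2], 2), ([5, 2, 5, 4, 1], [0, 4, 5, 2, 5], 2), ([5, 1, 2, 5, 2], [2, 5, 2, 0, 5], 2), ([2, 5, 4, 3, 1], [0, 3, 4, 5, 2], 3), ([5, 1, 2, 5, 4, 2], [2, 4, 5, 2, 0, 5], 2), ([5, 0, 2, 5, 3], [3, 5, 2, 1, 5], 2), ([4, 3, 2], [2, 3, 4], 1), ([3, 2, 5, 2], [2, 5, 2, 3], 1), ([1, 2, 5, 4, 0, 2], [2, 1, 4, 5, 2, 0], 3), ([2, 5, 1, 2, 5, 0], [1, 5, 2, 0, 5, 2], 3), ([5, 2, 5, 1], [0, 5, 2, 5], 3), ([2, 5, 1, 2], [2, 0, 5, 2], 2), ([5, 4, 3, 1], [0, 3, 4, 5], 2), ([5, 2, 5, 4, 1], [0, 4, 5, 2, 5], 3), ([5, 4, 0, 2, 3, 1, 2], [2, 0, 3, 2, 1, 4, 5], 1), ([5, 2, 5, 1, 2], [2, 0, 5, 2, 5], 3), ([2, 5], [5, 2], 3), ([2, 5, 4, 3], [3, 4, 5, 2], 3), ([5, 2, 5, 4, 1,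 2], [2, 0, 4, 5, 2, 5], 3), ([5, 3, 1], [0, 3, 5], 3), ([5, 4, 2, 3, 0, 2], [2, 1, 3, 2, 4, 5], 1), ([5, 2, 5, 4, 3], [3, 4, 5, 2, 5], 2), ([1, 2, 5, 0, 2, 3], [3, 2, 1, 5, 2, 0], 1), ([5, 2, 1], [0, 2, 5], 2), ([0, 2, 5, 4, 0, 2], [2, 1, 4, 5, 2, 1], 2), ([5, 4, 2], [2, 4, 5], 3), ([4, 3, 0, 2, 5], [5, 2, 1, 3, 4], 2), ([2, 5, 0, 2, 5, 2], [2, 5, 2, 1, 5, 2], 3), ([2, 5, 4, 0], [1, 4, 5, 2], 3), ([5, 0, 2, 5, 2, 1], [0, 2, 5, 2, 1, 5], 3), ([5, 0, 2, 5, 3, 2], [2, 3, 5, 2, 1, 5], 3), ([4], [4], 3), ([5, 0, 2, 5, 4, 2, 1], [0, 2, 4, 5, 2, 1, 5], 3), ([5, 0, 2, 5, 3, 1], [0, 3, 5, 2, 1, 5], 3), ([3, 2, 5, 1, 2, 5, 0], [1, 5, 2, 0, 5, 2, 3], 3), ([2, 5, 4], [4, 5, 2], 2), ([3, 2, 5, 1, 2, 5, 0], [1, 5, 2, 0, 5, 2, 3], 2), ([4, 3, 0, 2, 5, 1], [0, 5, 2, 1, 3, 4], 2), ([4, 2], [2, 4], 2), ([5, 0, 2, 5, 3, 1], [0, 3, 5, 2, 1, 5], 2), ([4, 3, 2, 5, 1], [0, 5, 2, 3, 4], 3), ([5, 2, 5, 4, 0], [1, 4, 5, 2, 5], 3), ([4,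 2, 3, 2], [2, 3, 2, 4], 1), ([2, 5, 2], [2, 5, 2], 1), ([5, 2, 5, 0, 2], [2, 1, 5, 2, 5], 3), ([2, 5, 4, 1], [0, 4, 5, 2], 3), ([5, 2, 5, 3, 2], [2, 3, 5, 2, 5], 2), ([5, 1, 2, 5, 0], [1, 5, 2, 0, 5], 2), ([0, 2, 5, 4, 0], [1, 4, 5, 2, 1], 2), ([5, 0, 2, 5, 4, 0], [1, 4, 5, 2, 1, 5], 2), ([1, 2, 5, 4, 3, 2], [2, 3, 4, 5, 2, 0], 2), ([3, 2, 5], [5, 2, 3], 3), ([5, 2, 5, 4, 3, 2], [2, 3, 4, 5, 2, 5], 2), ([5, 4, 2, 3, 1, 2], [2, 0, 3, 2, 4, 5], 1), ([5, 4, 3, 2], [2, 3, 4, 5], 3), ([5, 2, 5], [5, 2, 5], 2), ([5], [5], 3), ([5, 4, 1], [0, 4, 5], 2), ([0, 2, 5, 4, 2, 1], [0, 2, 4, 5, 2, 1], 3), ([2, 5, 2, 1], [0, 2, 5, 2], 2), ([5, 2, 5, 4], [4, 5, 2, 5], 2), ([5, 2], [2, 5], 2), ([2, 5, 1, 2, 5, 3], [3, 5, 2, 0, 5, 2], 2), ([5, 4, 1, 2, 3, 0, 2], [2, 1, 3, 2, 0, 4, 5], 1), ([4, 3, 2, 5, 4, 1], [0, 4, 5, 2, 3, 4], 3), ([5, 2, 5, 0, 2], [2, 1, 5, 2, 5], 1), ([0, 2, 5, 4, 1, 2], [2, 0, 4, 5, 2, 1], 3), ([5, 2, 5,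 2, 1], [0, 2, 5, 2, 5], 3), ([3, 2, 5, 1], [0, 5, 2, 3], 3), ([2, 5], [5, 2], 2), ([4, 3, 0], [1, 3, 4], 3), ([4, 1], [0, 4], 3), ([5, 2, 5, 4, 2, 1], [0, 2, 4, 5, 2, 5], 3), ([5, 2, 5, 3, 1], [0, 3, 5, 2, 5], 3), ([5, 2, 5, 4, 3, 1], [0, 3, 4, 5, 2, 5], 3), ([5, 2, 5, 0, 2, 3], [3, 2, 1, 5, 2, 5], 1), ([5, 4], [4, 5], 3), ([0, 2, 5, 4, 3], [3, 4, 5, 2, 1], 2), ([1, 2, 5, 4, 2], [2, 4, 5, 2, 0], 2), ([5, 0, 2, 5, 1], [0, 5, 2, 1, 5], 2), ([3, 2, 5, 4], [4, 5, 2, 3], 2), ([2, 5, 1, 2, 5, 0], [1, 5, 2, 0, 5, 2], 2), ([1, 2, 5, 4], [4, 5, 2, 0], 2), ([5, 2, 5, 4, 3, 1], [0, 3, 4, 5, 2, 5], 2), ([5, 4, 3, 0], [1, 3, 4, 5], 3), ([4, 3, 1, 2, 5, 1], [0, 5, 2, 0, 3, 4], 2), ([2, 5, 3], [3, 5, 2], 2), ([2, 5, 1, 2], [2, 0, 5, 2], 3), ([4, 3, 2], [2, 3, 4], 2), ([4, 3, 2, 5, 4], [4, 5, 2, 3, 4], 2), ([5, 0, 2, 5, 4, 1], [0, 4, 5, 2, 1, 5], 2), ([4, 1, 2], [2, 0, 4], 2), ([5, 2, 5, 3, 1], [0, 3, 5, 2, 5], 2), ([5, 2,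 5, 2], [2, 5, 2, 5], 2), ([4, 3, 0, 2, 5, 1], [0, 5, 2, 1, 3, 4], 3), ([5, 2, 5, 4, 2], [2, 4, 5, 2, 5], 2), ([5, 1, 2, 5, 3], [3, 5, 2, 0, 5], 2), ([1, 2, 5, 0, 2], [2, 1, 5, 2, 0], 1), ([2, 5, 2, 1], [0, 2, 5, 2], 3), ([5, 1], [0, 5], 3), ([3, 2, 5], [5, 2, 3], 2), ([5, 3, 2], [2, 3, 5], 2), ([1, 2, 5, 4, 0, 2], [2, 1, 4, 5, 2, 0], 2), ([5, 2, 5, 4, 0, 2], [2, 1, 4, 5, 2, 5], 3), ([2, 5, 0, 2], [2, 1, 5, 2], 3), ([2, 5, 2], [2, 5, 2], 2), ([5, 2, 5, 4, 0], [1, 4, 5, 2, 5], 2), ([0, 2, 5, 4, 3, 2], [2, 3, 4, 5, 2, 1], 2), ([2, 5, 0], [1, 5, 2], 2), ([2, 5, 3, 1], [0, 3, 5, 2], 3), ([2, 5, 4, 0, 2], [2, 1, 4, 5, 2], 3), ([5, 1, 2, 5, 3, 2], [2, 3, 5, 2, 0, 5], 2), ([5, 0, 2, 5, 0], [1, 5, 2, 1, 5], 2), ([2, 5, 1], [0, 5, 2], 3), ([2, 5, 4, 0], [1, 4, 5, 2], 2), ([5, 0, 2, 5, 1], [0, 5, 2, 1, 5], 3), ([2, 5, 3, 2], [2, 3, 5, 2], 2), ([4, 3, 2, 5], [5, 2, 3, 4], 2), ([2, 5, 4, 2, 1], [0, 2, 4, 5, 2], 3), ([2,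 5, 1, 2, 5], [5, 2, 0, 5, 2], 2), ([5, 0, 2, 5, 4, 1], [0, 4, 5, 2, 1, 5], 3), ([5, 0, 2, 5, 1, 2], [2, 0, 5, 2, 1, 5], 3), ([5, 1, 2, 5], [5, 2, 0, 5], 2), ([2, 5, 0, 2, 5, 1], [0, 5, 2, 1, 5, 2], 3), ([5, 3, 0], [1, 3, 5], 3), ([5, 0, 2, 5, 4, 3], [3, 4, 5, 2, 1, 5], 2), ([5, 1, 2, 5, 4], [4, 5, 2, 0, 5], 2), ([5, 1, 2], [2, 0, 5], 2), ([2, 5, 0, 2, 5, 0], [1, 5, 2, 1, 5, 2], 2), ([2, 5, 1, 2, 5, 3], [3, 5, 2, 0, 5, 2], 3), ([5, 1, 2, 5, 2, 1], [0, 2, 5, 2, 0, 5], 3), ([0, 2, 5, 0], [1, 5, 2, 1], 3), ([4, 0], [1, 4], 3), ([5, 1, 2, 5, 4, 2, 1], [0, 2, 4, 5, 2, 0, 5], 3), ([5, 1, 2, 5, 3, 1], [0, 3, 5, 2, 0, 5], 3), ([2, 5, 1, 2, 5, 1], [0, 5, 2, 0, 5, 2], 3), ([0, 2, 5, 2], [2, 5, 2, 1], 2), ([0, 2, 5, 4], [4, 5, 2, 1], 2), ([2, 5, 1, 2, 5, 1], [0, 5, 2, 0, 5, 2], 2), ([4, 3, 2, 5, 1], [0, 5, 2, 3, 4], 2), ([5, 4, 0], [1, 4, 5], 3), ([4, 0, 2], [2, 1, 4], 2), ([5, 1, 2, 5, 3, 1], [0, 3, 5, 2, 0, 5], 2), ([5,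 0, 2, 5, 0, 2], [2, 1, 5, 2, 1, 5], 2), ([4, 3, 1, 2, 5, 1], [0, 5, 2, 0, 3, 4], 3), ([5, 0, 2, 5, 4], [4, 5, 2, 1, 5], 2), ([5, 0, 2], [2, 1, 5], 2), ([4, 3, 2, 5, 4, 1], [0, 4, 5, 2, 3, 4], 2), ([5, 0, 2, 5], [5, 2, 1, 5], 2), ([2, 5, 0, 2, 5, 2], [2, 5, 2, 1, 5, 2], 2), ([5, 0, 2, 5, 3, 2], [2, 3, 5, 2, 1, 5], 2), ([5, 2, 5, 0], [1, 5, 2, 5], 2), ([1, 2, 5, 4, 0], [1, 4, 5, 2, 0], 2), ([0, 2, 5, 0, 2], [2, 1, 5, 2, 1], 3), ([5, 1, 2, 5, 4, 0], [1, 4, 5, 2, 0, 5], 2), ([2, 5, 4, 3, 2], [2, 3, 4, 5, 2], 2), ([0, 2, 5, 1], [0, 5, 2, 1], 3), ([2, 5, 0, 2, 5, 3], [3, 5, 2, 1, 5, 2], 3), ([1, 2, 5, 0, 2], [2, 1, 5, 2, 0], 3), ([0, 2, 5, 4, 0, 2], [2, 1, 4, 5, 2, 1], 3), ([5, 0, 2, 5, 0], [1, 5, 2, 1, 5], 3), ([2, 5, 4, 1], [0, 4, 5, 2], 2), ([5, 0], [1, 5], 3), ([1, 2, 5, 4, 3, 2], [2, 3, 4, 5, 2, 0], 3), ([1, 2, 5, 4, 2, 1], [0, 2, 4, 5, 2, 0], 3), ([1, 2, 5, 3, 2], [2, 3, 5, 2, 0], 3), ([5, 0, 2, 5, 4, 2], [2,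 4, 5, 2, 1, 5], 2), ([3, 0, 2, 5], [5, 2, 1, 3], 2), ([2, 5, 1], [0, 5, 2], 2), ([0, 2, 5, 0, 2], [2, 1, 5, 2, 1], 2), ([0, 2, 5, 3], [3, 5, 2, 1], 2), ([2, 5, 0, 2, 5, 0], [1, 5, 2, 1, 5, 2], 3), ([1, 2, 5, 2], [2, 5, 2, 0], 2), ([1, 2, 5, 4, 1, 2], [2, 0, 4, 5, 2, 0], 3), ([5, 1, 2, 5, 3], [3, 5, 2, 0, 5], 3), ([4, 3], [3, 4], 3), ([1, 2, 5, 4, 3], [3, 4, 5, 2, 0], 2), ([2, 5, 4, 2], [2, 4, 5, 2], 2), ([5, 4, 3, 1], [0, 3, 4, 5], 3), ([5, 1, 2, 5, 1], [0, 5, 2, 0, 5], 2), ([3, 1, 2, 5, 4], [4, 5, 2, 0, 3], 2), ([5, 2, 5, 4, 0, 2], [2, 1, 4, 5, 2, 5], 2), ([4, 1, 2, 1], [0, 2, 0, 4], 2), ([2, 5, 0, 2, 5], [5, 2, 1, 5, 2], 2), ([5, 1, 2, 5, 4, 1], [0, 4, 5, 2, 0, 5], 2), ([3, 0, 2, 5, 1], [0, 5, 2, 1, 3], 2), ([5, 0, 2, 5, 2], [2, 5, 2, 1, 5], 2), ([1, 2, 5, 3, 1], [0, 3, 5, 2, 0], 3), ([5, 2, 5, 3], [3, 5, 2, 5], 2), ([2, 5, 1, 2, 5, 2, 1], [0, 2, 5, 2, 0, 5, 2], 3), ([5, 3], [3, 5], 3), ([5, 1, 2, 5, 1, 2],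 [2, 0, 5, 2, 0, 5], 3), ([5, 1, 2, 5, 4, 1], [0, 4, 5, 2, 0, 5], 3), ([5, 1, 2, 5, 1], [0, 5, 2, 0, 5], 3), ([1, 2, 5, 0], [1, 5, 2, 0], 2), ([1, 2, 5, 3, 2], [2, 3, 5, 2, 0], 2), ([0, 2, 5, 0], [1, 5, 2, 1], 2), ([1, 2, 5, 3], [3, 5, 2, 0], 3), ([3, 0, 2, 5, 1], [0, 5, 2, 1, 3], 3), ([0, 2, 5, 3, 1], [0, 3, 5, 2, 1], 2), ([2, 5, 2], [2, 5, 2], 3), ([0, 2, 5, 2, 1], [0, 2, 5, 2, 1], 3), ([2, 5, 4, 2], [2, 4, 5, 2], 3), ([5, 1, 2, 5, 4, 3], [3, 4, 5, 2, 0, 5], 2), ([0, 2, 5, 3, 1], [0, 3, 5, 2, 1], 3), ([5, 1, 2, 1], [0, 2, 0, 5], 2), ([2, 5, 4, 0, 2], [2, 1, 4, 5, 2], 2), ([0, 2, 5, 4, 3, 1], [0, 3, 4, 5, 2, 1], 2), ([4, 3, 1, 2, 5], [5, 2, 0, 3, 4], 2), ([3, 0, 2, 5, 4, 1], [0, 4, 5, 2, 1, 3], 2), ([2, 5, 3, 1], [0, 3, 5, 2], 2), ([5, 4, 1, 2], [2, 0, 4, 5], 2), ([3, 2, 5, 1, 2, 3], [3, 2, 0, 5, 2, 3], 1), ([1, 2, 5, 0], [1, 5, 2, 0], 3), ([5, 0, 2, 5, 3], [3, 5, 2, 1, 5], 3), ([0, 2, 5, 1, 2], [2, 0, 5, 2,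 1], 3), ([3, 2, 5, 1, 2], [2, 0, 5, 2, 3], 1), ([5, 4, 3], [3, 4, 5], 3), ([3, 2, 5, 0, 2], [2, 1, 5, 2, 3], 1), ([2, 5, 3, 2], [2, 3, 5, 2], 3), ([5, 4, 1], [0, 4, 5], 3), ([5, 1, 2, 5, 0, 2], [2, 1, 5, 2, 0, 5], 2), ([3, 1, 2, 5, 1], [0, 5, 2, 0, 3], 2), ([1, 2, 5], [5, 2, 0], 2), ([5, 4, 2, 1], [0, 2, 4, 5], 2), ([3, 2, 5, 0, 2, 3], [3, 2, 1, 5, 2, 3], 1), ([1, 2, 5, 2], [2, 5, 2, 0], 3), ([0, 2, 5, 1], [0, 5, 2, 1], 2), ([0, 2, 5, 3], [3, 5, 2, 1], 3), ([1, 2, 5, 0, 2], [2, 1, 5, 2, 0], 2), ([0, 2, 5, 4, 1], [0, 4, 5, 2, 1], 2), ([1, 2, 5, 1], [0, 5, 2, 0], 3), ([1, 2, 5, 3], [3, 5, 2, 0], 2), ([0, 2, 5, 3, 2], [2, 3, 5, 2, 1], 2), ([3, 1, 2, 5, 1], [0, 5, 2, 0, 3], 3), ([3, 1, 2, 5, 1, 2], [2, 0, 5, 2, 0, 3], 1), ([2, 3, 1, 2, 5, 1, 2], [2, 0, 5, 2, 0, 3, 2], 1), ([3, 0, 2, 5, 0, 2], [2, 1, 5, 2, 1, 3], 1), ([1, 2, 5, 4, 2], [2, 4, 5, 2, 0], 3), ([2, 3, 0, 2, 5, 0, 2], [2, 1, 5, 2, 1, 3, 2], 1), ([5, 1,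 2, 5, 0], [1, 5, 2, 0, 5], 3), ([2, 5, 4, 3, 2], [2, 3, 4, 5, 2], 3), ([2, 5, 4, 3, 1], [0, 3, 4, 5, 2], 2), ([3, 1, 2, 5, 4, 1], [0, 4, 5, 2, 0, 3], 2), ([5, 2, 5, 3], [3, 5, 2, 5], 3), ([0, 2, 5, 4, 2], [2, 4, 5, 2, 1], 3), ([1, 2, 5, 1, 2], [2, 0, 5, 2, 0], 3), ([3, 2, 5, 1], [0, 5, 2, 3], 2), ([0, 2, 5], [5, 2, 1], 2), ([5, 4, 2], [2, 4, 5], 2), ([1, 2, 5, 2, 1], [0, 2, 5, 2, 0], 3), ([1, 2, 5, 4, 3, 1], [0, 3, 4, 5, 2, 0], 2), ([3, 2, 5, 4, 1], [0, 4, 5, 2, 3], 2), ([1, 2, 5, 3, 1], [0, 3, 5, 2, 0], 2), ([4, 3, 2, 5, 0, 2], [2, 1, 5, 2, 3, 4], 1), ([2, 5, 3], [3, 5, 2], 3), ([0, 2, 5, 2], [2, 5, 2, 1], 3), ([1, 2, 5, 4, 1], [0, 4, 5, 2, 0], 2), ([5, 4, 1, 2, 1], [0, 2, 0, 4, 5], 2), ([2, 5, 0], [1, 5, 2], 3), ([5, 2, 5, 0, 2], [2, 1, 5, 2, 5], 2), ([0, 2, 5, 4, 3, 2], [2, 3, 4, 5, 2, 1], 3), ([3, 1, 2, 5], [5, 2, 0, 3], 2), ([5, 2, 5, 0], [1, 5, 2, 5], 3), ([0, 2, 5, 3, 2], [2, 3, 5, 2, 1], 3), ([3, 1,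 2, 5, 0, 2, 3], [3, 2, 1, 5, 2, 0, 3], 1), ([1, 2, 5, 1], [0, 5, 2, 0], 2), ([2, 5, 0, 2], [2, 1, 5, 2], 2), ([5, 4, 3, 2], [2, 3, 4, 5], 2), ([3, 1, 2, 5, 0, 2], [2, 1, 5, 2, 0, 3], 1), ([5, 4, 0, 2], [2, 1, 4, 5], 2), ([4, 3, 2, 5, 0, 2, 3], [3, 2, 1, 5, 2, 3, 4], 1)] (by decide +kernel) hx (by
    simp only [Sat, List.forall_mem_cons, List.not_mem_nil, IsEmpty.forall_iff, implies_true, and_true, ev_cons, ev_nil, List.cons_append, List.nil_append, List.getD_cons_succ, List.getD_cons_zero, mul_one]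
    exact by simpa only [pow_succ, pow_zero, one_mul, mul_one, mul_assoc, mul_inv_rev, inv_inv] using h0)
  exact ⟨c₀, hc, by simpa only [List.mem_cons, List.not_mem_nil, or_false, exists_eq_or_imp, exists_eq_left, mul_inv_cancel, ev_cons, ev_nil, List.cons_append, List.nil_append, List.getD_cons_succ, List.getD_cons_zero, mul_one, pow_succ, pow_zero, one_mul, mul_one, mul_assoc, mul_inv_rev, inv_inv] using hr⟩
theorem kh_y {y a h s e z : G} (M : MK [y, y⁻¹, a, h, s, e, z] jh_k jh_E1 jh_E2) {x : G} (hx : x ∈ cl [y, y⁻¹, a, h, s, e, z]) (h0 : x * y = y * x) (h1 : x ^ 4 = 1) :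
    x * x = 1 ∨ x * x = z := by
  have := M.imp (k := 7) rfl [([7, 0], [0, 7]), ([7, 7, 7, 7], [])] [[([7, 7], [])], [([7, 7], [6])]] (by decide +kernel) hx (by
    simp only [Sat, List.forall_mem_cons, List.not_mem_nil, IsEmpty.forall_iff, implies_true, and_true, ev_cons, ev_nil, List.cons_append, List.nil_append, List.getD_cons_succ, List.getD_cons_zero, mul_one]
    exact ⟨by simpa only [pow_succ, pow_zero, one_mul, mul_one, mul_assoc, mul_inv_rev, inv_inv] using h0, by simpa only [pow_succ, pow_zero, one_mul, mul_one, mul_assoc, mul_inv_rev, inv_inv] using h1⟩)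
  simpa only [List.mem_cons, List.not_mem_nil, or_false, false_and, exists_false, exists_eq_or_imp, exists_eq_left, Sat, forall_eq_or_imp, forall_eq, ev_cons, ev_nil, List.cons_append, List.nil_append, List.getD_cons_succ, List.getD_cons_zero, mul_one, pow_succ, pow_zero, one_mul, mul_one, mul_assoc, mul_inv_rev, inv_inv] using this
theorem kh_f {y a h s e z : G} (M : MK [y, y⁻¹, a, h, s, e, z] jh_k jh_E1 jh_E2) {x : G} (hx : x ∈ cl [y, y⁻¹, a, h, s, e, z]) (h0 : x * (h * a * y) = (h * a * y) * x) (h1 : x ^ 4 = 1) :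
    x * x = 1 := by
  have := M.imp (k := 7) rfl [([7, 3, 2, 0], [3, 2, 0, 7]), ([7, 7, 7, 7], [])] [[([7, 7], [])]] (by decide +kernel) hx (by
    simp only [Sat, List.forall_mem_cons, List.not_mem_nil, IsEmpty.forall_iff, implies_true, and_true, ev_cons, ev_nil, List.cons_append, List.nil_append, List.getD_cons_succ, List.getD_cons_zero, mul_one]
    exact ⟨by simpa only [pow_succ, pow_zero, one_mul, mul_one, mul_assoc, mul_inv_rev, inv_inv] using h0, by simpa only [pow_succ, pow_zero, one_mul, mul_one, mul_assoc, mul_inv_rev, inv_inv] using h1⟩)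
  simpa only [List.mem_cons, List.not_mem_nil, or_false, false_and, exists_false, exists_eq_or_imp, exists_eq_left, Sat, forall_eq_or_imp, forall_eq, ev_cons, ev_nil, List.cons_append, List.nil_append, List.getD_cons_succ, List.getD_cons_zero, mul_one, pow_succ, pow_zero, one_mul, mul_one, mul_assoc, mul_inv_rev, inv_inv] using this
theorem kh_f2 {y a h s e z : G} (M : MK [y, y⁻¹, a, h, s, e, z] jh_k jh_E1 jh_E2) {x : G} (hx : x ∈ cl [y, y⁻¹, a, h, s, e, z]) (h0 : x * (h * a * y) ^ 2 = (h * a * y) ^ 2 * x) (h1 : x ^ 4 = 1) :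
    x * x = 1 := by
  have := M.imp (k := 7) rfl [([7, 3, 2, 0, 3, 2, 0], [3, 2, 0, 3, 2, 0, 7]), ([7, 7, 7, 7], [])] [[([7, 7], [])]] (by decide +kernel) hx (by
    simp only [Sat, List.forall_mem_cons, List.not_mem_nil, IsEmpty.forall_iff, implies_true, and_true, ev_cons, ev_nil, List.cons_append, List.nil_append, List.getD_cons_succ, List.getD_cons_zero, mul_one]
    exact ⟨by simpa only [pow_succ, pow_zero, one_mul, mul_one, mul_assoc, mul_inv_rev, inv_inv] using h0, by simpa only [pow_succ, pow_zero, one_mul, mul_one, mul_assoc, mul_inv_rev, inv_inv] using h1⟩)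
  simpa only [List.mem_cons, List.not_mem_nil, or_false, false_and, exists_false, exists_eq_or_imp, exists_eq_left, Sat, forall_eq_or_imp, forall_eq, ev_cons, ev_nil, List.cons_append, List.nil_append, List.getD_cons_succ, List.getD_cons_zero, mul_one, pow_succ, pow_zero, one_mul, mul_one, mul_assoc, mul_inv_rev, inv_inv] using this
end
end H2
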