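import Cfsg.Agent.H2.KA
/-! The Sylow 2-subgroup of J₂: more word model facts. -/
set_option maxRecDepth 100000
namespace H2
open H27 H28 H13 Subgroup Cfsg
noncomputable section
variable {G : Type*} [Group G]
theorem ks_ev1 {a b s e c d f p q z : G} (M : MK [a, b, s, e, c, d, f, p, q, z] ks_k ks_E1 ks_E2) {x : G} (hx : x ∈ cl [a, b, s, e, c, d, f, p, q, z]) (h0 : x * a = a * x) (h1 : x * e = e * x) :
    x = 1 ∨ x = z := by
  have := M.sol (k := 10) rfl [([10, 0], [0, 10]), ([10, 3], [3, 10])] [[], [9]] (by decide +kernel) hx (by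
    simp only [Sat, List.forall_mem_cons, List.not_mem_nil, IsEmpty.forall_iff, implies_true, and_true, ev_cons, ev_nil, List.cons_append, List.nil_append, List.getD_cons_succ, List.getD_cons_zero, mul_one]
    exact ⟨by simpa only [pow_succ, pow_zero, one_mul, mul_one, mul_assoc, mul_inv_rev, inv_inv] using h0, by simpa only [pow_succ, pow_zero, one_mul, mul_one, mul_assoc, mul_inv_rev, inv_inv] using h1⟩)
  simpa only [List.mem_cons, List.not_mem_nil, or_false, false_and, exists_false, exists_eq_or_imp, exists_eq_left, ev_cons, ev_nil, List.cons_append, List.nil_append, List.getD_cons_succ, List.getD_cons_zero, mul_one, pow_succ, pow_zero, one_mul, mul_one, mul_assoc, mul_inv_rev, inv_inv] using this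
theorem ks_ev2 {a b s e c d f p q z : G} (M : MK [a, b, s, e, c, d, f, p, q, z] ks_k ks_E1 ks_E2) {x : G} (hx : x ∈ cl [a, b, s, e, c, d, f, p, q, z]) (h0 : x * a = a * x) (h1 : x * e = e * x * z) :
    x = s ∨ x = s * z := by
  have := M.sol (k := 10) rfl [([10, 0], [0, 10]), ([10, 3], [3, 10, 9])] [[2], [2, 9]] (by decide +kernel) hx (by
    simp only [Sat, List.forall_mem_cons, List.not_mem_nil, IsEmpty.forall_iff, implies_true, and_true, ev_cons, ev_nil, List.cons_append, List.nil_append, List.getD_cons_succ, List.getD_cons_zero, mul_one]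
    exact ⟨by simpa only [pow_succ, pow_zero, one_mul, mul_one, mul_assoc, mul_inv_rev, inv_inv] using h0, by simpa only [pow_succ, pow_zero, one_mul, mul_one, mul_assoc, mul_inv_rev, inv_inv] using h1⟩)
  simpa only [List.mem_cons, List.not_mem_nil, or_false, false_and, exists_false, exists_eq_or_imp, exists_eq_left, ev_cons, ev_nil, List.cons_append, List.nil_append, List.getD_cons_succ, List.getD_cons_zero, mul_one, pow_succ, pow_zero, one_mul, mul_one, mul_assoc, mul_inv_rev, inv_inv] using this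
theorem ks_m {a b s e c d f p q z : G} (M : MK [a, b, s, e, c, d, f, p, q, z] ks_k ks_E1 ks_E2) :
    s * e * s = e * z ∧ (s * c) ^ 4 = 1 ∧ s * c * s * c = z :=
  ⟨by simpa only [ev_cons, ev_nil, List.cons_append, List.nil_append, List.getD_cons_succ, List.getD_cons_zero, mul_one, pow_succ, pow_zero, one_mul, mul_one, mul_assoc, mul_inv_rev, inv_inv] using M.eq' (k := 10) rfl [2, 3, 2] [3, 9] (by decide +kernel),
   by simpa only [ev_cons, ev_nil, List.cons_append, List.nil_append, List.getD_cons_succ, List.getD_cons_zero, mul_one, pow_succ, pow_zero, one_mul, mul_one, mul_assoc, mul_inv_rev, inv_inv] using M.eq' (k := 10) rfl [2, 4, 2, 4, 2, 4, 2, 4] [] (by decide +kernel),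
   by simpa only [ev_cons, ev_nil, List.cons_append, List.nil_append, List.getD_cons_succ, List.getD_cons_zero, mul_one, pow_succ, pow_zero, one_mul, mul_one, mul_assoc, mul_inv_rev, inv_inv] using M.eq' (k := 10) rfl [2, 4, 2, 4] [9] (by decide +kernel)⟩
theorem kh_ny {y a h s e z : G} (M : MK [y, y⁻¹, a, h, s, e, z] jh_k jh_E1 jh_E2) {x : G} (hx : x ∈ cl [y, y⁻¹, a, h, s, e, z]) (h0 : x ^ 4 = 1) (h1 : x * y * x ^ 3 * y = y * x * y * x ^ 3) :
    x * x = 1 ∨ x * x = z := by
  have := M.imp (k := 7) rfl [([7, 7, 7, 7], []), ([7, 0, 7, 7, 7, 0], [0, 7, 0, 7, 7, 7])] [[([7, 7], [])], [([7, 7], [6])]] (by decide +kernel) hx (by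
    simp only [Sat, List.forall_mem_cons, List.not_mem_nil, IsEmpty.forall_iff, implies_true, and_true, ev_cons, ev_nil, List.cons_append, List.nil_append, List.getD_cons_succ, List.getD_cons_zero, mul_one]
    exact ⟨by simpa only [pow_succ, pow_zero, one_mul, mul_one, mul_assoc, mul_inv_rev, inv_inv] using h0, by simpa only [pow_succ, pow_zero, one_mul, mul_one, mul_assoc, mul_inv_rev, inv_inv] using h1⟩)
  simpa only [List.mem_cons, List.not_mem_nil, or_false, false_and, exists_false, exists_eq_or_imp, exists_eq_left, Sat, forall_eq_or_imp, forall_eq, ev_cons, ev_nil, List.cons_append, List.nil_append, List.getD_cons_succ, List.getD_cons_zero, mul_one, pow_succ, pow_zero, one_mul, mul_one, mul_assoc, mul_inv_rev, inv_inv] using this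
theorem kh_nf {y a h s e z : G} (M : MK [y, y⁻¹, a, h, s, e, z] jh_k jh_E1 jh_E2) {x : G} (hx : x ∈ cl [y, y⁻¹, a, h, s, e, z]) (h0 : x ^ 4 = 1) (h1 : x * (h * a * y) * x ^ 3 * (h * a * y) = (h * a * y) * x * (h * a * y) * x ^ 3) :
    x * x = 1 ∨ x * x = z := by
  have := M.imp (k := 7) rfl [([7, 7, 7, 7], []), ([7, 3, 2, 0, 7, 7, 7, 3, 2, 0], [3, 2, 0, 7, 3, 2, 0, 7, 7, 7])] [[([7, 7], [])], [([7, 7], [6])]] (by decide +kernel) hx (by
    simp only [Sat, List.forall_mem_cons, List.not_mem_nil, IsEmpty.forall_iff, implies_true, and_true, ev_cons, ev_nil, List.cons_append, List.nil_append, List.getD_cons_succ, List.getD_cons_zero, mul_one]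
    exact ⟨by simpa only [pow_succ, pow_zero, one_mul, mul_one, mul_assoc, mul_inv_rev, inv_inv] using h0, by simpa only [pow_succ, pow_zero, one_mul, mul_one, mul_assoc, mul_inv_rev, inv_inv] using h1⟩)
  simpa only [List.mem_cons, List.not_mem_nil, or_false, false_and, exists_false, exists_eq_or_imp, exists_eq_left, Sat, forall_eq_or_imp, forall_eq, ev_cons, ev_nil, List.cons_append, List.nil_append, List.getD_cons_succ, List.getD_cons_zero, mul_one, pow_succ, pow_zero, one_mul, mul_one, mul_assoc, mul_inv_rev, inv_inv] using this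
theorem kh_nf2 {y a h s e z : G} (M : MK [y, y⁻¹, a, h, s, e, z] jh_k jh_E1 jh_E2) {x : G} (hx : x ∈ cl [y, y⁻¹, a, h, s, e, z]) (h0 : x ^ 4 = 1) (h1 : x * (h * a * y) ^ 2 * x ^ 3 * (h * a * y) ^ 2 = (h * a * y) ^ 2 * x * (h * a * y) ^ 2 * x ^ 3) :
    x * x = 1 ∨ x * x = z := by
  have := M.imp (k := 7) rfl [([7, 7, 7, 7], []), ([7, 3, 2, 0, 3, 2, 0, 7, 7, 7, 3, 2, 0, 3, 2, 0], [3, 2, 0, 3, 2, 0, 7, 3, 2, 0, 3, 2, 0, 7, 7, 7])] [[([7, 7], [])], [([7, 7], [6])]] (by decide +kernel) hx (by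
    simp only [Sat, List.forall_mem_cons, List.not_mem_nil, IsEmpty.forall_iff, implies_true, and_true, ev_cons, ev_nil, List.cons_append, List.nil_append, List.getD_cons_succ, List.getD_cons_zero, mul_one]
    exact ⟨by simpa only [pow_succ, pow_zero, one_mul, mul_one, mul_assoc, mul_inv_rev, inv_inv] using h0, by simpa only [pow_succ, pow_zero, one_mul, mul_one, mul_assoc, mul_inv_rev, inv_inv] using h1⟩)
  simpa only [List.mem_cons, List.not_mem_nil, or_false, false_and, exists_false, exists_eq_or_imp, exists_eq_left, Sat, forall_eq_or_imp, forall_eq, ev_cons, ev_nil, List.cons_append, List.nil_append, List.getD_cons_succ, List.getD_cons_zero, mul_one, pow_succ, pow_zero, one_mul, mul_one, mul_assoc, mul_inv_rev, inv_inv] using this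
theorem kh_cy {y a h s e z : G} (M : MK [y, y⁻¹, a, h, s, e, z] jh_k jh_E1 jh_E2) {K : Subgroup G} (hK : ∀ x ∈ K, x ∈ cl [y, y⁻¹, a, h, s, e, z] ∧ x * x = 1 ∧ x * y = y * x) : Nat.card K ≤ 6 :=
  M.card_le (k := 7) rfl [([7, 7], []), ([7, 0], [0, 7])] [[], [4], [5], [6], [6, 4], [6, 5]] (by decide +kernel) fun x hx => by
    obtain ⟨hx, h0, h1⟩ := hK x hx
    exact ⟨hx, (by
      simp only [Sat, List.forall_mem_cons, List.not_mem_nil, IsEmpty.forall_iff, implies_true, and_true, ev_cons, ev_nil, List.cons_append, List.nil_append, List.getD_cons_succ, List.getD_cons_zero, mul_one]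
      exact ⟨by simpa only [pow_succ, pow_zero, one_mul, mul_one, mul_assoc, mul_inv_rev, inv_inv] using h0, by simpa only [pow_succ, pow_zero, one_mul, mul_one, mul_assoc, mul_inv_rev, inv_inv] using h1⟩)⟩
theorem kh_iy {y a h s e z : G} (M : MK [y, y⁻¹, a, h, s, e, z] jh_k jh_E1 jh_E2) {x : G} (hx : x ∈ cl [y, y⁻¹, a, h, s, e, z]) (h0 : x * x = 1) (h1 : x * y * x * y = y * x * y * x) :
    x * y = y * x ∨ x * y * x * y = 1 := by
  have := M.imp (k := 7) rfl [([7, 7], []), ([7, 0, 7, 0], [0, 7, 0, 7])] [[([7, 0], [0, 7])], [([7, 0, 7, 0], [])]] (by decide +kernel) hx (by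
    simp only [Sat, List.forall_mem_cons, List.not_mem_nil, IsEmpty.forall_iff, implies_true, and_true, ev_cons, ev_nil, List.cons_append, List.nil_append, List.getD_cons_succ, List.getD_cons_zero, mul_one]
    exact ⟨by simpa only [pow_succ, pow_zero, one_mul, mul_one, mul_assoc, mul_inv_rev, inv_inv] using h0, by simpa only [pow_succ, pow_zero, one_mul, mul_one, mul_assoc, mul_inv_rev, inv_inv] using h1⟩)
  simpa only [List.mem_cons, List.not_mem_nil, or_false, false_and, exists_false, exists_eq_or_imp, exists_eq_left, Sat, forall_eq_or_imp, forall_eq, ev_cons, ev_nil, List.cons_append, List.nil_append, List.getD_cons_succ, List.getD_cons_zero, mul_one, pow_succ, pow_zero, one_mul, mul_one, mul_assoc, mul_inv_rev, inv_inv] using this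
theorem kh_cf {y a h s e z : G} (M : MK [y, y⁻¹, a, h, s, e, z] jh_k jh_E1 jh_E2) {K : Subgroup G} (hK : ∀ x ∈ K, x ∈ cl [y, y⁻¹, a, h, s, e, z] ∧ x * x = 1 ∧ x * (h * a * y) * x * (h * a * y) = (h * a * y) * x * (h * a * y) * x) : Nat.card K ≤ 12 :=
  M.card_le (k := 7) rfl [([7, 7], []), ([7, 3, 2, 0, 7, 3, 2, 0], [3, 2, 0, 7, 3, 2, 0, 7])] [[], [6], [3, 0], [1, 2, 0], [6, 3, 0], [2, 3, 2], [6, 1, 2, 0], [6, 2, 3, 2], [1, 2, 3, 1, 2, 0], [0, 2, 3, 1, 2, 1], [6, 1, 2, 3, 1, 2, 0], [6, 0, 2, 3, 1, 2, 1]] (by decide +kernel) fun x hx => by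
    obtain ⟨hx, h0, h1⟩ := hK x hx
    exact ⟨hx, (by
      simp only [Sat, List.forall_mem_cons, List.not_mem_nil, IsEmpty.forall_iff, implies_true, and_true, ev_cons, ev_nil, List.cons_append, List.nil_append, List.getD_cons_succ, List.getD_cons_zero, mul_one]
      exact ⟨by simpa only [pow_succ, pow_zero, one_mul, mul_one, mul_assoc, mul_inv_rev, inv_inv] using h0, by simpa only [pow_succ, pow_zero, one_mul, mul_one, mul_assoc, mul_inv_rev, inv_inv] using h1⟩)⟩
theorem kh_cf2 {y a h s e z : G} (M : MK [y, y⁻¹, a, h, s, e, z] jh_k jh_E1 jh_E2) {K : Subgroup G} (hK : ∀ x ∈ K, x ∈ cl [y, y⁻¹, a, h, s, e, z] ∧ x * x = 1 ∧ x * (h * a * y) ^ 2 * x * (h * a * y) ^ 2 = (h * a * y) ^ 2 * x * (h * a * y) ^ 2 * x) : Nat.card K ≤ 12 :=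
  M.card_le (k := 7) rfl [([7, 7], []), ([7, 3, 2, 0, 3, 2, 0, 7, 3, 2, 0, 3, 2, 0], [3, 2, 0, 3, 2, 0, 7, 3, 2, 0, 3, 2, 0, 7])] [[], [6], [3, 0], [1, 2, 0], [6, 3, 0], [2, 3, 2], [6, 1, 2, 0], [6, 2, 3, 2], [1, 2, 3, 1, 2, 0], [0, 2, 3, 1, 2, 1], [6, 1, 2, 3, 1, 2, 0], [6, 0, 2, 3, 1, 2, 1]] (by decide +kernel) fun x hx => by
    obtain ⟨hx, h0, h1⟩ := hK x hx
    exact ⟨hx, (by
      simp only [Sat, List.forall_mem_cons, List.not_mem_nil, IsEmpty.forall_iff, implies_true, and_true, ev_cons, ev_nil, List.cons_append, List.nil_append, List.getD_cons_succ, List.getD_cons_zero, mul_one]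
      exact ⟨by simpa only [pow_succ, pow_zero, one_mul, mul_one, mul_assoc, mul_inv_rev, inv_inv] using h0, by simpa only [pow_succ, pow_zero, one_mul, mul_one, mul_assoc, mul_inv_rev, inv_inv] using h1⟩)⟩
end
end H2
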