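import Cfsg.Agent.H2.UL
import Cfsg.Agent.H2.UC
/-! Finite checks in the models of the involution centraliser of U4(3). -/
set_option maxRecDepth 100000
namespace H2
open H27 H28
noncomputable section
universe u
variable {G : Type*} [Group G]
theorem uq_of {z c k f g : G} (r0 : z * z = 1) (r1 : c * c = 1) (r2 : k * k = 1) (r3 : f * f = 1) (r4 : g * g = 1) (r5 : z * c * z * c = 1) (r6 : z * k * z * k = 1) (r7 : z * f * z * f = 1) (r8 : z * g * z * g = 1) (r9 : c * k * c * k * z = 1) (r10 : f * g * f * g * z = 1) (r11 : c * f * c * f = 1) (r12 : c * g * c * g = 1) (r13 : k * f * k * f = 1) (r14 : k * g * k * g = 1) :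
    Rels [z, c, k, f, g] uq_R := by
  simp only [Rels, uq_R, List.forall_mem_cons, List.not_mem_nil, IsEmpty.forall_iff, implies_true, and_true, ev_cons, ev_nil, List.cons_append, List.nil_append, List.getD_cons_succ, List.getD_cons_zero, mul_one]
  exact ⟨by simpa only [mul_assoc] using r0, by simpa only [mul_assoc] using r1, by simpa only [mul_assoc] using r2, by simpa only [mul_assoc] using r3, by simpa only [mul_assoc] using r4, by simpa only [mul_assoc] using r5, by simpa only [mul_assoc] using r6, by simpa only [mul_assoc] using r7, by simpa only [mul_assoc] using r8, by simpa only [mul_assoc] using r9, by simpa only [mul_assoc] using r10, by simpa only [mul_assoc] using r11, by simpa only [mul_assoc] using r12, by simpa only [mul_assoc] using r13, by simpa only [mul_assoc] using r14⟩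
theorem uq_get {z c k f g : G} (hr : Rels [z, c, k, f, g] uq_R) :
    z * z = 1 ∧ c * c = 1 ∧ k * k = 1 ∧ f * f = 1 ∧ g * g = 1 ∧ z * c * z * c = 1 ∧ z * k * z * k = 1 ∧ z * f * z * f = 1 ∧ z * g * z * g = 1 ∧ c * k * c * k * z = 1 ∧ f * g * f * g * z = 1 ∧ c * f * c * f = 1 ∧ c * g * c * g = 1 ∧ k * f * k * f = 1 ∧ k * g * k * g = 1 := by
  simpa only [Rels, uq_R, List.forall_mem_cons, List.not_mem_nil, IsEmpty.forall_iff, implies_true, and_true, true_and, mul_inv_cancel, inv_mul_cancel, inv_mul_cancel_left, mul_inv_cancel_left, ev_cons, ev_nil, List.cons_append, List.nil_append, List.getD_cons_succ, List.getD_cons_zero, mul_one, mul_assoc] using hr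
theorem uk_of {z c k f g v w : G} (hb : Rels [z, c, k, f, g] uq_R) (r0 : v * v * v = 1) (r1 : w * w * w = 1) (r2 : v⁻¹ * w⁻¹ * v * w = 1) (r3 : v⁻¹ * z * v * z = 1) (r4 : w⁻¹ * z * w * z = 1) (r5 : v * c * v⁻¹ * f = 1) (r6 : v * k * v⁻¹ * k * g * z = 1) (r7 : v * f * v⁻¹ * c * f * z = 1) (r8 : v * g * v⁻¹ * k = 1) (r9 : w * c * w⁻¹ * c * g = 1) (r10 : w * k * w⁻¹ * f = 1) (r11 : w * f * w⁻¹ * k * f = 1) (r12 : w * g * w⁻¹ * c = 1) :
    Rels [z, c, k, f, g, v, v⁻¹, w, w⁻¹] uk_R := by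
  refine Rels.append (A := uq_R) (B := [[5, 6], [7, 8], [6, 5], [8, 7], [5, 5, 5], [7, 7, 7], [6, 8, 5, 7], [6, 0, 5, 0], [8, 0, 7, 0], [5, 1, 6, 3], [5, 2, 6, 2, 4, 0], [5, 3, 6, 1, 3, 0], [5, 4, 6, 2], [7, 1, 8, 1, 4], [7, 2, 8, 3], [7, 3, 8, 2, 3], [7, 4, 8, 1]]) ((rels_append_left (xs := [z, c, k, f, g]) (zs := [v, v⁻¹, w, w⁻¹]) (rng_iff.1 (by decide +kernel : rng 5 uq_R = true))).2 hb) ?_
  simp only [Rels, List.forall_mem_cons, List.not_mem_nil, IsEmpty.forall_iff, implies_true, and_true, ev_cons, ev_nil, List.cons_append, List.nil_append, List.getD_cons_succ, List.getD_cons_zero, mul_one]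
  exact ⟨by simp, by simp, by simp, by simp, by simpa only [mul_assoc] using r0, by simpa only [mul_assoc] using r1, by simpa only [mul_assoc] using r2, by simpa only [mul_assoc] using r3, by simpa only [mul_assoc] using r4, by simpa only [mul_assoc] using r5, by simpa only [mul_assoc] using r6, by simpa only [mul_assoc] using r7, by simpa only [mul_assoc] using r8, by simpa only [mul_assoc] using r9, by simpa only [mul_assoc] using r10, by simpa only [mul_assoc] using r11, by simpa only [mul_assoc] using r12⟩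
theorem uk_get {z c k f g v w : G} (hr : Rels [z, c, k, f, g, v, v⁻¹, w, w⁻¹] uk_R) :
    z * z = 1 ∧ c * c = 1 ∧ k * k = 1 ∧ f * f = 1 ∧ g * g = 1 ∧ z * c * z * c = 1 ∧ z * k * z * k = 1 ∧ z * f * z * f = 1 ∧ z * g * z * g = 1 ∧ c * k * c * k * z = 1 ∧ f * g * f * g * z = 1 ∧ c * f * c * f = 1 ∧ c * g * c * g = 1 ∧ k * f * k * f = 1 ∧ k * g * k * g = 1 ∧ v * v * v = 1 ∧ w * w * w = 1 ∧ v⁻¹ * w⁻¹ * v * w = 1 ∧ v⁻¹ * z * v * z = 1 ∧ w⁻¹ * z * w * z = 1 ∧ v * c * v⁻¹ * f = 1 ∧ v * k * v⁻¹ * k * g * z = 1 ∧ v * f * v⁻¹ * c * f * z = 1 ∧ v * g * v⁻¹ * k = 1 ∧ w * c * w⁻¹ * c * g = 1 ∧ w * k * w⁻¹ * f = 1 ∧ w * f * w⁻¹ * k * f = 1 ∧ w * g * w⁻¹ * c = 1 := by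
  simpa only [Rels, uk_R, List.forall_mem_cons, List.not_mem_nil, IsEmpty.forall_iff, implies_true, and_true, true_and, mul_inv_cancel, inv_mul_cancel, inv_mul_cancel_left, mul_inv_cancel_left, ev_cons, ev_nil, List.cons_append, List.nil_append, List.getD_cons_succ, List.getD_cons_zero, mul_one, mul_assoc] using hr
theorem uh_of {z c k f g v w m n : G} (hb : Rels [z, c, k, f, g, v, v⁻¹, w, w⁻¹] uk_R) (r0 : m * m = 1) (r1 : n * n = 1) (r2 : m * z * m * z = 1) (r3 : m * c * m * c = 1) (r4 : m * f * m * f = 1) (r5 : m * k * m * k * f * z = 1) (r6 : m * g * m * c * g = 1) (r7 : n * z * n * z = 1) (r8 : n * k * n * k = 1) (r9 : n * f * n * f = 1) (r10 : n * c * n * c * f * z = 1) (r11 : n * g * n * k * g = 1) (r12 : m * n * m * n * f = 1) (r13 : m * v * m * v⁻¹ * c * f = 1) (r14 : m * w * m * g * w = 1) (r15 : n * v * n * v * c * f = 1) (r16 : n * w * n * w⁻¹ * k = 1) :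
    Rels [z, c, k, f, g, v, v⁻¹, w, w⁻¹, m, n] uh_R := by
  refine Rels.append (A := uk_R) (B := [[9, 9], [10, 10], [9, 0, 9, 0], [9, 1, 9, 1], [9, 3, 9, 3], [9, 2, 9, 2, 3, 0], [9, 4, 9, 1, 4], [10, 0, 10, 0], [10, 2, 10, 2], [10, 3, 10, 3], [10, 1, 10, 1, 3, 0], [10, 4, 10, 2, 4], [9, 10, 9, 10, 3], [9, 5, 9, 6, 1, 3], [9, 7, 9, 4, 7], [10, 5, 10, 5, 1, 3], [10, 7, 10, 8, 2]]) ((rels_append_left (xs := [z, c, k, f, g, v, v⁻¹, w, w⁻¹]) (zs := [m, n]) (rng_iff.1 (by decide +kernel : rng 9 uk_R = true))).2 hb) ?_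
  simp only [Rels, List.forall_mem_cons, List.not_mem_nil, IsEmpty.forall_iff, implies_true, and_true, ev_cons, ev_nil, List.cons_append, List.nil_append, List.getD_cons_succ, List.getD_cons_zero, mul_one]
  exact ⟨by simpa only [mul_assoc] using r0, by simpa only [mul_assoc] using r1, by simpa only [mul_assoc] using r2, by simpa only [mul_assoc] using r3, by simpa only [mul_assoc] using r4, by simpa only [mul_assoc] using r5, by simpa only [mul_assoc] using r6, by simpa only [mul_assoc] using r7, by simpa only [mul_assoc] using r8, by simpa only [mul_assoc] using r9, by simpa only [mul_assoc] using r10, by simpa only [mul_assoc] using r11, by simpa only [mul_assoc] using r12, by simpa only [mul_assoc] using r13, by simpa only [mul_assoc] using r14, by simpa only [mul_assoc] using r15, by simpa only [mul_assoc] using r16⟩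
theorem uu_of {z c k f g v w m n r : G} (hb : Rels [z, c, k, f, g, v, v⁻¹, w, w⁻¹, m, n] uh_R) (r0 : r * r = 1) (r1 : r * f * r * f = 1) (r2 : r * m * r * m = 1) (r3 : r * n * r * n = 1) (r4 : r * z * r * f * z = 1) (r5 : r * c * r * m * c = 1) (r6 : r * k * r * n * k = 1) (r7 : g * r * g * r * g * r = 1) (r8 : r * v * r * v * r * v * r * v * r * v = 1) (r9 : k * v * r * v * r * k * v * r * v * r * k * v * r * v * r * k * v * r * v * r * k * v * r * v * r = 1) (r10 : c * w * r * c * w * r * c * w * r * c * w * r * c * w * r = 1) (r11 : c * w * r * w * r * c * w * r * w * r * c * w * r * w * r * c * w * r * w * r * c * w * r * w * r = 1) (r12 : w⁻¹ * k * r * v * r * k * w⁻¹ * k * r * v⁻¹ * r * k * w * k * r * v * r * k * w * k * r * v⁻¹ * r * k = 1) :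
    Rels [z, c, k, f, g, v, v⁻¹, w, w⁻¹, m, n, r] uu_R := by
  refine Rels.append (A := uh_R) (B := [[11, 11], [11, 3, 11, 3], [11, 9, 11, 9], [11, 10, 11, 10], [11, 0, 11, 3, 0], [11, 1, 11, 9, 1], [11, 2, 11, 10, 2], [4, 11, 4, 11, 4, 11], [11, 5, 11, 5, 11, 5, 11, 5, 11, 5], [2, 5, 11, 5, 11, 2, 5, 11, 5, 11, 2, 5, 11, 5, 11, 2, 5, 11, 5, 11, 2, 5, 11, 5, 11], [1, 7, 11, 1, 7, 11, 1, 7, 11, 1, 7, 11, 1, 7, 11], [1, 7, 11, 7, 11, 1, 7, 11, 7, 11, 1, 7, 11, 7, 11, 1, 7, 11, 7, 11, 1, 7, 11, 7, 11], [8, 2, 11, 5, 11, 2, 8, 2, 11, 6, 11, 2, 7, 2, 11, 5, 11, 2, 7, 2, 11, 6, 11, 2]]) ((rels_append_left (xs := [z, c, k, f, g, v, v⁻¹, w, w⁻¹, m, n]) (zs := [r]) (rng_iff.1 (by decide +kernel : rng 11 uh_R = true))).2 hb) ?_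
  simp only [Rels, List.forall_mem_cons, List.not_mem_nil, IsEmpty.forall_iff, implies_true, and_true, ev_cons, ev_nil, List.cons_append, List.nil_append, List.getD_cons_succ, List.getD_cons_zero, mul_one]
  exact ⟨by simpa only [mul_assoc] using r0, by simpa only [mul_assoc] using r1, by simpa only [mul_assoc] using r2, by simpa only [mul_assoc] using r3, by simpa only [mul_assoc] using r4, by simpa only [mul_assoc] using r5, by simpa only [mul_assoc] using r6, by simpa only [mul_assoc] using r7, by simpa only [mul_assoc] using r8, by simpa only [mul_assoc] using r9, by simpa only [mul_assoc] using r10, by simpa only [mul_assoc] using r11, by simpa only [mul_assoc] using r12⟩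
theorem um_of {z c k f g v m n r : G} (r0 : z * z = 1) (r1 : c * c = 1) (r2 : k * k = 1) (r3 : f * f = 1) (r4 : g * g = 1) (r5 : z * c * z * c = 1) (r6 : z * k * z * k = 1) (r7 : z * f * z * f = 1) (r8 : z * g * z * g = 1) (r9 : c * k * c * k * z = 1) (r10 : f * g * f * g * z = 1) (r11 : c * f * c * f = 1) (r12 : c * g * c * g = 1) (r13 : k * f * k * f = 1) (r14 : k * g * k * g = 1) (r15 : v * v * v = 1) (r16 : v⁻¹ * z * v * z = 1) (r17 : v * c * v⁻¹ * f = 1) (r18 : v * k * v⁻¹ * k * g * z = 1) (r19 : v * f * v⁻¹ * c * f * z = 1) (r20 : v * g * v⁻¹ * k = 1) (r21 : m * m = 1) (r22 : n * n = 1) (r23 : m * z * m * z = 1) (r24 : m * c * m * c = 1) (r25 : m * f * m * f = 1) (r26 : m * k * m * k * f * z = 1) (r27 : m * g * m * c * g = 1) (r28 : n * z * n * z = 1) (r29 : n * k * n * k = 1) (r30 : n * f * n * f = 1) (r31 : n * c * n * c * f * z = 1) (r32 : n * g * n * k * g = 1) (r33 : m * n * m * n * f = 1) (r34 : m * v * m * v⁻¹ * c * f = 1)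 (r35 : n * v * n * v * c * f = 1) (r36 : r * r = 1) (r37 : r * f * r * f = 1) (r38 : r * m * r * m = 1) (r39 : r * n * r * n = 1) (r40 : r * z * r * f * z = 1) (r41 : r * c * r * m * c = 1) (r42 : r * k * r * n * k = 1) (r43 : g * r * g * r * g * r = 1) (r44 : r * v * r * v * r * v * r * v * r * v = 1) (r45 : k * v * r * v * r * k * v * r * v * r * k * v * r * v * r * k * v * r * v * r * k * v * r * v * r = 1) :
    Rels [z, c, k, f, g, v, v⁻¹, m, n, r] um_R := by
  simp only [Rels, um_R, List.forall_mem_cons, List.not_mem_nil, IsEmpty.forall_iff, implies_true, and_true, ev_cons, ev_nil, List.cons_append, List.nil_append, List.getD_cons_succ, List.getD_cons_zero, mul_one]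
  exact ⟨by simpa only [mul_assoc] using r0, by simpa only [mul_assoc] using r1, by simpa only [mul_assoc] using r2, by simpa only [mul_assoc] using r3, by simpa only [mul_assoc] using r4, by simpa only [mul_assoc] using r5, by simpa only [mul_assoc] using r6, by simpa only [mul_assoc] using r7, by simpa only [mul_assoc] using r8, by simpa only [mul_assoc] using r9, by simpa only [mul_assoc] using r10, by simpa only [mul_assoc] using r11, by simpa only [mul_assoc] using r12, by simpa only [mul_assoc] using r13, by simpa only [mul_assoc] using r14, by simp, by simp, by simpa only [mul_assoc] using r15, by simpa only [mul_assoc] using r16, by simpa only [mul_assoc] using r17, by simpa only [mul_assoc] using r18, by simpa only [mul_assoc] using r19, by simpa only [mul_assoc] using r20, by simpa only [mul_assoc] using r21, by simpa only [mul_assoc] using r22, by simpa only [mul_assoc] using r23, by simpa only [mul_assoc] using r24, by simpa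 only [mul_assoc] using r25, by simpa only [mul_assoc] using r26, by simpa only [mul_assoc] using r27, by simpa only [mul_assoc] using r28, by simpa only [mul_assoc] using r29, by simpa only [mul_assoc] using r30, by simpa only [mul_assoc] using r31, by simpa only [mul_assoc] using r32, by simpa only [mul_assoc] using r33, by simpa only [mul_assoc] using r34, by simpa only [mul_assoc] using r35, by simpa only [mul_assoc] using r36, by simpa only [mul_assoc] using r37, by simpa only [mul_assoc] using r38, by simpa only [mul_assoc] using r39, by simpa only [mul_assoc] using r40, by simpa only [mul_assoc] using r41, by simpa only [mul_assoc] using r42, by simpa only [mul_assoc] using r43, by simpa only [mul_assoc] using r44, by simpa only [mul_assoc] using r45⟩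
theorem uh_get {z c k f g v w m n : G} (hr : Rels [z, c, k, f, g, v, v⁻¹, w, w⁻¹, m, n] uh_R) :
    z * z = 1 ∧ c * c = 1 ∧ k * k = 1 ∧ f * f = 1 ∧ g * g = 1 ∧ z * c * z * c = 1 ∧ z * k * z * k = 1 ∧ z * f * z * f = 1 ∧ z * g * z * g = 1 ∧ c * k * c * k * z = 1 ∧ f * g * f * g * z = 1 ∧ c * f * c * f = 1 ∧ c * g * c * g = 1 ∧ k * f * k * f = 1 ∧ k * g * k * g = 1 ∧ v * v * v = 1 ∧ w * w * w = 1 ∧ v⁻¹ * w⁻¹ * v * w = 1 ∧ v⁻¹ * z * v * z = 1 ∧ w⁻¹ * z * w * z = 1 ∧ v * c * v⁻¹ * f = 1 ∧ v * k * v⁻¹ * k * g * z = 1 ∧ v * f * v⁻¹ * c * f * z = 1 ∧ v * g * v⁻¹ * k = 1 ∧ w * c * w⁻¹ * c * g = 1 ∧ w * k * w⁻¹ * f = 1 ∧ w * f * w⁻¹ * k * f = 1 ∧ w * g * w⁻¹ * c = 1 ∧ m * m = 1 ∧ n * n = 1 ∧ m * z * m * z = 1 ∧ m * c * m * c = 1 ∧ m * f * m * f = 1 ∧ m * k * m * k * f * z = 1 ∧ m * g * m * c * g = 1 ∧ n * z * n * z = 1 ∧ n * k * n * k = 1 ∧ n * f * n * f = 1 ∧ n * c * n * c * f * z = 1 ∧ n * g * n * k * g = 1 ∧ m * n * m * n * f = 1 ∧ m * v * m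 * v⁻¹ * c * f = 1 ∧ m * w * m * g * w = 1 ∧ n * v * n * v * c * f = 1 ∧ n * w * n * w⁻¹ * k = 1 := by
  simpa only [Rels, uh_R, List.forall_mem_cons, List.not_mem_nil, IsEmpty.forall_iff, implies_true, and_true, true_and, mul_inv_cancel, inv_mul_cancel, inv_mul_cancel_left, mul_inv_cancel_left, ev_cons, ev_nil, List.cons_append, List.nil_append, List.getD_cons_succ, List.getD_cons_zero, mul_one, mul_assoc] using hr
theorem uq_new {G : Type u} [Group G] {z c k f g : G} (hr : Rels [z, c, k, f, g] uq_R) (hz : z ≠ 1) :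
    MK [z, c, k, f, g] uq_k uq_E1 uq_E2 ∧ Nat.card (cl [z, c, k, f, g]) = 32 :=
  haveI := uq_bd.1
  uq_mk.2 ▸ uq_mk.1.of_z uq_univ (k := 5) rfl rfl hr [([0], [5]), ([5, 1, 0], [1, 5]), ([5, 2, 0], [2, 5]), ([5, 3, 0], [3, 5]), ([5, 4, 0], [4, 5])] [0] (by decide +kernel) (by simpa only [ev_cons, ev_nil, List.cons_append, List.nil_append, List.getD_cons_succ, List.getD_cons_zero, mul_one] using hz)
theorem uk_new {G : Type u} [Group G] {z c k f g v w : G} (hr : Rels [z, c, k, f, g, v, v⁻¹, w, w⁻¹] uk_R) (hb : MK [z, c, k, f, g] uq_k uq_E1 uq_E2) :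
    MK [z, c, k, f, g, v, v⁻¹, w, w⁻¹] uk_k uk_E1 uk_E2 ∧ Nat.card (cl [z, c, k, f, g, v, v⁻¹, w, w⁻¹]) = 288 :=
  haveI := uk_bd.1
  uk_mk.2 ▸ uk_mk.1.of_pre uk_univ [v, v⁻¹, w, w⁻¹] (k := 9) (k' := 5) rfl rfl hr hb rfl [([9, 1], [1, 0, 9]), ([9, 1], [3, 9]), ([9, 1], [3, 1, 0, 9]), ([9, 1], [4, 1, 9]), ([9, 1], [4, 9]), ([9, 1], [3, 0, 9]), ([9, 1], [3, 1, 9]), ([9, 1], [4, 1, 0, 9]), ([9, 1], [4, 0, 9]), ([9, 1], [3, 2, 9]), ([9, 1], [2, 9]), ([9, 1], [4, 3, 2, 1, 9]), ([9, 1], [4, 2, 0, 9]), ([9, 1], [3, 2, 0, 9]), ([9, 1], [2, 0, 9]), ([9, 1], [3, 4, 2, 1, 9]), ([9, 1], [4, 2, 9]), ([9, 2], [2, 0, 9]), ([9, 3], [3, 0, 9]), ([9, 4], [4, 0, 9]), ([9], [0])] (by decide +kernel)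
theorem uh_new {G : Type u} [Group G] {z c k f g v w m n : G} (hr : Rels [z, c, k, f, g, v, v⁻¹, w, w⁻¹, m, n] uh_R) (hb : MK [z, c, k, f, g] uq_k uq_E1 uq_E2) :
    MK [z, c, k, f, g, v, v⁻¹, w, w⁻¹, m, n] uh_k uh_E1 uh_E2 ∧ Nat.card (cl [z, c, k, f, g, v, v⁻¹, w, w⁻¹, m, n]) = 1152 :=
  haveI := uh_bd.1
  uh_mk.2 ▸ uh_mk.1.of_pre uh_univ [v, v⁻¹, w, w⁻¹, m, n] (k := 11) (k' := 5) rfl rfl hr hb rfl [([11, 1], [1, 0, 11]), ([11, 1], [3, 11]), ([11, 1], [3, 1, 0, 11]), ([11, 1], [4, 1, 11]), ([11, 1], [4, 11]), ([11, 1], [3, 0, 11]), ([11, 1], [3, 1, 11]), ([11, 1], [4, 1, 0, 11]), ([11, 1], [4, 0, 11]), ([11, 1], [3, 2, 11]), ([11, 1], [2, 11]), ([11, 1], [4, 3, 2, 1, 11]), ([11, 1], [4, 2, 0, 11]), ([11, 1], [3, 4, 2, 1, 11]), ([11, 1], [4, 2, 11]), ([11, 1], [3, 2, 0, 11]), ([11, 1], [2, 0, 11]), ([11, 2], [2, 0, 11]), ([11, 2], [3, 2, 0, 11]), ([11, 2], [3, 2, 11]), ([11, 2], [4, 2, 11]), ([11, 2], [4, 2, 0, 11]), ([11, 2], [3, 4, 2,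 1, 11]), ([11, 2], [4, 3, 2, 1, 11]), ([11, 3], [3, 0, 11]), ([11, 4], [4, 0, 11]), ([11], [0])] (by decide +kernel)
theorem uk_inv {z c k f g v w : G} (M : MK [z, c, k, f, g, v, v⁻¹, w, w⁻¹] uk_k uk_E1 uk_E2) {x : G} (hx : x ∈ cl [z, c, k, f, g, v, v⁻¹, w, w⁻¹]) (h0 : x * x = 1) :
    ∃ cc ∈ cl [z, c, k, f, g, v, v⁻¹, w, w⁻¹], (x = 1 ∨ x = cc * z * cc⁻¹ ∨ x = cc * f * cc⁻¹) := by
  obtain ⟨cc, hc, hD, hr⟩ := M.cj (k := 9) rfl [([9, 9], [])] [] [[], [0], [3]] [([], [], 0), ([], [], 1), ([6], [5], 2), ([8], [7], 2), ([], [], 2), ([8, 6], [5, 7], 2), ([6, 4], [4, 5], 2), ([8, 4], [4, 7], 2), ([4], [4], 2), ([8, 6, 4], [4, 5, 7], 2), ([5, 4], [4, 6], 2), ([7, 6], [5, 8], 2), ([7], [8], 2), ([8, 5, 4], [4, 6, 7], 2), ([5], [6], 2), ([7, 6, 4], [4, 5, 8], 2), ([7, 4], [4, 8], 2), ([8, 5], [6, 7], 2), ([7, 5], [6, 8], 2), ([7, 5, 4], [4, 6, 8], 2)] (by decide +kernel) hx (by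
    simp only [Sat, List.forall_mem_cons, List.not_mem_nil, IsEmpty.forall_iff, implies_true, and_true, ev_cons, ev_nil, List.cons_append, List.nil_append, List.getD_cons_succ, List.getD_cons_zero, mul_one]
    exact by simpa only [pow_succ, pow_zero, one_mul, mul_one, mul_assoc, mul_inv_rev, inv_inv] using h0)
  exact ⟨cc, hc, by simpa only [List.mem_cons, List.not_mem_nil, or_false, exists_eq_or_imp, exists_eq_left, mul_inv_cancel, ev_cons, ev_nil, List.cons_append, List.nil_append, List.getD_cons_succ, List.getD_cons_zero, mul_one, pow_succ, pow_zero, one_mul, mul_one, mul_assoc, mul_inv_rev, inv_inv] using hr⟩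
theorem uh_inv {z c k f g v w m n : G} (M : MK [z, c, k, f, g, v, v⁻¹, w, w⁻¹, m, n] uh_k uh_E1 uh_E2) {x : G} (hx : x ∈ cl [z, c, k, f, g, v, v⁻¹, w, w⁻¹, m, n]) (h0 : x * x = 1) :
    ∃ cc ∈ cl [z, c, k, f, g, v, v⁻¹, w, w⁻¹, m, n], (x = 1 ∨ x = cc * z * cc⁻¹ ∨ x = cc * f * cc⁻¹ ∨ x = cc * (c * m) * cc⁻¹ ∨ x = cc * (k * n) * cc⁻¹) := by
  obtain ⟨cc, hc, hD, hr⟩ := M.cj (k := 11) rfl [([11, 11], [])] [] [[], [0], [3], [1, 9], [2, 10]] [([], [], 0), ([], [], 1), ([6], [5], 2), ([8], [7], 2), ([], [], 2), ([8, 6], [5, 7], 2), ([4], [4], 3), ([4], [4], 4), ([6, 4], [4, 5], 2), ([8, 4], [4, 7], 2), ([4], [4], 2), ([8, 6, 4], [4, 5, 7], 2), ([4, 10], [10, 4], 3), ([4, 9], [9, 4], 4), ([5, 4], [4, 6], 2), ([7, 6], [5, 8], 2), ([], [], 3), ([7], [8], 2), ([8, 5, 4], [4, 6, 7], 2), ([], [], 4), ([10, 4], [4, 10], 3), ([9, 4], [4, 9], 4), ([5], [6], 2), ([7, 6, 4], [4, 5, 8], 2), ([10], [10], 3), ([7, 4], [4, 8], 2), ([8, 5], [6, 7], 2), ([9],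 [9], 4), ([4, 2], [2, 4], 3), ([4, 1], [1, 4], 4), ([2], [2], 3), ([9, 5, 4], [4, 6, 9], 4), ([7, 4], [4, 8], 3), ([8, 4], [4, 7], 3), ([8], [7], 3), ([7], [8], 3), ([2, 9, 5], [6, 9, 2], 4), ([1], [1], 4), ([9, 6, 4], [4, 5, 9], 4), ([6, 9, 4], [4, 9, 5], 4), ([6, 4], [4, 5], 4), ([5, 4], [4, 6], 4), ([10, 2], [2, 10], 3), ([5, 4, 1], [1, 4, 6], 4), ([10, 7, 4], [4, 8, 10], 3), ([10, 8, 4], [4, 7, 10], 3), ([8, 10], [10, 7], 3), ([7, 10], [10, 8], 3), ([9, 1], [1, 9], 4), ([6, 4, 1], [1, 4, 5], 4), ([7, 5], [6, 8], 2), ([7, 5, 4], [4, 6, 8], 2), ([8, 4, 2], [2, 4, 7], 3), ([10, 8], [7, 10], 3), ([9, 5, 1], [1, 6, 9], 4), ([7, 4, 2], [2, 4, 8], 3), ([8, 10, 4], [4, 10, 7], 3), ([7, 2], [2, 8], 3), ([8, 2], [2, 7], 3), ([9, 5], [6, 9], 4), ([6], [5], 4), ([9, 6], [5, 9], 4), ([5], [6], 4), ([6, 9], [9, 5], 4), ([5, 1], [1, 6], 4), ([6, 1], [1, 5], 4), ([10, 7], [8, 10], 3), ([7, 10, 4], [4, 10, 8], 3)] (by decide +kernel) hx (by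
    simp only [Sat, List.forall_mem_cons, List.not_mem_nil, IsEmpty.forall_iff, implies_true, and_true, ev_cons, ev_nil, List.cons_append, List.nil_append, List.getD_cons_succ, List.getD_cons_zero, mul_one]
    exact by simpa only [pow_succ, pow_zero, one_mul, mul_one, mul_assoc, mul_inv_rev, inv_inv] using h0)
  exact ⟨cc, hc, by simpa only [List.mem_cons, List.not_mem_nil, or_false, exists_eq_or_imp, exists_eq_left, mul_inv_cancel, ev_cons, ev_nil, List.cons_append, List.nil_append, List.getD_cons_succ, List.getD_cons_zero, mul_one, pow_succ, pow_zero, one_mul, mul_one, mul_assoc, mul_inv_rev, inv_inv] using hr⟩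
theorem uq_c {z c k f g : G} (M : MK [z, c, k, f, g] uq_k uq_E1 uq_E2) {x : G} (hx : x ∈ cl [z, c, k, f, g]) (h0 : x * x = 1) (h1 : x * c = c * x) (h2 : x * (k * f) = (k * f) * x) (h3 : (f * x) ^ 2 = z) :
    x = g * c ∨ x = g * c * z := by
  have := M.sol (k := 5) rfl [([5, 5], []), ([5, 1], [1, 5]), ([5, 2, 3], [2, 3, 5]), ([3, 5, 3, 5], [0])] [[4, 1], [4, 1, 0]] (by decide +kernel) hx (by
    simp only [Sat, List.forall_mem_cons, List.not_mem_nil, IsEmpty.forall_iff, implies_true, and_true, ev_cons, ev_nil, List.cons_append, List.nil_append, List.getD_cons_succ, List.getD_cons_zero, mul_one]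
    exact ⟨by simpa only [pow_succ, pow_zero, one_mul, mul_one, mul_assoc, mul_inv_rev, inv_inv] using h0, by simpa only [pow_succ, pow_zero, one_mul, mul_one, mul_assoc, mul_inv_rev, inv_inv] using h1, by simpa only [pow_succ, pow_zero, one_mul, mul_one, mul_assoc, mul_inv_rev, inv_inv] using h2, by simpa only [pow_succ, pow_zero, one_mul, mul_one, mul_assoc, mul_inv_rev, inv_inv] using h3⟩)
  simpa only [List.mem_cons, List.not_mem_nil, or_false, false_and, exists_false, exists_eq_or_imp, exists_eq_left, ev_cons, ev_nil, List.cons_append, List.nil_append, List.getD_cons_succ, List.getD_cons_zero, mul_one, pow_succ, pow_zero, one_mul, mul_one, mul_assoc, mul_inv_rev, inv_inv] using this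
theorem uq_k' {z c k f g : G} (M : MK [z, c, k, f, g] uq_k uq_E1 uq_E2) {x : G} (hx : x ∈ cl [z, c, k, f, g]) (h0 : x * x = 1) (h1 : x * (c * f) = (c * f) * x) (h2 : x * k = k * x) (h3 : (f * x) ^ 2 = z) :
    x = g * k ∨ x = g * k * z := by
  have := M.sol (k := 5) rfl [([5, 5], []), ([5, 1, 3], [1, 3, 5]), ([5, 2], [2, 5]), ([3, 5, 3, 5], [0])] [[4, 2], [4, 2, 0]] (by decide +kernel) hx (by
    simp only [Sat, List.forall_mem_cons, List.not_mem_nil, IsEmpty.forall_iff, implies_true, and_true, ev_cons, ev_nil, List.cons_append, List.nil_append, List.getD_cons_succ, List.getD_cons_zero, mul_one]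
    exact ⟨by simpa only [pow_succ, pow_zero, one_mul, mul_one, mul_assoc, mul_inv_rev, inv_inv] using h0, by simpa only [pow_succ, pow_zero, one_mul, mul_one, mul_assoc, mul_inv_rev, inv_inv] using h1, by simpa only [pow_succ, pow_zero, one_mul, mul_one, mul_assoc, mul_inv_rev, inv_inv] using h2, by simpa only [pow_succ, pow_zero, one_mul, mul_one, mul_assoc, mul_inv_rev, inv_inv] using h3⟩)
  simpa only [List.mem_cons, List.not_mem_nil, or_false, false_and, exists_false, exists_eq_or_imp, exists_eq_left, ev_cons, ev_nil, List.cons_append, List.nil_append, List.getD_cons_succ, List.getD_cons_zero, mul_one, pow_succ, pow_zero, one_mul, mul_one, mul_assoc, mul_inv_rev, inv_inv] using this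
theorem uq_ck {z c k f g : G} (M : MK [z, c, k, f, g] uq_k uq_E1 uq_E2) {x : G} (hx : x ∈ cl [z, c, k, f, g]) (h0 : x * x = 1) (h1 : x * (c * f) = (c * f) * x) (h2 : x * (k * f) = (k * f) * x) (h3 : (f * x) ^ 2 = z) :
    x = g * (c * k * f) ∨ x = g * (c * k * f) * z := by
  have := M.sol (k := 5) rfl [([5, 5], []), ([5, 1, 3], [1, 3, 5]), ([5, 2, 3], [2, 3, 5]), ([3, 5, 3, 5], [0])] [[4, 1, 2, 3], [4, 1, 2, 3, 0]] (by decide +kernel) hx (by
    simp only [Sat, List.forall_mem_cons, List.not_mem_nil, IsEmpty.forall_iff, implies_true, and_true, ev_cons, ev_nil, List.cons_append, List.nil_append, List.getD_cons_succ, List.getD_cons_zero, mul_one]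
    exact ⟨by simpa only [pow_succ, pow_zero, one_mul, mul_one, mul_assoc, mul_inv_rev, inv_inv] using h0, by simpa only [pow_succ, pow_zero, one_mul, mul_one, mul_assoc, mul_inv_rev, inv_inv] using h1, by simpa only [pow_succ, pow_zero, one_mul, mul_one, mul_assoc, mul_inv_rev, inv_inv] using h2, by simpa only [pow_succ, pow_zero, one_mul, mul_one, mul_assoc, mul_inv_rev, inv_inv] using h3⟩)
  simpa only [List.mem_cons, List.not_mem_nil, or_false, false_and, exists_false, exists_eq_or_imp, exists_eq_left, ev_cons, ev_nil, List.cons_append, List.nil_append, List.getD_cons_succ, List.getD_cons_zero, mul_one, pow_succ, pow_zero, one_mul, mul_one, mul_assoc, mul_inv_rev, inv_inv] using this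
theorem uq_cf {z c k f g : G} (M : MK [z, c, k, f, g] uq_k uq_E1 uq_E2) {x : G} (hx : x ∈ cl [z, c, k, f, g]) (h0 : x * f = f * x) {K : Subgroup G} (k0 : z ∈ K) (k1 : c ∈ K) (k2 : k ∈ K) (k3 : f ∈ K) : x ∈ K :=
  M.solS (k := 5) rfl [([5, 3], [3, 5])] [[], [0], [1], [2], [3], [1, 0], [2, 0], [3, 0], [2, 1], [3, 1], [1, 2], [3, 2], [3, 1, 0], [3, 2, 0], [3, 2, 1], [3, 1, 2]] [0, 1, 2, 3] (by decide +kernel) (by
    simp only [List.forall_mem_cons, List.not_mem_nil, IsEmpty.forall_iff, implies_true, and_true, List.getD_cons_succ, List.getD_cons_zero]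
    exact ⟨k0, k1, k2, k3⟩) hx (by
    simp only [Sat, List.forall_mem_cons, List.not_mem_nil, IsEmpty.forall_iff, implies_true, and_true, ev_cons, ev_nil, List.cons_append, List.nil_append, List.getD_cons_succ, List.getD_cons_zero, mul_one]
    exact by simpa only [pow_succ, pow_zero, one_mul, mul_one, mul_assoc, mul_inv_rev, inv_inv] using h0)
theorem uq_4 {z c k f g : G} (M : MK [z, c, k, f, g] uq_k uq_E1 uq_E2) {K : Subgroup G} [Finite K] (k0 : z ∈ K) (k1 : f ∈ K) : 4 ≤ Nat.card K :=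
  M.le_card (k := 5) rfl [[], [0], [3], [3, 0]] [[]] [0, 3] (by decide +kernel) (by
    simp only [List.forall_mem_cons, List.not_mem_nil, IsEmpty.forall_iff, implies_true, and_true, List.getD_cons_succ, List.getD_cons_zero]
    exact ⟨k0, k1⟩)
theorem uq_n1 {z c k f g : G} (M : MK [z, c, k, f, g] uq_k uq_E1 uq_E2) :
    c * (c * z) ≠ 1 := by
  have := M.ne' (k := 5) rfl [1, 1, 0] [] (by decide +kernel)
  simpa only [ev_cons, ev_nil, List.cons_append, List.nil_append, List.getD_cons_succ, List.getD_cons_zero, mul_one, pow_succ, pow_zero, one_mul, mul_one, mul_assoc, mul_inv_rev, inv_inv] using this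
theorem uq_n2 {z c k f g : G} (M : MK [z, c, k, f, g] uq_k uq_E1 uq_E2) :
    k * (k * z) ≠ 1 := by
  have := M.ne' (k := 5) rfl [2, 2, 0] [] (by decide +kernel)
  simpa only [ev_cons, ev_nil, List.cons_append, List.nil_append, List.getD_cons_succ, List.getD_cons_zero, mul_one, pow_succ, pow_zero, one_mul, mul_one, mul_assoc, mul_inv_rev, inv_inv] using this
theorem uq_n3 {z c k f g : G} (M : MK [z, c, k, f, g] uq_k uq_E1 uq_E2) :
    (c * k * f) * (c * (f * z) * (k * (f * z)) * f) ≠ 1 := by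
  have := M.ne' (k := 5) rfl [1, 2, 3, 1, 3, 0, 2, 3, 0, 3] [] (by decide +kernel)
  simpa only [ev_cons, ev_nil, List.cons_append, List.nil_append, List.getD_cons_succ, List.getD_cons_zero, mul_one, pow_succ, pow_zero, one_mul, mul_one, mul_assoc, mul_inv_rev, inv_inv] using this
theorem uq_n4 {z c k f g : G} (M : MK [z, c, k, f, g] uq_k uq_E1 uq_E2) :
    f ≠ z := by
  have := M.ne' (k := 5) rfl [3] [0] (by decide +kernel)
  simpa only [ev_cons, ev_nil, List.cons_append, List.nil_append, List.getD_cons_succ, List.getD_cons_zero, mul_one, pow_succ, pow_zero, one_mul, mul_one, mul_assoc, mul_inv_rev, inv_inv] using this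
theorem uq_n5 {z c k f g : G} (M : MK [z, c, k, f, g] uq_k uq_E1 uq_E2) :
    f ≠ 1 := by
  have := M.ne' (k := 5) rfl [3] [] (by decide +kernel)
  simpa only [ev_cons, ev_nil, List.cons_append, List.nil_append, List.getD_cons_succ, List.getD_cons_zero, mul_one, pow_succ, pow_zero, one_mul, mul_one, mul_assoc, mul_inv_rev, inv_inv] using this
theorem uq_n6 {z c k f g : G} (M : MK [z, c, k, f, g] uq_k uq_E1 uq_E2) :
    c ≠ 1 := by
  have := M.ne' (k := 5) rfl [1] [] (by decide +kernel)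
  simpa only [ev_cons, ev_nil, List.cons_append, List.nil_append, List.getD_cons_succ, List.getD_cons_zero, mul_one, pow_succ, pow_zero, one_mul, mul_one, mul_assoc, mul_inv_rev, inv_inv] using this
theorem uq_n7 {z c k f g : G} (M : MK [z, c, k, f, g] uq_k uq_E1 uq_E2) :
    c ≠ z := by
  have := M.ne' (k := 5) rfl [1] [0] (by decide +kernel)
  simpa only [ev_cons, ev_nil, List.cons_append, List.nil_append, List.getD_cons_succ, List.getD_cons_zero, mul_one, pow_succ, pow_zero, one_mul, mul_one, mul_assoc, mul_inv_rev, inv_inv] using this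
theorem uq_n8 {z c k f g : G} (M : MK [z, c, k, f, g] uq_k uq_E1 uq_E2) :
    c ≠ f := by
  have := M.ne' (k := 5) rfl [1] [3] (by decide +kernel)
  simpa only [ev_cons, ev_nil, List.cons_append, List.nil_append, List.getD_cons_succ, List.getD_cons_zero, mul_one, pow_succ, pow_zero, one_mul, mul_one, mul_assoc, mul_inv_rev, inv_inv] using this
theorem uq_n9 {z c k f g : G} (M : MK [z, c, k, f, g] uq_k uq_E1 uq_E2) :
    c ≠ f * z := by
  have := M.ne' (k := 5) rfl [1] [3, 0] (by decide +kernel)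
  simpa only [ev_cons, ev_nil, List.cons_append, List.nil_append, List.getD_cons_succ, List.getD_cons_zero, mul_one, pow_succ, pow_zero, one_mul, mul_one, mul_assoc, mul_inv_rev, inv_inv] using this
theorem uq_n10 {z c k f g : G} (M : MK [z, c, k, f, g] uq_k uq_E1 uq_E2) :
    k ≠ 1 := by
  have := M.ne' (k := 5) rfl [2] [] (by decide +kernel)
  simpa only [ev_cons, ev_nil, List.cons_append, List.nil_append, List.getD_cons_succ, List.getD_cons_zero, mul_one, pow_succ, pow_zero, one_mul, mul_one, mul_assoc, mul_inv_rev, inv_inv] using this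
theorem uq_n11 {z c k f g : G} (M : MK [z, c, k, f, g] uq_k uq_E1 uq_E2) :
    k ≠ z := by
  have := M.ne' (k := 5) rfl [2] [0] (by decide +kernel)
  simpa only [ev_cons, ev_nil, List.cons_append, List.nil_append, List.getD_cons_succ, List.getD_cons_zero, mul_one, pow_succ, pow_zero, one_mul, mul_one, mul_assoc, mul_inv_rev, inv_inv] using this
theorem uq_n12 {z c k f g : G} (M : MK [z, c, k, f, g] uq_k uq_E1 uq_E2) :
    k ≠ f := by
  have := M.ne' (k := 5) rfl [2] [3] (by decide +kernel)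
  simpa only [ev_cons, ev_nil, List.cons_append, List.nil_append, List.getD_cons_succ, List.getD_cons_zero, mul_one, pow_succ, pow_zero, one_mul, mul_one, mul_assoc, mul_inv_rev, inv_inv] using this
theorem uq_n13 {z c k f g : G} (M : MK [z, c, k, f, g] uq_k uq_E1 uq_E2) :
    k ≠ f * z := by
  have := M.ne' (k := 5) rfl [2] [3, 0] (by decide +kernel)
  simpa only [ev_cons, ev_nil, List.cons_append, List.nil_append, List.getD_cons_succ, List.getD_cons_zero, mul_one, pow_succ, pow_zero, one_mul, mul_one, mul_assoc, mul_inv_rev, inv_inv] using this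
def ua_S : List (List Nat) := [[0], [1], [2], [3], [4]]
def ua_L : List (List Nat) := [[], [0], [1], [2], [3], [4], [1, 0], [2, 0], [3, 0], [4, 0], [2, 1], [3, 1], [4, 1], [1, 2], [3, 2], [4, 2], [4, 3], [3, 4], [3, 1, 0], [4, 1, 0], [3, 2, 0], [4, 2, 0], [3, 2, 1], [4, 2, 1], [4, 3, 1], [3, 4, 1], [3, 1, 2], [4, 1, 2], [4, 3, 2], [3, 4, 2], [4, 3, 2, 1], [3, 4, 2, 1]]
def ua_T : List Nat := [0x1f1e1d1c1b1a191817161514131211100f0e0d0c0b0a09080706050403020100, 0x1e1f1c1d171619181b1a0f0e1312111015140a0c0b0d09080306050407020100, 0x1e1f1d1c171618191b1a15140c0b11100f0e0a13120d09080702050403060100, 0x1e1f1c1d171a18191b160f140c121011150e0d130b0a05080706090403020100, 0x1e1f1c1d1b161819171a150e130b10110f140d0c120a09040706050803020100, 0x130c1918101b0a0d1117051f1402161a091e1c0e061d070b0f08031215040100, 0x140e0a0d1a101d1c161103131f04171b070c181e08190f06090b150205120100, 0xf150a0d101b1d1c11171207091e161a0b0318051f1906140813020e040c0100, 0xb1219181a100a0d16111e080615171b1f041c020f1d130714090c030e050100]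
theorem ua_in {z c k f g v w : G} (M : MK [z, c, k, f, g, v, v⁻¹, w, w⁻¹] uk_k uk_E1 uk_E2) :
    ActTL 32 8 (eS [z, c, k, f, g, v, v⁻¹, w, w⁻¹] ua_S ua_L) [z, c, k, f, g, v, v⁻¹, w, w⁻¹] ua_T := by
  have := M.actI (k := 9) (n := 32) rfl ua_S ua_L [[0], [1], [2], [3], [4], [5], [6], [7], [8]] ua_T (by decide +kernel)
  simpa only [List.map_cons, List.map_nil, ev_cons, ev_nil, List.cons_append, List.nil_append, List.getD_cons_succ, List.getD_cons_zero, mul_one, pow_succ, pow_zero, one_mul, mul_one, mul_assoc, mul_inv_rev, inv_inv] using this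
def ua_m_T : Nat := 0x150f1b171d0a11101c0d1f03091219181e0716050b1a13080e060c0414020100
theorem ua_m {z c k f g v w : G} (M : MK [z, c, k, f, g, v, v⁻¹, w, w⁻¹] uk_k uk_E1 uk_E2) {m : G} (h0 : m * z * m⁻¹ = z) (h1 : m * c * m⁻¹ = c) (h2 : m * k * m⁻¹ = k * f * z) (h3 : m * f * m⁻¹ = f) (h4 : m * g * m⁻¹ = c * g) :
    ActT 32 8 (eS [z, c, k, f, g, v, v⁻¹, w, w⁻¹] ua_S ua_L) m ua_m_T :=
  M.actT (k := 9) rfl ua_L [[0], [1], [2, 3, 0], [3], [1, 4]] ua_m_T (by decide +kernel) (by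
    simp only [ua_S, List.forall₂_cons, List.forall₂_nil_left_iff, and_true, ev_cons, ev_nil, List.cons_append, List.nil_append, List.getD_cons_succ, List.getD_cons_zero, mul_one]
    exact ⟨by simpa only [pow_succ, pow_zero, one_mul, mul_one, mul_assoc, mul_inv_rev, inv_inv] using h0, by simpa only [pow_succ, pow_zero, one_mul, mul_one, mul_assoc, mul_inv_rev, inv_inv] using h1, by simpa only [pow_succ, pow_zero, one_mul, mul_one, mul_assoc, mul_inv_rev, inv_inv] using h2, by simpa only [pow_succ, pow_zero, one_mul, mul_one, mul_assoc, mul_inv_rev, inv_inv] using h3, by simpa only [pow_succ, pow_zero, one_mul, mul_one, mul_assoc, mul_inv_rev, inv_inv] using h4⟩)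
def ua_n_T : Nat := 0xc131110180a171b190d09141e021d1c050e161f061a1508070b0f0403120100
theorem ua_n {z c k f g v w : G} (M : MK [z, c, k, f, g, v, v⁻¹, w, w⁻¹] uk_k uk_E1 uk_E2) {n : G} (h0 : n * z * n⁻¹ = z) (h1 : n * c * n⁻¹ = c * f * z) (h2 : n * k * n⁻¹ = k) (h3 : n * f * n⁻¹ = f) (h4 : n * g * n⁻¹ = k * g) :
    ActT 32 8 (eS [z, c, k, f, g, v, v⁻¹, w, w⁻¹] ua_S ua_L) n ua_n_T :=
  M.actT (k := 9) rfl ua_L [[0], [1, 3, 0], [2], [3], [2, 4]] ua_n_T (by decide +kernel) (by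
    simp only [ua_S, List.forall₂_cons, List.forall₂_nil_left_iff, and_true, ev_cons, ev_nil, List.cons_append, List.nil_append, List.getD_cons_succ, List.getD_cons_zero, mul_one]
    exact ⟨by simpa only [pow_succ, pow_zero, one_mul, mul_one, mul_assoc, mul_inv_rev, inv_inv] using h0, by simpa only [pow_succ, pow_zero, one_mul, mul_one, mul_assoc, mul_inv_rev, inv_inv] using h1, by simpa only [pow_succ, pow_zero, one_mul, mul_one, mul_assoc, mul_inv_rev, inv_inv] using h2, by simpa only [pow_succ, pow_zero, one_mul, mul_one, mul_assoc, mul_inv_rev, inv_inv] using h3, by simpa only [pow_succ, pow_zero, one_mul, mul_one, mul_assoc, mul_inv_rev, inv_inv] using h4⟩)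
theorem ua_1 {z c k f g v w : G} (M : MK [z, c, k, f, g, v, v⁻¹, w, w⁻¹] uk_k uk_E1 uk_E2) {m n : G} (a0 : ActT 32 8 (eS [z, c, k, f, g, v, v⁻¹, w, w⁻¹] ua_S ua_L) m ua_m_T) (a1 : ActT 32 8 (eS [z, c, k, f, g, v, v⁻¹, w, w⁻¹] ua_S ua_L) n ua_n_T) :
    (m * v * m * v⁻¹ * c * f) * z = z * (m * v * m * v⁻¹ * c * f) ∧ (m * v * m * v⁻¹ * c * f) * c = c * (m * v * m * v⁻¹ * c * f) ∧ (m * v * m * v⁻¹ * c * f) * k = k * (m * v * m * v⁻¹ * c * f) ∧ (m * v * m * v⁻¹ * c * f) * f = f * (m * v * m * v⁻¹ * c * f) ∧ (m * v * m * v⁻¹ * c * f) * g = g * (m * v * m * v⁻¹ * c * f) := by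
  have := act_mv (ActTL.app (ua_in M) (.cons a0 (.cons a1 .nil))) (k := 11) rfl [9, 5, 9, 6, 1, 3] [(1, 1), (2, 2), (3, 3), (4, 4), (5, 5)] (by decide +kernel)
  exact ⟨by simpa only [ev_cons, ev_nil, List.cons_append, List.nil_append, List.getD_cons_succ, List.getD_cons_zero, mul_one, pow_succ, pow_zero, one_mul, mul_one, mul_assoc, mul_inv_rev, inv_inv] using (show ev [z, c, k, f, g, v, v⁻¹, w, w⁻¹, m, n] [9, 5, 9, 6, 1, 3] * ev [z, c, k, f, g, v, v⁻¹, w, w⁻¹] [0] = ev [z, c, k, f, g, v, v⁻¹, w, w⁻¹] [0] * ev [z, c, k, f, g, v, v⁻¹, w, w⁻¹, m, n] [9, 5, 9, 6, 1, 3] from this (1, 1) (by simp)),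
    by simpa only [ev_cons, ev_nil, List.cons_append, List.nil_append, List.getD_cons_succ, List.getD_cons_zero, mul_one, pow_succ, pow_zero, one_mul, mul_one, mul_assoc, mul_inv_rev, inv_inv] using (show ev [z, c, k, f, g, v, v⁻¹, w, w⁻¹, m, n] [9, 5, 9, 6, 1, 3] * ev [z, c, k, f, g, v, v⁻¹, w, w⁻¹] [1] = ev [z, c, k, f, g, v, v⁻¹, w, w⁻¹] [1] * ev [z, c, k, f, g, v, v⁻¹, w, w⁻¹, m, n] [9, 5, 9, 6, 1, 3] from this (2, 2) (by simp)),
    by simpa only [ev_cons, ev_nil, List.cons_append, List.nil_append, List.getD_cons_succ, List.getD_cons_zero, mul_one, pow_succ, pow_zero, one_mul, mul_one, mul_assoc, mul_inv_rev, inv_inv] using (show ev [z, c, k, f, g, v, v⁻¹, w, w⁻¹, m, n] [9, 5, 9, 6, 1, 3] * ev [z, c, k, f, g, v, v⁻¹, w, w⁻¹] [2] = ev [z, c, k, f, g, v, v⁻¹, w, w⁻¹] [2] * ev [z, c, k, f, g, v, v⁻¹, w, w⁻¹, m, n] [9, 5, 9, 6, 1, 3] from this (3, 3) (by simp)),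
    by simpa only [ev_cons, ev_nil, List.cons_append, List.nil_append, List.getD_cons_succ, List.getD_cons_zero, mul_one, pow_succ, pow_zero, one_mul, mul_one, mul_assoc, mul_inv_rev, inv_inv] using (show ev [z, c, k, f, g, v, v⁻¹, w, w⁻¹, m, n] [9, 5, 9, 6, 1, 3] * ev [z, c, k, f, g, v, v⁻¹, w, w⁻¹] [3] = ev [z, c, k, f, g, v, v⁻¹, w, w⁻¹] [3] * ev [z, c, k, f, g, v, v⁻¹, w, w⁻¹, m, n] [9, 5, 9, 6, 1, 3] from this (4, 4) (by simp)),
    by simpa only [ev_cons, ev_nil, List.cons_append, List.nil_append, List.getD_cons_succ, List.getD_cons_zero, mul_one, pow_succ, pow_zero, one_mul, mul_one, mul_assoc, mul_inv_rev, inv_inv] using (show ev [z, c, k, f, g, v, v⁻¹, w, w⁻¹, m, n] [9, 5, 9, 6, 1, 3] * ev [z, c, k, f, g, v, v⁻¹, w, w⁻¹] [4] = ev [z, c, k, f, g, v, v⁻¹, w, w⁻¹] [4] * ev [z, c, k, f, g, v, v⁻¹, w, w⁻¹, m, n] [9, 5, 9, 6, 1, 3] from this (5, 5) (by simp))⟩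
theorem ua_2 {z c k f g v w : G} (M : MK [z, c, k, f, g, v, v⁻¹, w, w⁻¹] uk_k uk_E1 uk_E2) {m n : G} (a0 : ActT 32 8 (eS [z, c, k, f, g, v, v⁻¹, w, w⁻¹] ua_S ua_L) m ua_m_T) (a1 : ActT 32 8 (eS [z, c, k, f, g, v, v⁻¹, w, w⁻¹] ua_S ua_L) n ua_n_T) :
    (m * w * m * g * w) * z = z * (m * w * m * g * w) ∧ (m * w * m * g * w) * c = c * (m * w * m * g * w) ∧ (m * w * m * g * w) * k = k * (m * w * m * g * w) ∧ (m * w * m * g * w) * f = f * (m * w * m * g * w) ∧ (m * w * m * g * w) * g = g * (m * w * m * g * w) := by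
  have := act_mv (ActTL.app (ua_in M) (.cons a0 (.cons a1 .nil))) (k := 11) rfl [9, 7, 9, 4, 7] [(1, 1), (2, 2), (3, 3), (4, 4), (5, 5)] (by decide +kernel)
  exact ⟨by simpa only [ev_cons, ev_nil, List.cons_append, List.nil_append, List.getD_cons_succ, List.getD_cons_zero, mul_one, pow_succ, pow_zero, one_mul, mul_one, mul_assoc, mul_inv_rev, inv_inv] using (show ev [z, c, k, f, g, v, v⁻¹, w, w⁻¹, m, n] [9, 7, 9, 4, 7] * ev [z, c, k, f, g, v, v⁻¹, w, w⁻¹] [0] = ev [z, c, k, f, g, v, v⁻¹, w, w⁻¹] [0] * ev [z, c, k, f, g, v, v⁻¹, w, w⁻¹, m, n] [9, 7, 9, 4, 7] from this (1, 1) (by simp)),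
    by simpa only [ev_cons, ev_nil, List.cons_append, List.nil_append, List.getD_cons_succ, List.getD_cons_zero, mul_one, pow_succ, pow_zero, one_mul, mul_one, mul_assoc, mul_inv_rev, inv_inv] using (show ev [z, c, k, f, g, v, v⁻¹, w, w⁻¹, m, n] [9, 7, 9, 4, 7] * ev [z, c, k, f, g, v, v⁻¹, w, w⁻¹] [1] = ev [z, c, k, f, g, v, v⁻¹, w, w⁻¹] [1] * ev [z, c, k, f, g, v, v⁻¹, w, w⁻¹, m, n] [9, 7, 9, 4, 7] from this (2, 2) (by simp)),
    by simpa only [ev_cons, ev_nil, List.cons_append, List.nil_append, List.getD_cons_succ, List.getD_cons_zero, mul_one, pow_succ, pow_zero, one_mul, mul_one, mul_assoc, mul_inv_rev, inv_inv] using (show ev [z, c, k, f, g, v, v⁻¹, w, w⁻¹, m, n] [9, 7, 9, 4, 7] * ev [z, c, k, f, g, v, v⁻¹, w, w⁻¹] [2] = ev [z, c, k, f, g, v, v⁻¹, w, w⁻¹] [2] * ev [z, c, k, f, g, v, v⁻¹, w, w⁻¹, m, n] [9, 7, 9, 4, 7] from this (3, 3) (by simp)),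
    by simpa only [ev_cons, ev_nil, List.cons_append, List.nil_append, List.getD_cons_succ, List.getD_cons_zero, mul_one, pow_succ, pow_zero, one_mul, mul_one, mul_assoc, mul_inv_rev, inv_inv] using (show ev [z, c, k, f, g, v, v⁻¹, w, w⁻¹, m, n] [9, 7, 9, 4, 7] * ev [z, c, k, f, g, v, v⁻¹, w, w⁻¹] [3] = ev [z, c, k, f, g, v, v⁻¹, w, w⁻¹] [3] * ev [z, c, k, f, g, v, v⁻¹, w, w⁻¹, m, n] [9, 7, 9, 4, 7] from this (4, 4) (by simp)),
    by simpa only [ev_cons, ev_nil, List.cons_append, List.nil_append, List.getD_cons_succ, List.getD_cons_zero, mul_one, pow_succ, pow_zero, one_mul, mul_one, mul_assoc, mul_inv_rev, inv_inv] using (show ev [z, c, k, f, g, v, v⁻¹, w, w⁻¹, m, n] [9, 7, 9, 4, 7] * ev [z, c, k, f, g, v, v⁻¹, w, w⁻¹] [4] = ev [z, c, k, f, g, v, v⁻¹, w, w⁻¹] [4] * ev [z, c, k, f, g, v, v⁻¹, w, w⁻¹, m, n] [9, 7, 9, 4, 7] from this (5, 5) (by simp))⟩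
theorem ua_3 {z c k f g v w : G} (M : MK [z, c, k, f, g, v, v⁻¹, w, w⁻¹] uk_k uk_E1 uk_E2) {m n : G} (a0 : ActT 32 8 (eS [z, c, k, f, g, v, v⁻¹, w, w⁻¹] ua_S ua_L) m ua_m_T) (a1 : ActT 32 8 (eS [z, c, k, f, g, v, v⁻¹, w, w⁻¹] ua_S ua_L) n ua_n_T) :
    (n * v * n * v * c * f) * z = z * (n * v * n * v * c * f) ∧ (n * v * n * v * c * f) * c = c * (n * v * n * v * c * f) ∧ (n * v * n * v * c * f) * k = k * (n * v * n * v * c * f) ∧ (n * v * n * v * c * f) * f = f * (n * v * n * v * c * f) ∧ (n * v * n * v * c * f) * g = g * (n * v * n * v * c * f) := by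
  have := act_mv (ActTL.app (ua_in M) (.cons a0 (.cons a1 .nil))) (k := 11) rfl [10, 5, 10, 5, 1, 3] [(1, 1), (2, 2), (3, 3), (4, 4), (5, 5)] (by decide +kernel)
  exact ⟨by simpa only [ev_cons, ev_nil, List.cons_append, List.nil_append, List.getD_cons_succ, List.getD_cons_zero, mul_one, pow_succ, pow_zero, one_mul, mul_one, mul_assoc, mul_inv_rev, inv_inv] using (show ev [z, c, k, f, g, v, v⁻¹, w, w⁻¹, m, n] [10, 5, 10, 5, 1, 3] * ev [z, c, k, f, g, v, v⁻¹, w, w⁻¹] [0] = ev [z, c, k, f, g, v, v⁻¹, w, w⁻¹] [0] * ev [z, c, k, f, g, v, v⁻¹, w, w⁻¹, m, n] [10, 5, 10, 5, 1, 3] from this (1, 1) (by simp)),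
    by simpa only [ev_cons, ev_nil, List.cons_append, List.nil_append, List.getD_cons_succ, List.getD_cons_zero, mul_one, pow_succ, pow_zero, one_mul, mul_one, mul_assoc, mul_inv_rev, inv_inv] using (show ev [z, c, k, f, g, v, v⁻¹, w, w⁻¹, m, n] [10, 5, 10, 5, 1, 3] * ev [z, c, k, f, g, v, v⁻¹, w, w⁻¹] [1] = ev [z, c, k, f, g, v, v⁻¹, w, w⁻¹] [1] * ev [z, c, k, f, g, v, v⁻¹, w, w⁻¹, m, n] [10, 5, 10, 5, 1, 3] from this (2, 2) (by simp)),
    by simpa only [ev_cons, ev_nil, List.cons_append, List.nil_append, List.getD_cons_succ, List.getD_cons_zero, mul_one, pow_succ, pow_zero, one_mul, mul_one, mul_assoc, mul_inv_rev, inv_inv] using (show ev [z, c, k, f, g, v, v⁻¹, w, w⁻¹, m, n] [10, 5, 10, 5, 1, 3] * ev [z, c, k, f, g, v, v⁻¹, w, w⁻¹] [2] = ev [z, c, k, f, g, v, v⁻¹, w, w⁻¹] [2] * ev [z, c, k, f, g, v, v⁻¹, w, w⁻¹, m, n] [10, 5, 10, 5, 1, 3] from this (3, 3) (by simp)),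
    by simpa only [ev_cons, ev_nil, List.cons_append, List.nil_append, List.getD_cons_succ, List.getD_cons_zero, mul_one, pow_succ, pow_zero, one_mul, mul_one, mul_assoc, mul_inv_rev, inv_inv] using (show ev [z, c, k, f, g, v, v⁻¹, w, w⁻¹, m, n] [10, 5, 10, 5, 1, 3] * ev [z, c, k, f, g, v, v⁻¹, w, w⁻¹] [3] = ev [z, c, k, f, g, v, v⁻¹, w, w⁻¹] [3] * ev [z, c, k, f, g, v, v⁻¹, w, w⁻¹, m, n] [10, 5, 10, 5, 1, 3] from this (4, 4) (by simp)),
    by simpa only [ev_cons, ev_nil, List.cons_append, List.nil_append, List.getD_cons_succ, List.getD_cons_zero, mul_one, pow_succ, pow_zero, one_mul, mul_one, mul_assoc, mul_inv_rev, inv_inv] using (show ev [z, c, k, f, g, v, v⁻¹, w, w⁻¹, m, n] [10, 5, 10, 5, 1, 3] * ev [z, c, k, f, g, v, v⁻¹, w, w⁻¹] [4] = ev [z, c, k, f, g, v, v⁻¹, w, w⁻¹] [4] * ev [z, c, k, f, g, v, v⁻¹, w, w⁻¹, m, n] [10, 5, 10, 5, 1, 3] from this (5, 5) (by simp))⟩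
theorem ua_4 {z c k f g v w : G} (M : MK [z, c, k, f, g, v, v⁻¹, w, w⁻¹] uk_k uk_E1 uk_E2) {m n : G} (a0 : ActT 32 8 (eS [z, c, k, f, g, v, v⁻¹, w, w⁻¹] ua_S ua_L) m ua_m_T) (a1 : ActT 32 8 (eS [z, c, k, f, g, v, v⁻¹, w, w⁻¹] ua_S ua_L) n ua_n_T) :
    (n * w * n * w⁻¹ * k) * z = z * (n * w * n * w⁻¹ * k) ∧ (n * w * n * w⁻¹ * k) * c = c * (n * w * n * w⁻¹ * k) ∧ (n * w * n * w⁻¹ * k) * k = k * (n * w * n * w⁻¹ * k) ∧ (n * w * n * w⁻¹ * k) * f = f * (n * w * n * w⁻¹ * k) ∧ (n * w * n * w⁻¹ * k) * g = g * (n * w * n * w⁻¹ * k) := by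
  have := act_mv (ActTL.app (ua_in M) (.cons a0 (.cons a1 .nil))) (k := 11) rfl [10, 7, 10, 8, 2] [(1, 1), (2, 2), (3, 3), (4, 4), (5, 5)] (by decide +kernel)
  exact ⟨by simpa only [ev_cons, ev_nil, List.cons_append, List.nil_append, List.getD_cons_succ, List.getD_cons_zero, mul_one, pow_succ, pow_zero, one_mul, mul_one, mul_assoc, mul_inv_rev, inv_inv] using (show ev [z, c, k, f, g, v, v⁻¹, w, w⁻¹, m, n] [10, 7, 10, 8, 2] * ev [z, c, k, f, g, v, v⁻¹, w, w⁻¹] [0] = ev [z, c, k, f, g, v, v⁻¹, w, w⁻¹] [0] * ev [z, c, k, f, g, v, v⁻¹, w, w⁻¹, m, n] [10, 7, 10, 8, 2] from this (1, 1) (by simp)),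
    by simpa only [ev_cons, ev_nil, List.cons_append, List.nil_append, List.getD_cons_succ, List.getD_cons_zero, mul_one, pow_succ, pow_zero, one_mul, mul_one, mul_assoc, mul_inv_rev, inv_inv] using (show ev [z, c, k, f, g, v, v⁻¹, w, w⁻¹, m, n] [10, 7, 10, 8, 2] * ev [z, c, k, f, g, v, v⁻¹, w, w⁻¹] [1] = ev [z, c, k, f, g, v, v⁻¹, w, w⁻¹] [1] * ev [z, c, k, f, g, v, v⁻¹, w, w⁻¹, m, n] [10, 7, 10, 8, 2] from this (2, 2) (by simp)),
    by simpa only [ev_cons, ev_nil, List.cons_append, List.nil_append, List.getD_cons_succ, List.getD_cons_zero, mul_one, pow_succ, pow_zero, one_mul, mul_one, mul_assoc, mul_inv_rev, inv_inv] using (show ev [z, c, k, f, g, v, v⁻¹, w, w⁻¹, m, n] [10, 7, 10, 8, 2] * ev [z, c, k, f, g, v, v⁻¹, w, w⁻¹] [2] = ev [z, c, k, f, g, v, v⁻¹, w, w⁻¹] [2] * ev [z, c, k, f, g, v, v⁻¹, w, w⁻¹, m, n] [10, 7, 10, 8, 2] from this (3, 3) (by simp)),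
    by simpa only [ev_cons, ev_nil, List.cons_append, List.nil_append, List.getD_cons_succ, List.getD_cons_zero, mul_one, pow_succ, pow_zero, one_mul, mul_one, mul_assoc, mul_inv_rev, inv_inv] using (show ev [z, c, k, f, g, v, v⁻¹, w, w⁻¹, m, n] [10, 7, 10, 8, 2] * ev [z, c, k, f, g, v, v⁻¹, w, w⁻¹] [3] = ev [z, c, k, f, g, v, v⁻¹, w, w⁻¹] [3] * ev [z, c, k, f, g, v, v⁻¹, w, w⁻¹, m, n] [10, 7, 10, 8, 2] from this (4, 4) (by simp)),
    by simpa only [ev_cons, ev_nil, List.cons_append, List.nil_append, List.getD_cons_succ, List.getD_cons_zero, mul_one, pow_succ, pow_zero, one_mul, mul_one, mul_assoc, mul_inv_rev, inv_inv] using (show ev [z, c, k, f, g, v, v⁻¹, w, w⁻¹, m, n] [10, 7, 10, 8, 2] * ev [z, c, k, f, g, v, v⁻¹, w, w⁻¹] [4] = ev [z, c, k, f, g, v, v⁻¹, w, w⁻¹] [4] * ev [z, c, k, f, g, v, v⁻¹, w, w⁻¹, m, n] [10, 7, 10, 8, 2] from this (5, 5) (by simp))⟩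
theorem uk_1 {z c k f g v w : G} (M : MK [z, c, k, f, g, v, v⁻¹, w, w⁻¹] uk_k uk_E1 uk_E2) :
    (f * c * v) ^ 3 = 1 := by
  have := M.eq' (k := 9) rfl [3, 1, 5, 3, 1, 5, 3, 1, 5] [] (by decide +kernel)
  simpa only [ev_cons, ev_nil, List.cons_append, List.nil_append, List.getD_cons_succ, List.getD_cons_zero, mul_one, pow_succ, pow_zero, one_mul, mul_one, mul_assoc, mul_inv_rev, inv_inv] using this
theorem uk_2 {z c k f g v w : G} (M : MK [z, c, k, f, g, v, v⁻¹, w, w⁻¹] uk_k uk_E1 uk_E2) :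
    (w⁻¹ * g) ^ 3 = 1 := by
  have := M.eq' (k := 9) rfl [8, 4, 8, 4, 8, 4] [] (by decide +kernel)
  simpa only [ev_cons, ev_nil, List.cons_append, List.nil_append, List.getD_cons_succ, List.getD_cons_zero, mul_one, pow_succ, pow_zero, one_mul, mul_one, mul_assoc, mul_inv_rev, inv_inv] using this
theorem uk_3 {z c k f g v w : G} (M : MK [z, c, k, f, g, v, v⁻¹, w, w⁻¹] uk_k uk_E1 uk_E2) :
    (f * c * v⁻¹) ^ 3 = 1 := by
  have := M.eq' (k := 9) rfl [3, 1, 6, 3, 1, 6, 3, 1, 6] [] (by decide +kernel)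
  simpa only [ev_cons, ev_nil, List.cons_append, List.nil_append, List.getD_cons_succ, List.getD_cons_zero, mul_one, pow_succ, pow_zero, one_mul, mul_one, mul_assoc, mul_inv_rev, inv_inv] using this
theorem uk_4 {z c k f g v w : G} (M : MK [z, c, k, f, g, v, v⁻¹, w, w⁻¹] uk_k uk_E1 uk_E2) :
    (k * w) ^ 3 = 1 := by
  have := M.eq' (k := 9) rfl [2, 7, 2, 7, 2, 7] [] (by decide +kernel)
  simpa only [ev_cons, ev_nil, List.cons_append, List.nil_append, List.getD_cons_succ, List.getD_cons_zero, mul_one, pow_succ, pow_zero, one_mul, mul_one, mul_assoc, mul_inv_rev, inv_inv] using this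
def ue_S : List (List Nat) := [[0], [3], [1], [9]]
def ue_L : List (List Nat) := [[], [0], [1], [2], [3], [1, 0], [2, 0], [3, 0], [2, 1], [3, 1], [3, 2], [2, 1, 0], [3, 1, 0], [3, 2, 0], [3, 2, 1], [3, 2, 1, 0]]
def ue_T : List Nat := [0xf0e0d0c0b0a09080706050403020100, 0xf0e0d0c0b0a09080706050403020100, 0xd0a0f04080e070b0903050c06020100, 0xf0e0d0c0b0a09080706050403020100, 0x90c070e08040f0b0d06020a03050100, 0x90c0d04030a07060f05080e020b0100, 0x7040d0e020a0f050908060c0b030100, 0xf0e0d0c0b0a09080706050403020100, 0xe0f0a07030d04060c0805090b020100]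
theorem ue_in {z c k f g v w m n : G} (M : MK [z, c, k, f, g, v, v⁻¹, w, w⁻¹, m, n] uh_k uh_E1 uh_E2) :
    ActTL 16 8 (eS [z, c, k, f, g, v, v⁻¹, w, w⁻¹, m, n] ue_S ue_L) [z, c, k, f, g, v, v⁻¹, m, n] ue_T := by
  have := M.actI (k := 11) (n := 16) rfl ue_S ue_L [[0], [1], [2], [3], [4], [5], [6], [9], [10]] ue_T (by decide +kernel)
  simpa only [List.map_cons, List.map_nil, ev_cons, ev_nil, List.cons_append, List.nil_append, List.getD_cons_succ, List.getD_cons_zero, mul_one, pow_succ, pow_zero, one_mul, mul_one, mul_assoc, mul_inv_rev, inv_inv] using this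
def uf_S : List (List Nat) := [[0], [3], [2], [10]]
def uf_L : List (List Nat) := [[], [0], [1], [2], [3], [1, 0], [2, 0], [3, 0], [2, 1], [3, 1], [3, 2], [2, 1, 0], [3, 1, 0], [3, 2, 0], [3, 2, 1], [3, 2, 1, 0]]
def uf_T : List Nat := [0xf0e0d0c0b0a09080706050403020100, 0xd0a0f04080e070b0903050c06020100, 0xf0e0d0c0b0a09080706050403020100, 0xf0e0d0c0b0a09080706050403020100, 0x90c070e08040f0b0d06020a03050100, 0x7040f0c060e09030d050b0a02080100, 0xd0a070c050409020f0b060e08030100, 0xe0f0a07030d04060c0805090b020100, 0xf0e0d0c0b0a09080706050403020100]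
theorem uf_in {z c k f g v w m n : G} (M : MK [z, c, k, f, g, v, v⁻¹, w, w⁻¹, m, n] uh_k uh_E1 uh_E2) :
    ActTL 16 8 (eS [z, c, k, f, g, v, v⁻¹, w, w⁻¹, m, n] uf_S uf_L) [z, c, k, f, g, w, w⁻¹, m, n] uf_T := by
  have := M.actI (k := 11) (n := 16) rfl uf_S uf_L [[0], [1], [2], [3], [4], [7], [8], [9], [10]] uf_T (by decide +kernel)
  simpa only [List.map_cons, List.map_nil, ev_cons, ev_nil, List.cons_append, List.nil_append, List.getD_cons_succ, List.getD_cons_zero, mul_one, pow_succ, pow_zero, one_mul, mul_one, mul_assoc, mul_inv_rev, inv_inv] using this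
def ue_r_T : Nat := 0x6080b070d03090e0c0f01040a020500
theorem ue_r {z c k f g v w m n : G} (M : MK [z, c, k, f, g, v, v⁻¹, w, w⁻¹, m, n] uh_k uh_E1 uh_E2) {r : G} (h0 : r * z * r⁻¹ = z * f) (h1 : r * f * r⁻¹ = f) (h2 : r * c * r⁻¹ = c * m) (h3 : r * m * r⁻¹ = m) :
    ActT 16 8 (eS [z, c, k, f, g, v, v⁻¹, w, w⁻¹, m, n] ue_S ue_L) r ue_r_T :=
  M.actT (k := 11) rfl ue_L [[0, 3], [3], [1, 9], [9]] ue_r_T (by decide +kernel) (by
    simp only [ue_S, List.forall₂_cons, List.forall₂_nil_left_iff, and_true, ev_cons, ev_nil, List.cons_append, List.nil_append, List.getD_cons_succ, List.getD_cons_zero, mul_one]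
    exact ⟨by simpa only [pow_succ, pow_zero, one_mul, mul_one, mul_assoc, mul_inv_rev, inv_inv] using h0, by simpa only [pow_succ, pow_zero, one_mul, mul_one, mul_assoc, mul_inv_rev, inv_inv] using h1, by simpa only [pow_succ, pow_zero, one_mul, mul_one, mul_assoc, mul_inv_rev, inv_inv] using h2, by simpa only [pow_succ, pow_zero, one_mul, mul_one, mul_assoc, mul_inv_rev, inv_inv] using h3⟩)
def ue_b_T : Nat := 0xb0306070f08090a0c0d01040e020500
theorem ue_b {z c k f g v w m n : G} (M : MK [z, c, k, f, g, v, v⁻¹, w, w⁻¹, m, n] uh_k uh_E1 uh_E2) {r : G} (h0 : r * z * r⁻¹ = z * f) (h1 : r * f * r⁻¹ = f) (h2 : r * c * r⁻¹ = c * m * f) (h3 : r * m * r⁻¹ = m) :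
    ActT 16 8 (eS [z, c, k, f, g, v, v⁻¹, w, w⁻¹, m, n] ue_S ue_L) r ue_b_T :=
  M.actT (k := 11) rfl ue_L [[0, 3], [3], [1, 9, 3], [9]] ue_b_T (by decide +kernel) (by
    simp only [ue_S, List.forall₂_cons, List.forall₂_nil_left_iff, and_true, ev_cons, ev_nil, List.cons_append, List.nil_append, List.getD_cons_succ, List.getD_cons_zero, mul_one]
    exact ⟨by simpa only [pow_succ, pow_zero, one_mul, mul_one, mul_assoc, mul_inv_rev, inv_inv] using h0, by simpa only [pow_succ, pow_zero, one_mul, mul_one, mul_assoc, mul_inv_rev, inv_inv] using h1, by simpa only [pow_succ, pow_zero, one_mul, mul_one, mul_assoc, mul_inv_rev, inv_inv] using h2, by simpa only [pow_succ, pow_zero, one_mul, mul_one, mul_assoc, mul_inv_rev, inv_inv] using h3⟩)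
def uf_r_T : Nat := 0x6080b070d03090e0c0f01040a020500
theorem uf_r {z c k f g v w m n : G} (M : MK [z, c, k, f, g, v, v⁻¹, w, w⁻¹, m, n] uh_k uh_E1 uh_E2) {r : G} (h0 : r * z * r⁻¹ = z * f) (h1 : r * f * r⁻¹ = f) (h2 : r * k * r⁻¹ = k * n) (h3 : r * n * r⁻¹ = n) :
    ActT 16 8 (eS [z, c, k, f, g, v, v⁻¹, w, w⁻¹, m, n] uf_S uf_L) r uf_r_T :=
  M.actT (k := 11) rfl uf_L [[0, 3], [3], [2, 10], [10]] uf_r_T (by decide +kernel) (by
    simp only [uf_S, List.forall₂_cons, List.forall₂_nil_left_iff, and_true, ev_cons, ev_nil, List.cons_append, List.nil_append, List.getD_cons_succ, List.getD_cons_zero, mul_one]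
    exact ⟨by simpa only [pow_succ, pow_zero, one_mul, mul_one, mul_assoc, mul_inv_rev, inv_inv] using h0, by simpa only [pow_succ, pow_zero, one_mul, mul_one, mul_assoc, mul_inv_rev, inv_inv] using h1, by simpa only [pow_succ, pow_zero, one_mul, mul_one, mul_assoc, mul_inv_rev, inv_inv] using h2, by simpa only [pow_succ, pow_zero, one_mul, mul_one, mul_assoc, mul_inv_rev, inv_inv] using h3⟩)
def uf_b_T : Nat := 0xb0306070f08090a0c0d01040e020500
theorem uf_b {z c k f g v w m n : G} (M : MK [z, c, k, f, g, v, v⁻¹, w, w⁻¹, m, n] uh_k uh_E1 uh_E2) {r : G} (h0 : r * z * r⁻¹ = z * f) (h1 : r * f * r⁻¹ = f) (h2 : r * k * r⁻¹ = k * n * f) (h3 : r * n * r⁻¹ = n) :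
    ActT 16 8 (eS [z, c, k, f, g, v, v⁻¹, w, w⁻¹, m, n] uf_S uf_L) r uf_b_T :=
  M.actT (k := 11) rfl uf_L [[0, 3], [3], [2, 10, 3], [10]] uf_b_T (by decide +kernel) (by
    simp only [uf_S, List.forall₂_cons, List.forall₂_nil_left_iff, and_true, ev_cons, ev_nil, List.cons_append, List.nil_append, List.getD_cons_succ, List.getD_cons_zero, mul_one]
    exact ⟨by simpa only [pow_succ, pow_zero, one_mul, mul_one, mul_assoc, mul_inv_rev, inv_inv] using h0, by simpa only [pow_succ, pow_zero, one_mul, mul_one, mul_assoc, mul_inv_rev, inv_inv] using h1, by simpa only [pow_succ, pow_zero, one_mul, mul_one, mul_assoc, mul_inv_rev, inv_inv] using h2, by simpa only [pow_succ, pow_zero, one_mul, mul_one, mul_assoc, mul_inv_rev, inv_inv] using h3⟩)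
theorem ue_1 {z c k f g v w m n : G} (M : MK [z, c, k, f, g, v, v⁻¹, w, w⁻¹, m, n] uh_k uh_E1 uh_E2) {r : G} (a0 : ActT 16 8 (eS [z, c, k, f, g, v, v⁻¹, w, w⁻¹, m, n] ue_S ue_L) r ue_b_T) :
    ((g * r) ^ 3) * z = z * ((g * r) ^ 3) ∧ ((g * r) ^ 3) * f = f * ((g * r) ^ 3) ∧ ((g * r) ^ 3) * c = (c * z) * ((g * r) ^ 3) ∧ ((g * r) ^ 3) * m = (m * f) * ((g * r) ^ 3) := by
  have := act_mv (ActTL.app (ue_in M) (.cons a0 .nil)) (k := 10) rfl [4, 9, 4, 9, 4, 9] [(1, 1), (2, 2), (3, 6), (4, 9)] (by decide +kernel)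
  exact ⟨by simpa only [ev_cons, ev_nil, List.cons_append, List.nil_append, List.getD_cons_succ, List.getD_cons_zero, mul_one, pow_succ, pow_zero, one_mul, mul_one, mul_assoc, mul_inv_rev, inv_inv] using (show ev [z, c, k, f, g, v, v⁻¹, m, n, r] [4, 9, 4, 9, 4, 9] * ev [z, c, k, f, g, v, v⁻¹, w, w⁻¹, m, n] [0] = ev [z, c, k, f, g, v, v⁻¹, w, w⁻¹, m, n] [0] * ev [z, c, k, f, g, v, v⁻¹, m, n, r] [4, 9, 4, 9, 4, 9] from this (1, 1) (by simp)),
    by simpa only [ev_cons, ev_nil, List.cons_append, List.nil_append, List.getD_cons_succ, List.getD_cons_zero, mul_one, pow_succ, pow_zero, one_mul, mul_one, mul_assoc, mul_inv_rev, inv_inv] using (show ev [z, c, k, f, g, v, v⁻¹, m, n, r] [4, 9, 4, 9, 4, 9] * ev [z, c, k, f, g, v, v⁻¹, w, w⁻¹, m, n] [3] = ev [z, c, k, f, g, v, v⁻¹, w, w⁻¹, m, n] [3] * ev [z, c, k, f, g, v, v⁻¹, m, n, r] [4, 9, 4, 9, 4, 9] from this (2, 2) (by simp)),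
    by simpa only [ev_cons, ev_nil, List.cons_append, List.nil_append, List.getD_cons_succ, List.getD_cons_zero, mul_one, pow_succ, pow_zero, one_mul, mul_one, mul_assoc, mul_inv_rev, inv_inv] using (show ev [z, c, k, f, g, v, v⁻¹, m, n, r] [4, 9, 4, 9, 4, 9] * ev [z, c, k, f, g, v, v⁻¹, w, w⁻¹, m, n] [1] = ev [z, c, k, f, g, v, v⁻¹, w, w⁻¹, m, n] [1, 0] * ev [z, c, k, f, g, v, v⁻¹, m, n, r] [4, 9, 4, 9, 4, 9] from this (3, 6) (by simp)),
    by simpa only [ev_cons, ev_nil, List.cons_append, List.nil_append, List.getD_cons_succ, List.getD_cons_zero, mul_one, pow_succ, pow_zero, one_mul, mul_one, mul_assoc, mul_inv_rev, inv_inv] using (show ev [z, c, k, f, g, v, v⁻¹, m, n, r] [4, 9, 4, 9, 4, 9] * ev [z, c, k, f, g, v, v⁻¹, w, w⁻¹, m, n] [9] = ev [z, c, k, f, g, v, v⁻¹, w, w⁻¹, m, n] [9, 3] * ev [z, c, k, f, g, v, v⁻¹, m, n, r] [4, 9, 4, 9, 4, 9] from this (4, 9) (by simp))⟩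
theorem uf_1 {z c k f g v w m n : G} (M : MK [z, c, k, f, g, v, v⁻¹, w, w⁻¹, m, n] uh_k uh_E1 uh_E2) {r : G} (a0 : ActT 16 8 (eS [z, c, k, f, g, v, v⁻¹, w, w⁻¹, m, n] uf_S uf_L) r uf_b_T) :
    ((g * r) ^ 3) * z = z * ((g * r) ^ 3) ∧ ((g * r) ^ 3) * f = f * ((g * r) ^ 3) ∧ ((g * r) ^ 3) * k = (k * z) * ((g * r) ^ 3) ∧ ((g * r) ^ 3) * n = (n * f) * ((g * r) ^ 3) := by
  have := act_mv (ActTL.app (uf_in M) (.cons a0 .nil)) (k := 10) rfl [4, 9, 4, 9, 4, 9] [(1, 1), (2, 2), (3, 6), (4, 9)] (by decide +kernel)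
  exact ⟨by simpa only [ev_cons, ev_nil, List.cons_append, List.nil_append, List.getD_cons_succ, List.getD_cons_zero, mul_one, pow_succ, pow_zero, one_mul, mul_one, mul_assoc, mul_inv_rev, inv_inv] using (show ev [z, c, k, f, g, w, w⁻¹, m, n, r] [4, 9, 4, 9, 4, 9] * ev [z, c, k, f, g, v, v⁻¹, w, w⁻¹, m, n] [0] = ev [z, c, k, f, g, v, v⁻¹, w, w⁻¹, m, n] [0] * ev [z, c, k, f, g, w, w⁻¹, m, n, r] [4, 9, 4, 9, 4, 9] from this (1, 1) (by simp)),
    by simpa only [ev_cons, ev_nil, List.cons_append, List.nil_append, List.getD_cons_succ, List.getD_cons_zero, mul_one, pow_succ, pow_zero, one_mul, mul_one, mul_assoc, mul_inv_rev, inv_inv] using (show ev [z, c, k, f, g, w, w⁻¹, m, n, r] [4, 9, 4, 9, 4, 9] * ev [z, c, k, f, g, v, v⁻¹, w, w⁻¹, m, n] [3] = ev [z, c, k, f, g, v, v⁻¹, w, w⁻¹, m, n] [3] * ev [z, c, k, f, g, w, w⁻¹, m, n, r] [4, 9, 4, 9, 4, 9] from this (2, 2) (by simp)),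
    by simpa only [ev_cons, ev_nil, List.cons_append, List.nil_append, List.getD_cons_succ, List.getD_cons_zero, mul_one, pow_succ, pow_zero, one_mul, mul_one, mul_assoc, mul_inv_rev, inv_inv] using (show ev [z, c, k, f, g, w, w⁻¹, m, n, r] [4, 9, 4, 9, 4, 9] * ev [z, c, k, f, g, v, v⁻¹, w, w⁻¹, m, n] [2] = ev [z, c, k, f, g, v, v⁻¹, w, w⁻¹, m, n] [2, 0] * ev [z, c, k, f, g, w, w⁻¹, m, n, r] [4, 9, 4, 9, 4, 9] from this (3, 6) (by simp)),
    by simpa only [ev_cons, ev_nil, List.cons_append, List.nil_append, List.getD_cons_succ, List.getD_cons_zero, mul_one, pow_succ, pow_zero, one_mul, mul_one, mul_assoc, mul_inv_rev, inv_inv] using (show ev [z, c, k, f, g, w, w⁻¹, m, n, r] [4, 9, 4, 9, 4, 9] * ev [z, c, k, f, g, v, v⁻¹, w, w⁻¹, m, n] [10] = ev [z, c, k, f, g, v, v⁻¹, w, w⁻¹, m, n] [10, 3] * ev [z, c, k, f, g, w, w⁻¹, m, n, r] [4, 9, 4, 9, 4, 9] from this (4, 9) (by simp))⟩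
theorem uh_e1 {z c k f g v w m n : G} (M : MK [z, c, k, f, g, v, v⁻¹, w, w⁻¹, m, n] uh_k uh_E1 uh_E2) {x : G} (hx : x ∈ cl [z, c, k, f, g, v, v⁻¹, w, w⁻¹, m, n]) (h0 : x * f = f * x) (h1 : x * c = z * c * x) (h2 : x * m = f * m * x) :
    False := by
  have := M.sol (k := 11) rfl [([11, 3], [3, 11]), ([11, 1], [0, 1, 11]), ([11, 9], [3, 9, 11])] [] (by decide +kernel) hx (by
    simp only [Sat, List.forall_mem_cons, List.not_mem_nil, IsEmpty.forall_iff, implies_true, and_true, ev_cons, ev_nil, List.cons_append, List.nil_append, List.getD_cons_succ, List.getD_cons_zero, mul_one]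
    exact ⟨by simpa only [pow_succ, pow_zero, one_mul, mul_one, mul_assoc, mul_inv_rev, inv_inv] using h0, by simpa only [pow_succ, pow_zero, one_mul, mul_one, mul_assoc, mul_inv_rev, inv_inv] using h1, by simpa only [pow_succ, pow_zero, one_mul, mul_one, mul_assoc, mul_inv_rev, inv_inv] using h2⟩)
  simpa only [List.mem_cons, List.not_mem_nil, or_false, false_and, exists_false, exists_eq_or_imp, exists_eq_left, ev_cons, ev_nil, List.cons_append, List.nil_append, List.getD_cons_succ, List.getD_cons_zero, mul_one, pow_succ, pow_zero, one_mul, mul_one, mul_assoc, mul_inv_rev, inv_inv] using this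
theorem uh_e2 {z c k f g v w m n : G} (M : MK [z, c, k, f, g, v, v⁻¹, w, w⁻¹, m, n] uh_k uh_E1 uh_E2) {x : G} (hx : x ∈ cl [z, c, k, f, g, v, v⁻¹, w, w⁻¹, m, n]) (h0 : x * f = f * x) (h1 : x * k = z * k * x) (h2 : x * n = f * n * x) :
    False := by
  have := M.sol (k := 11) rfl [([11, 3], [3, 11]), ([11, 2], [0, 2, 11]), ([11, 10], [3, 10, 11])] [] (by decide +kernel) hx (by
    simp only [Sat, List.forall_mem_cons, List.not_mem_nil, IsEmpty.forall_iff, implies_true, and_true, ev_cons, ev_nil, List.cons_append, List.nil_append, List.getD_cons_succ, List.getD_cons_zero, mul_one]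
    exact ⟨by simpa only [pow_succ, pow_zero, one_mul, mul_one, mul_assoc, mul_inv_rev, inv_inv] using h0, by simpa only [pow_succ, pow_zero, one_mul, mul_one, mul_assoc, mul_inv_rev, inv_inv] using h1, by simpa only [pow_succ, pow_zero, one_mul, mul_one, mul_assoc, mul_inv_rev, inv_inv] using h2⟩)
  simpa only [List.mem_cons, List.not_mem_nil, or_false, false_and, exists_false, exists_eq_or_imp, exists_eq_left, ev_cons, ev_nil, List.cons_append, List.nil_append, List.getD_cons_succ, List.getD_cons_zero, mul_one, pow_succ, pow_zero, one_mul, mul_one, mul_assoc, mul_inv_rev, inv_inv] using this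
theorem ue_2 {z c k f g v w m n : G} (M : MK [z, c, k, f, g, v, v⁻¹, w, w⁻¹, m, n] uh_k uh_E1 uh_E2) {r : G} (a0 : ActT 16 8 (eS [z, c, k, f, g, v, v⁻¹, w, w⁻¹, m, n] ue_S ue_L) r ue_r_T) (hz : ∀ x, x * z = z * x → x ∈ cl [z, c, k, f, g, v, v⁻¹, w, w⁻¹, m, n]) :
    (g * r) ^ 3 = 1 := by
  have := M.fpf (k := 11) rfl (ActTL.app (ue_in M) (.cons a0 .nil)) (m := 10) rfl [4, 9] 3 1 [2, 3, 4] (by decide +kernel) (fun x hx => hz x (by simpa only [ev_cons, ev_nil, List.cons_append, List.nil_append, List.getD_cons_succ, List.getD_cons_zero, mul_one] using (show x * ev [z, c, k, f, g, v, v⁻¹, w, w⁻¹, m, n] [0] = ev [z, c, k, f, g, v, v⁻¹, w, w⁻¹, m, n] [0] * x from hx)))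
  simpa only [ev_cons, ev_nil, List.cons_append, List.nil_append, List.getD_cons_succ, List.getD_cons_zero, mul_one, pow_succ, pow_zero, one_mul, mul_one, mul_assoc, mul_inv_rev, inv_inv] using this
theorem ue_3 {z c k f g v w m n : G} (M : MK [z, c, k, f, g, v, v⁻¹, w, w⁻¹, m, n] uh_k uh_E1 uh_E2) {r : G} (a0 : ActT 16 8 (eS [z, c, k, f, g, v, v⁻¹, w, w⁻¹, m, n] ue_S ue_L) r ue_r_T) (hz : ∀ x, x * z = z * x → x ∈ cl [z, c, k, f, g, v, v⁻¹, w, w⁻¹, m, n]) :
    (r * v) ^ 5 = 1 := by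
  have := M.fpf (k := 11) rfl (ActTL.app (ue_in M) (.cons a0 .nil)) (m := 10) rfl [9, 5] 5 1 [2, 3, 4] (by decide +kernel) (fun x hx => hz x (by simpa only [ev_cons, ev_nil, List.cons_append, List.nil_append, List.getD_cons_succ, List.getD_cons_zero, mul_one] using (show x * ev [z, c, k, f, g, v, v⁻¹, w, w⁻¹, m, n] [0] = ev [z, c, k, f, g, v, v⁻¹, w, w⁻¹, m, n] [0] * x from hx)))
  simpa only [ev_cons, ev_nil, List.cons_append, List.nil_append, List.getD_cons_succ, List.getD_cons_zero, mul_one, pow_succ, pow_zero, one_mul, mul_one, mul_assoc, mul_inv_rev, inv_inv] using this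
theorem ue_4 {z c k f g v w m n : G} (M : MK [z, c, k, f, g, v, v⁻¹, w, w⁻¹, m, n] uh_k uh_E1 uh_E2) {r : G} (a0 : ActT 16 8 (eS [z, c, k, f, g, v, v⁻¹, w, w⁻¹, m, n] ue_S ue_L) r ue_r_T) (hz : ∀ x, x * z = z * x → x ∈ cl [z, c, k, f, g, v, v⁻¹, w, w⁻¹, m, n]) :
    (k * v * r * v * r) ^ 5 = 1 := by
  have := M.fpf (k := 11) rfl (ActTL.app (ue_in M) (.cons a0 .nil)) (m := 10) rfl [2, 5, 9, 5, 9] 5 1 [2, 3, 4] (by decide +kernel) (fun x hx => hz x (by simpa only [ev_cons, ev_nil, List.cons_append, List.nil_append, List.getD_cons_succ, List.getD_cons_zero, mul_one] using (show x * ev [z, c, k, f, g, v, v⁻¹, w, w⁻¹, m, n] [0] = ev [z, c, k, f, g, v, v⁻¹, w, w⁻¹, m, n] [0] * x from hx)))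
  simpa only [ev_cons, ev_nil, List.cons_append, List.nil_append, List.getD_cons_succ, List.getD_cons_zero, mul_one, pow_succ, pow_zero, one_mul, mul_one, mul_assoc, mul_inv_rev, inv_inv] using this
theorem uf_2 {z c k f g v w m n : G} (M : MK [z, c, k, f, g, v, v⁻¹, w, w⁻¹, m, n] uh_k uh_E1 uh_E2) {r : G} (a0 : ActT 16 8 (eS [z, c, k, f, g, v, v⁻¹, w, w⁻¹, m, n] uf_S uf_L) r uf_r_T) (hz : ∀ x, x * z = z * x → x ∈ cl [z, c, k, f, g, v, v⁻¹, w, w⁻¹, m, n]) :
    (c * w * r) ^ 5 = 1 := by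
  have := M.fpf (k := 11) rfl (ActTL.app (uf_in M) (.cons a0 .nil)) (m := 10) rfl [1, 5, 9] 5 1 [2, 3, 4] (by decide +kernel) (fun x hx => hz x (by simpa only [ev_cons, ev_nil, List.cons_append, List.nil_append, List.getD_cons_succ, List.getD_cons_zero, mul_one] using (show x * ev [z, c, k, f, g, v, v⁻¹, w, w⁻¹, m, n] [0] = ev [z, c, k, f, g, v, v⁻¹, w, w⁻¹, m, n] [0] * x from hx)))
  simpa only [ev_cons, ev_nil, List.cons_append, List.nil_append, List.getD_cons_succ, List.getD_cons_zero, mul_one, pow_succ, pow_zero, one_mul, mul_one, mul_assoc, mul_inv_rev, inv_inv] using this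
theorem uf_3 {z c k f g v w m n : G} (M : MK [z, c, k, f, g, v, v⁻¹, w, w⁻¹, m, n] uh_k uh_E1 uh_E2) {r : G} (a0 : ActT 16 8 (eS [z, c, k, f, g, v, v⁻¹, w, w⁻¹, m, n] uf_S uf_L) r uf_r_T) (hz : ∀ x, x * z = z * x → x ∈ cl [z, c, k, f, g, v, v⁻¹, w, w⁻¹, m, n]) :
    (c * w * r * w * r) ^ 5 = 1 := by
  have := M.fpf (k := 11) rfl (ActTL.app (uf_in M) (.cons a0 .nil)) (m := 10) rfl [1, 5, 9, 5, 9] 5 1 [2, 3, 4] (by decide +kernel) (fun x hx => hz x (by simpa only [ev_cons, ev_nil, List.cons_append, List.nil_append, List.getD_cons_succ, List.getD_cons_zero, mul_one] using (show x * ev [z, c, k, f, g, v, v⁻¹, w, w⁻¹, m, n] [0] = ev [z, c, k, f, g, v, v⁻¹, w, w⁻¹, m, n] [0] * x from hx)))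
  simpa only [ev_cons, ev_nil, List.cons_append, List.nil_append, List.getD_cons_succ, List.getD_cons_zero, mul_one, pow_succ, pow_zero, one_mul, mul_one, mul_assoc, mul_inv_rev, inv_inv] using this
theorem um_1 {G : Type u} [Group G] {z c k f g v m n r : G} (hr : Rels [z, c, k, f, g, v, v⁻¹, m, n, r] um_R) :
    (k * r * v * r * k) * v = v * (k * r * v * r * k) := by
  have := ueq um_univ um_valb (by rfl) hr 7 [2, 9, 5, 9, 2, 5] [5, 2, 9, 5, 9, 2] (by decide +kernel)
  simpa only [ev_cons, ev_nil, List.cons_append, List.nil_append, List.getD_cons_succ, List.getD_cons_zero, mul_one, pow_succ, pow_zero, one_mul, mul_one, mul_assoc, mul_inv_rev, inv_inv] using this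
theorem um_2 {G : Type u} [Group G] {z c k f g v m n r : G} (hr : Rels [z, c, k, f, g, v, v⁻¹, m, n, r] um_R) :
    (k * r * v * r * k) * z = (m * c) * (k * r * v * r * k) := by
  have := ueq um_univ um_valb (by rfl) hr 7 [2, 9, 5, 9, 2, 0] [7, 1, 2, 9, 5, 9, 2] (by decide +kernel)
  simpa only [ev_cons, ev_nil, List.cons_append, List.nil_append, List.getD_cons_succ, List.getD_cons_zero, mul_one, pow_succ, pow_zero, one_mul, mul_one, mul_assoc, mul_inv_rev, inv_inv] using this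
theorem um_3 {G : Type u} [Group G] {z c k f g v m n r : G} (hr : Rels [z, c, k, f, g, v, v⁻¹, m, n, r] um_R) :
    (k * r * v * r * k) * (m * c * z) = z * (k * r * v * r * k) := by
  have := ueq um_univ um_valb (by rfl) hr 7 [2, 9, 5, 9, 2, 7, 1, 0] [0, 2, 9, 5, 9, 2] (by decide +kernel)
  simpa only [ev_cons, ev_nil, List.cons_append, List.nil_append, List.getD_cons_succ, List.getD_cons_zero, mul_one, pow_succ, pow_zero, one_mul, mul_one, mul_assoc, mul_inv_rev, inv_inv] using this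
theorem um_4 {G : Type u} [Group G] {z c k f g v m n r : G} (hr : Rels [z, c, k, f, g, v, v⁻¹, m, n, r] um_R) :
    (k * r * v * r * k) ^ 3 = 1 := by
  have := ueq um_univ um_valb (by rfl) hr 7 [2, 9, 5, 9, 2, 2, 9, 5, 9, 2, 2, 9, 5, 9, 2] [] (by decide +kernel)
  simpa only [ev_cons, ev_nil, List.cons_append, List.nil_append, List.getD_cons_succ, List.getD_cons_zero, mul_one, pow_succ, pow_zero, one_mul, mul_one, mul_assoc, mul_inv_rev, inv_inv] using this
theorem uh_1 {z c k f g v w m n : G} (M : MK [z, c, k, f, g, v, v⁻¹, w, w⁻¹, m, n] uh_k uh_E1 uh_E2) :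
    (m * c) * v = v * (m * c) := by
  have := M.eq' (k := 11) rfl [9, 1, 5] [5, 9, 1] (by decide +kernel)
  simpa only [ev_cons, ev_nil, List.cons_append, List.nil_append, List.getD_cons_succ, List.getD_cons_zero, mul_one, pow_succ, pow_zero, one_mul, mul_one, mul_assoc, mul_inv_rev, inv_inv] using this
theorem uh_2 {z c k f g v w m n : G} (M : MK [z, c, k, f, g, v, v⁻¹, w, w⁻¹, m, n] uh_k uh_E1 uh_E2) :
    (m * c) * w = w⁻¹ * (m * c) := by
  have := M.eq' (k := 11) rfl [9, 1, 7] [8, 9, 1] (by decide +kernel)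
  simpa only [ev_cons, ev_nil, List.cons_append, List.nil_append, List.getD_cons_succ, List.getD_cons_zero, mul_one, pow_succ, pow_zero, one_mul, mul_one, mul_assoc, mul_inv_rev, inv_inv] using this
theorem uh_3 {z c k f g v w m n : G} (M : MK [z, c, k, f, g, v, v⁻¹, w, w⁻¹, m, n] uh_k uh_E1 uh_E2) :
    (m * c) * (m * c) = 1 := by
  have := M.eq' (k := 11) rfl [9, 1, 9, 1] [] (by decide +kernel)
  simpa only [ev_cons, ev_nil, List.cons_append, List.nil_append, List.getD_cons_succ, List.getD_cons_zero, mul_one, pow_succ, pow_zero, one_mul, mul_one, mul_assoc, mul_inv_rev, inv_inv] using this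
theorem uh_4 {z c k f g v w m n : G} (M : MK [z, c, k, f, g, v, v⁻¹, w, w⁻¹, m, n] uh_k uh_E1 uh_E2) :
    m * c ≠ z := by
  have := M.ne' (k := 11) rfl [9, 1] [0] (by decide +kernel)
  simpa only [ev_cons, ev_nil, List.cons_append, List.nil_append, List.getD_cons_succ, List.getD_cons_zero, mul_one, pow_succ, pow_zero, one_mul, mul_one, mul_assoc, mul_inv_rev, inv_inv] using this
theorem uh_5 {z c k f g v w m n : G} (M : MK [z, c, k, f, g, v, v⁻¹, w, w⁻¹, m, n] uh_k uh_E1 uh_E2) :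
    v ≠ 1 := by
  have := M.ne' (k := 11) rfl [5] [] (by decide +kernel)
  simpa only [ev_cons, ev_nil, List.cons_append, List.nil_append, List.getD_cons_succ, List.getD_cons_zero, mul_one, pow_succ, pow_zero, one_mul, mul_one, mul_assoc, mul_inv_rev, inv_inv] using this
theorem uh_vw {z c k f g v w m n : G} (M : MK [z, c, k, f, g, v, v⁻¹, w, w⁻¹, m, n] uh_k uh_E1 uh_E2) {x : G} (hx : x ∈ cl [z, c, k, f, g, v, v⁻¹, w, w⁻¹, m, n]) (h0 : x * x = 1) (h1 : x * v = v * x) (h2 : x * w = w * x) :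
    x = 1 ∨ x = z := by
  have := M.sol (k := 11) rfl [([11, 11], []), ([11, 5], [5, 11]), ([11, 7], [7, 11])] [[], [0]] (by decide +kernel) hx (by
    simp only [Sat, List.forall_mem_cons, List.not_mem_nil, IsEmpty.forall_iff, implies_true, and_true, ev_cons, ev_nil, List.cons_append, List.nil_append, List.getD_cons_succ, List.getD_cons_zero, mul_one]
    exact ⟨by simpa only [pow_succ, pow_zero, one_mul, mul_one, mul_assoc, mul_inv_rev, inv_inv] using h0, by simpa only [pow_succ, pow_zero, one_mul, mul_one, mul_assoc, mul_inv_rev, inv_inv] using h1, by simpa only [pow_succ, pow_zero, one_mul, mul_one, mul_assoc, mul_inv_rev, inv_inv] using h2⟩)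
  simpa only [List.mem_cons, List.not_mem_nil, or_false, false_and, exists_false, exists_eq_or_imp, exists_eq_left, ev_cons, ev_nil, List.cons_append, List.nil_append, List.getD_cons_succ, List.getD_cons_zero, mul_one, pow_succ, pow_zero, one_mul, mul_one, mul_assoc, mul_inv_rev, inv_inv] using this
theorem uh_d {z c k f g v w m n : G} (M : MK [z, c, k, f, g, v, v⁻¹, w, w⁻¹, m, n] uh_k uh_E1 uh_E2) {x : G} (hx : x ∈ cl [z, c, k, f, g, v, v⁻¹, w, w⁻¹, m, n]) (h0 : x * v = v * x) (h1 : x * w = w * x) :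
    x ^ 3 = 1 ∨ (x * z) ^ 3 = 1 := by
  have := M.imq (k := 11) rfl [([11, 5], [5, 11]), ([11, 7], [7, 11])] [[([11, 11, 11], [])], [([11, 0, 11, 0, 11, 0], [])]] (by decide +kernel) hx (by
    simp only [Sat, List.forall_mem_cons, List.not_mem_nil, IsEmpty.forall_iff, implies_true, and_true, ev_cons, ev_nil, List.cons_append, List.nil_append, List.getD_cons_succ, List.getD_cons_zero, mul_one]
    exact ⟨by simpa only [pow_succ, pow_zero, one_mul, mul_one, mul_assoc, mul_inv_rev, inv_inv] using h0, by simpa only [pow_succ, pow_zero, one_mul, mul_one, mul_assoc, mul_inv_rev, inv_inv] using h1⟩)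
  simpa only [List.mem_cons, List.not_mem_nil, or_false, false_and, exists_false, exists_eq_or_imp, exists_eq_left, Sat, forall_eq_or_imp, forall_eq, ev_cons, ev_nil, List.cons_append, List.nil_append, List.getD_cons_succ, List.getD_cons_zero, mul_one, pow_succ, pow_zero, one_mul, mul_one, mul_assoc, mul_inv_rev, inv_inv] using this
theorem uh_6 {z c k f g v w m n : G} (M : MK [z, c, k, f, g, v, v⁻¹, w, w⁻¹, m, n] uh_k uh_E1 uh_E2) {x : G} (hx : x ∈ cl [z, c, k, f, g, v, v⁻¹, w, w⁻¹, m, n]) (h0 : x * v = v * x) :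
    x ^ 6 = 1 := by
  have := M.imq (k := 11) rfl [([11, 5], [5, 11])] [[([11, 11, 11, 11, 11, 11], [])]] (by decide +kernel) hx (by
    simp only [Sat, List.forall_mem_cons, List.not_mem_nil, IsEmpty.forall_iff, implies_true, and_true, ev_cons, ev_nil, List.cons_append, List.nil_append, List.getD_cons_succ, List.getD_cons_zero, mul_one]
    exact by simpa only [pow_succ, pow_zero, one_mul, mul_one, mul_assoc, mul_inv_rev, inv_inv] using h0)
  simpa only [List.mem_cons, List.not_mem_nil, or_false, false_and, exists_false, exists_eq_or_imp, exists_eq_left, Sat, forall_eq_or_imp, forall_eq, ev_cons, ev_nil, List.cons_append, List.nil_append, List.getD_cons_succ, List.getD_cons_zero, mul_one, pow_succ, pow_zero, one_mul, mul_one, mul_assoc, mul_inv_rev, inv_inv] using this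
theorem uh_24 {z c k f g v w m n : G} (M : MK [z, c, k, f, g, v, v⁻¹, w, w⁻¹, m, n] uh_k uh_E1 uh_E2) {x : G} (hx : x ∈ cl [z, c, k, f, g, v, v⁻¹, w, w⁻¹, m, n]) :
    x ^ 24 = 1 := by
  have := M.imq (k := 11) rfl [] [[([11, 11, 11, 11, 11, 11, 11, 11, 11, 11, 11, 11, 11, 11, 11, 11, 11, 11, 11, 11, 11, 11, 11, 11], [])]] (by decide +kernel) hx (fun _ h => absurd h List.not_mem_nil)
  simpa only [List.mem_cons, List.not_mem_nil, or_false, false_and, exists_false, exists_eq_or_imp, exists_eq_left, Sat, forall_eq_or_imp, forall_eq, ev_cons, ev_nil, List.cons_append, List.nil_append, List.getD_cons_succ, List.getD_cons_zero, mul_one, pow_succ, pow_zero, one_mul, mul_one, mul_assoc, mul_inv_rev, inv_inv] using this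
theorem uh_cv {z c k f g v w m n : G} (M : MK [z, c, k, f, g, v, v⁻¹, w, w⁻¹, m, n] uh_k uh_E1 uh_E2) {x : G} (hx : x ∈ cl [z, c, k, f, g, v, v⁻¹, w, w⁻¹, m, n]) (h0 : x * v = v * x) (h1 : x ^ 3 = 1) :
    x = 1 ∨ x = v ∨ x = v⁻¹ ∨ w = x ∨ w = x * v ∨ w = x * v⁻¹ ∨ w = x * x ∨ w = x * x * v ∨ w = x * x * v⁻¹ := by
  have := M.imq (k := 11) rfl [([11, 5], [5, 11]), ([11, 11, 11], [])] [[([11], [])], [([11], [5])], [([11], [6])], [([7], [11])], [([7], [11, 5])], [([7], [11, 6])], [([7], [11, 11])], [([7], [11, 11, 5])], [([7], [11, 11, 6])]] (by decide +kernel) hx (by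
    simp only [Sat, List.forall_mem_cons, List.not_mem_nil, IsEmpty.forall_iff, implies_true, and_true, ev_cons, ev_nil, List.cons_append, List.nil_append, List.getD_cons_succ, List.getD_cons_zero, mul_one]
    exact ⟨by simpa only [pow_succ, pow_zero, one_mul, mul_one, mul_assoc, mul_inv_rev, inv_inv] using h0, by simpa only [pow_succ, pow_zero, one_mul, mul_one, mul_assoc, mul_inv_rev, inv_inv] using h1⟩)
  simpa only [List.mem_cons, List.not_mem_nil, or_false, false_and, exists_false, exists_eq_or_imp, exists_eq_left, Sat, forall_eq_or_imp, forall_eq, ev_cons, ev_nil, List.cons_append, List.nil_append, List.getD_cons_succ, List.getD_cons_zero, mul_one, pow_succ, pow_zero, one_mul, mul_one, mul_assoc, mul_inv_rev, inv_inv] using this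
theorem uh_nv {z c k f g v w m n : G} (M : MK [z, c, k, f, g, v, v⁻¹, w, w⁻¹, m, n] uh_k uh_E1 uh_E2) {x : G} (hx : x ∈ cl [z, c, k, f, g, v, v⁻¹, w, w⁻¹, m, n]) (h0 : x ^ 3 = 1) (h1 : (x * v * x * x) * v = v * (x * v * x * x)) (h2 : (x * v * x * x) * w = w * (x * v * x * x)) {K : Subgroup G} (k0 : v ∈ K) (k1 : v⁻¹ ∈ K) (k2 : w ∈ K) (k3 : w⁻¹ ∈ K) : x ∈ K :=
  M.solS (k := 11) rfl [([11, 11, 11], []), ([11, 5, 11, 11, 5], [5, 11, 5, 11, 11]), ([11, 5, 11, 11, 7], [7, 11, 5, 11, 11])] [[], [5], [6], [7], [8], [7, 5], [8, 5], [7, 6], [8, 6]] [5, 6, 7, 8] (by decide +kernel) (by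
    simp only [List.forall_mem_cons, List.not_mem_nil, IsEmpty.forall_iff, implies_true, and_true, List.getD_cons_succ, List.getD_cons_zero]
    exact ⟨k0, k1, k2, k3⟩) hx (by
    simp only [Sat, List.forall_mem_cons, List.not_mem_nil, IsEmpty.forall_iff, implies_true, and_true, ev_cons, ev_nil, List.cons_append, List.nil_append, List.getD_cons_succ, List.getD_cons_zero, mul_one]
    exact ⟨by simpa only [pow_succ, pow_zero, one_mul, mul_one, mul_assoc, mul_inv_rev, inv_inv] using h0, by simpa only [pow_succ, pow_zero, one_mul, mul_one, mul_assoc, mul_inv_rev, inv_inv] using h1, by simpa only [pow_succ, pow_zero, one_mul, mul_one, mul_assoc, mul_inv_rev, inv_inv] using h2⟩)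
theorem uh_fu {z c k f g v w m n : G} (M : MK [z, c, k, f, g, v, v⁻¹, w, w⁻¹, m, n] uh_k uh_E1 uh_E2) {x : G} (hx : x ∈ cl [z, c, k, f, g, v, v⁻¹, w, w⁻¹, m, n]) (h0 : (x ^ 23 * v * x) * v = v * (x ^ 23 * v * x)) (h1 : (x ^ 23 * v * x) * w = w * (x ^ 23 * v * x)) :
    v * x = x * v ∨ v * x = x * v⁻¹ := by
  have := M.imq (k := 11) rfl [([11, 11, 11, 11, 11, 11, 11, 11, 11, 11, 11, 11, 11, 11, 11, 11, 11, 11, 11, 11, 11, 11, 11, 5, 11, 5], [5, 11, 11, 11, 11, 11, 11, 11, 11, 11, 11, 11, 11, 11, 11, 11, 11, 11, 11, 11, 11, 11, 11, 11, 5, 11]), ([11, 11, 11, 11, 11, 11, 11, 11, 11, 11, 11, 11, 11, 11, 11, 11, 11, 11, 11, 11, 11, 11, 11, 5, 11, 7], [7, 11, 11, 11, 11, 11, 11, 11, 11, 11, 11, 11, 11, 11, 11, 11, 11, 11, 11, 11, 11, 11, 11, 11, 5, 11])] [[([5, 11], [11, 5])], [([5, 11], [11, 6])]] (by decide +kernel) hx (by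
    simp only [Sat, List.forall_mem_cons, List.not_mem_nil, IsEmpty.forall_iff, implies_true, and_true, ev_cons, ev_nil, List.cons_append, List.nil_append, List.getD_cons_succ, List.getD_cons_zero, mul_one]
    exact ⟨by simpa only [pow_succ, pow_zero, one_mul, mul_one, mul_assoc, mul_inv_rev, inv_inv] using h0, by simpa only [pow_succ, pow_zero, one_mul, mul_one, mul_assoc, mul_inv_rev, inv_inv] using h1⟩)
  simpa only [List.mem_cons, List.not_mem_nil, or_false, false_and, exists_false, exists_eq_or_imp, exists_eq_left, Sat, forall_eq_or_imp, forall_eq, ev_cons, ev_nil, List.cons_append, List.nil_append, List.getD_cons_succ, List.getD_cons_zero, mul_one, pow_succ, pow_zero, one_mul, mul_one, mul_assoc, mul_inv_rev, inv_inv] using this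
theorem uq_sw {z c k f g : G} (M : MK [z, c, k, f, g] uq_k uq_E1 uq_E2) :
    Rels [z, k, c, f, g] uq_R := by
  have := M.relw (k := 5) rfl [[0], [2], [1], [3], [4]] uq_R (by decide +kernel)
  simpa only [List.map_cons, List.map_nil, ev_cons, ev_nil, List.cons_append, List.nil_append, List.getD_cons_succ, List.getD_cons_zero, mul_one, pow_succ, pow_zero, one_mul, mul_one, mul_assoc, mul_inv_rev, inv_inv] using this
theorem uq_m1 {z c k f g : G} (M : MK [z, c, k, f, g] uq_k uq_E1 uq_E2) :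
    Rels [z, c * z, k, f, g] uq_R := by
  have := M.relw (k := 5) rfl [[0], [1, 0], [2], [3], [4]] uq_R (by decide +kernel)
  simpa only [List.map_cons, List.map_nil, ev_cons, ev_nil, List.cons_append, List.nil_append, List.getD_cons_succ, List.getD_cons_zero, mul_one, pow_succ, pow_zero, one_mul, mul_one, mul_assoc, mul_inv_rev, inv_inv] using this
theorem uq_e1 {z c k f g : G} (M : MK [z, c, k, f, g] uq_k uq_E1 uq_E2) :
    c * f = f * c := by
  have := M.eq' (k := 5) rfl [1, 3] [3, 1] (by decide +kernel)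
  simpa only [ev_cons, ev_nil, List.cons_append, List.nil_append, List.getD_cons_succ, List.getD_cons_zero, mul_one, pow_succ, pow_zero, one_mul, mul_one, mul_assoc, mul_inv_rev, inv_inv] using this
theorem uq_e2 {z c k f g : G} (M : MK [z, c, k, f, g] uq_k uq_E1 uq_E2) :
    c * g = g * c := by
  have := M.eq' (k := 5) rfl [1, 4] [4, 1] (by decide +kernel)
  simpa only [ev_cons, ev_nil, List.cons_append, List.nil_append, List.getD_cons_succ, List.getD_cons_zero, mul_one, pow_succ, pow_zero, one_mul, mul_one, mul_assoc, mul_inv_rev, inv_inv] using this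
theorem uq_e3 {z c k f g : G} (M : MK [z, c, k, f, g] uq_k uq_E1 uq_E2) :
    k * f = f * k := by
  have := M.eq' (k := 5) rfl [2, 3] [3, 2] (by decide +kernel)
  simpa only [ev_cons, ev_nil, List.cons_append, List.nil_append, List.getD_cons_succ, List.getD_cons_zero, mul_one, pow_succ, pow_zero, one_mul, mul_one, mul_assoc, mul_inv_rev, inv_inv] using this
theorem uq_e4 {z c k f g : G} (M : MK [z, c, k, f, g] uq_k uq_E1 uq_E2) :
    k * g = g * k := by
  have := M.eq' (k := 5) rfl [2, 4] [4, 2] (by decide +kernel)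
  simpa only [ev_cons, ev_nil, List.cons_append, List.nil_append, List.getD_cons_succ, List.getD_cons_zero, mul_one, pow_succ, pow_zero, one_mul, mul_one, mul_assoc, mul_inv_rev, inv_inv] using this
theorem uq_e5 {z c k f g : G} (M : MK [z, c, k, f, g] uq_k uq_E1 uq_E2) :
    (f * g) ^ 2 = z := by
  have := M.eq' (k := 5) rfl [3, 4, 3, 4] [0] (by decide +kernel)
  simpa only [ev_cons, ev_nil, List.cons_append, List.nil_append, List.getD_cons_succ, List.getD_cons_zero, mul_one, pow_succ, pow_zero, one_mul, mul_one, mul_assoc, mul_inv_rev, inv_inv] using this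
theorem uq_e6 {z c k f g : G} (M : MK [z, c, k, f, g] uq_k uq_E1 uq_E2) :
    f * g = g * z * f := by
  have := M.eq' (k := 5) rfl [3, 4] [4, 0, 3] (by decide +kernel)
  simpa only [ev_cons, ev_nil, List.cons_append, List.nil_append, List.getD_cons_succ, List.getD_cons_zero, mul_one, pow_succ, pow_zero, one_mul, mul_one, mul_assoc, mul_inv_rev, inv_inv] using this
theorem uq_e7 {z c k f g : G} (M : MK [z, c, k, f, g] uq_k uq_E1 uq_E2) :
    (c * k) ^ 2 = z := by
  have := M.eq' (k := 5) rfl [1, 2, 1, 2] [0] (by decide +kernel)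
  simpa only [ev_cons, ev_nil, List.cons_append, List.nil_append, List.getD_cons_succ, List.getD_cons_zero, mul_one, pow_succ, pow_zero, one_mul, mul_one, mul_assoc, mul_inv_rev, inv_inv] using this
theorem uq_e8 {z c k f g : G} (M : MK [z, c, k, f, g] uq_k uq_E1 uq_E2) :
    g * f = f * z * g := by
  have := M.eq' (k := 5) rfl [4, 3] [3, 0, 4] (by decide +kernel)
  simpa only [ev_cons, ev_nil, List.cons_append, List.nil_append, List.getD_cons_succ, List.getD_cons_zero, mul_one, pow_succ, pow_zero, one_mul, mul_one, mul_assoc, mul_inv_rev, inv_inv] using this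
theorem uq_e9 {z c k f g : G} (M : MK [z, c, k, f, g] uq_k uq_E1 uq_E2) :
    k * f * z * (k * f * z) = 1 := by
  have := M.eq' (k := 5) rfl [2, 3, 0, 2, 3, 0] [] (by decide +kernel)
  simpa only [ev_cons, ev_nil, List.cons_append, List.nil_append, List.getD_cons_succ, List.getD_cons_zero, mul_one, pow_succ, pow_zero, one_mul, mul_one, mul_assoc, mul_inv_rev, inv_inv] using this
theorem uq_e10 {z c k f g : G} (M : MK [z, c, k, f, g] uq_k uq_E1 uq_E2) :
    c * g * (c * g) = 1 := by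
  have := M.eq' (k := 5) rfl [1, 4, 1, 4] [] (by decide +kernel)
  simpa only [ev_cons, ev_nil, List.cons_append, List.nil_append, List.getD_cons_succ, List.getD_cons_zero, mul_one, pow_succ, pow_zero, one_mul, mul_one, mul_assoc, mul_inv_rev, inv_inv] using this
theorem uk_5 {z c k f g v w : G} (M : MK [z, c, k, f, g, v, v⁻¹, w, w⁻¹] uk_k uk_E1 uk_E2) :
    v * z = z * v := by
  have := M.eq' (k := 9) rfl [5, 0] [0, 5] (by decide +kernel)
  simpa only [ev_cons, ev_nil, List.cons_append, List.nil_append, List.getD_cons_succ, List.getD_cons_zero, mul_one, pow_succ, pow_zero, one_mul, mul_one, mul_assoc, mul_inv_rev, inv_inv] using this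
theorem uk_6 {z c k f g v w : G} (M : MK [z, c, k, f, g, v, v⁻¹, w, w⁻¹] uk_k uk_E1 uk_E2) :
    w * z = z * w := by
  have := M.eq' (k := 9) rfl [7, 0] [0, 7] (by decide +kernel)
  simpa only [ev_cons, ev_nil, List.cons_append, List.nil_append, List.getD_cons_succ, List.getD_cons_zero, mul_one, pow_succ, pow_zero, one_mul, mul_one, mul_assoc, mul_inv_rev, inv_inv] using this
theorem uh_7 {z c k f g v w m n : G} (M : MK [z, c, k, f, g, v, v⁻¹, w, w⁻¹, m, n] uh_k uh_E1 uh_E2) :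
    (c * m) * (m * c) = 1 := by
  have := M.eq' (k := 11) rfl [1, 9, 9, 1] [] (by decide +kernel)
  simpa only [ev_cons, ev_nil, List.cons_append, List.nil_append, List.getD_cons_succ, List.getD_cons_zero, mul_one, pow_succ, pow_zero, one_mul, mul_one, mul_assoc, mul_inv_rev, inv_inv] using this
theorem uh_8 {z c k f g v w m n : G} (M : MK [z, c, k, f, g, v, v⁻¹, w, w⁻¹, m, n] uh_k uh_E1 uh_E2) :
    (k * n) * (n * k) = 1 := by
  have := M.eq' (k := 11) rfl [2, 10, 10, 2] [] (by decide +kernel)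
  simpa only [ev_cons, ev_nil, List.cons_append, List.nil_append, List.getD_cons_succ, List.getD_cons_zero, mul_one, pow_succ, pow_zero, one_mul, mul_one, mul_assoc, mul_inv_rev, inv_inv] using this
theorem uh_9 {z c k f g v w m n : G} (M : MK [z, c, k, f, g, v, v⁻¹, w, w⁻¹, m, n] uh_k uh_E1 uh_E2) :
    c * m = m * c := by
  have := M.eq' (k := 11) rfl [1, 9] [9, 1] (by decide +kernel)
  simpa only [ev_cons, ev_nil, List.cons_append, List.nil_append, List.getD_cons_succ, List.getD_cons_zero, mul_one, pow_succ, pow_zero, one_mul, mul_one, mul_assoc, mul_inv_rev, inv_inv] using this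
theorem uh_10 {z c k f g v w m n : G} (M : MK [z, c, k, f, g, v, v⁻¹, w, w⁻¹, m, n] uh_k uh_E1 uh_E2) :
    (v⁻¹) * f * (v) = c := by
  have := M.eq' (k := 11) rfl [6, 3, 5] [1] (by decide +kernel)
  simpa only [ev_cons, ev_nil, List.cons_append, List.nil_append, List.getD_cons_succ, List.getD_cons_zero, mul_one, pow_succ, pow_zero, one_mul, mul_one, mul_assoc, mul_inv_rev, inv_inv] using this
theorem uh_11 {z c k f g v w m n : G} (M : MK [z, c, k, f, g, v, v⁻¹, w, w⁻¹, m, n] uh_k uh_E1 uh_E2) :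
    (w⁻¹) * f * (w) = k := by
  have := M.eq' (k := 11) rfl [8, 3, 7] [2] (by decide +kernel)
  simpa only [ev_cons, ev_nil, List.cons_append, List.nil_append, List.getD_cons_succ, List.getD_cons_zero, mul_one, pow_succ, pow_zero, one_mul, mul_one, mul_assoc, mul_inv_rev, inv_inv] using this
theorem uh_12 {z c k f g v w m n : G} (M : MK [z, c, k, f, g, v, v⁻¹, w, w⁻¹, m, n] uh_k uh_E1 uh_E2) :
    v * w = w * v := by
  have := M.eq' (k := 11) rfl [5, 7] [7, 5] (by decide +kernel)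
  simpa only [ev_cons, ev_nil, List.cons_append, List.nil_append, List.getD_cons_succ, List.getD_cons_zero, mul_one, pow_succ, pow_zero, one_mul, mul_one, mul_assoc, mul_inv_rev, inv_inv] using this
theorem uh_13 {z c k f g v w m n : G} (M : MK [z, c, k, f, g, v, v⁻¹, w, w⁻¹, m, n] uh_k uh_E1 uh_E2) :
    v ^ 3 = 1 := by
  have := M.eq' (k := 11) rfl [5, 5, 5] [] (by decide +kernel)
  simpa only [ev_cons, ev_nil, List.cons_append, List.nil_append, List.getD_cons_succ, List.getD_cons_zero, mul_one, pow_succ, pow_zero, one_mul, mul_one, mul_assoc, mul_inv_rev, inv_inv] using this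
theorem uh_14 {z c k f g v w m n : G} (M : MK [z, c, k, f, g, v, v⁻¹, w, w⁻¹, m, n] uh_k uh_E1 uh_E2) :
    w ^ 3 = 1 := by
  have := M.eq' (k := 11) rfl [7, 7, 7] [] (by decide +kernel)
  simpa only [ev_cons, ev_nil, List.cons_append, List.nil_append, List.getD_cons_succ, List.getD_cons_zero, mul_one, pow_succ, pow_zero, one_mul, mul_one, mul_assoc, mul_inv_rev, inv_inv] using this
theorem uh_15 {z c k f g v w m n : G} (M : MK [z, c, k, f, g, v, v⁻¹, w, w⁻¹, m, n] uh_k uh_E1 uh_E2) :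
    c * m * c = m := by
  have := M.eq' (k := 11) rfl [1, 9, 1] [9] (by decide +kernel)
  simpa only [ev_cons, ev_nil, List.cons_append, List.nil_append, List.getD_cons_succ, List.getD_cons_zero, mul_one, pow_succ, pow_zero, one_mul, mul_one, mul_assoc, mul_inv_rev, inv_inv] using this
theorem uh_16 {z c k f g v w m n : G} (M : MK [z, c, k, f, g, v, v⁻¹, w, w⁻¹, m, n] uh_k uh_E1 uh_E2) :
    c * n * c = n * (z * f) := by
  have := M.eq' (k := 11) rfl [1, 10, 1] [10, 0, 3] (by decide +kernel)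
  simpa only [ev_cons, ev_nil, List.cons_append, List.nil_append, List.getD_cons_succ, List.getD_cons_zero, mul_one, pow_succ, pow_zero, one_mul, mul_one, mul_assoc, mul_inv_rev, inv_inv] using this
theorem uh_17 {z c k f g v w m n : G} (M : MK [z, c, k, f, g, v, v⁻¹, w, w⁻¹, m, n] uh_k uh_E1 uh_E2) :
    k * n * k = n := by
  have := M.eq' (k := 11) rfl [2, 10, 2] [10] (by decide +kernel)
  simpa only [ev_cons, ev_nil, List.cons_append, List.nil_append, List.getD_cons_succ, List.getD_cons_zero, mul_one, pow_succ, pow_zero, one_mul, mul_one, mul_assoc, mul_inv_rev, inv_inv] using this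
theorem uh_18 {z c k f g v w m n : G} (M : MK [z, c, k, f, g, v, v⁻¹, w, w⁻¹, m, n] uh_k uh_E1 uh_E2) :
    k * m * k = m * (z * f) := by
  have := M.eq' (k := 11) rfl [2, 9, 2] [9, 0, 3] (by decide +kernel)
  simpa only [ev_cons, ev_nil, List.cons_append, List.nil_append, List.getD_cons_succ, List.getD_cons_zero, mul_one, pow_succ, pow_zero, one_mul, mul_one, mul_assoc, mul_inv_rev, inv_inv] using this
theorem uh_19 {z c k f g v w m n : G} (M : MK [z, c, k, f, g, v, v⁻¹, w, w⁻¹, m, n] uh_k uh_E1 uh_E2) :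
    (m * c) * z = z * (m * c) := by
  have := M.eq' (k := 11) rfl [9, 1, 0] [0, 9, 1] (by decide +kernel)
  simpa only [ev_cons, ev_nil, List.cons_append, List.nil_append, List.getD_cons_succ, List.getD_cons_zero, mul_one, pow_succ, pow_zero, one_mul, mul_one, mul_assoc, mul_inv_rev, inv_inv] using this
theorem uh_20 {z c k f g v w m n : G} (M : MK [z, c, k, f, g, v, v⁻¹, w, w⁻¹, m, n] uh_k uh_E1 uh_E2) :
    v * z = z * v := by
  have := M.eq' (k := 11) rfl [5, 0] [0, 5] (by decide +kernel)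
  simpa only [ev_cons, ev_nil, List.cons_append, List.nil_append, List.getD_cons_succ, List.getD_cons_zero, mul_one, pow_succ, pow_zero, one_mul, mul_one, mul_assoc, mul_inv_rev, inv_inv] using this
theorem uh_21 {z c k f g v w m n : G} (M : MK [z, c, k, f, g, v, v⁻¹, w, w⁻¹, m, n] uh_k uh_E1 uh_E2) :
    w * z = z * w := by
  have := M.eq' (k := 11) rfl [7, 0] [0, 7] (by decide +kernel)
  simpa only [ev_cons, ev_nil, List.cons_append, List.nil_append, List.getD_cons_succ, List.getD_cons_zero, mul_one, pow_succ, pow_zero, one_mul, mul_one, mul_assoc, mul_inv_rev, inv_inv] using this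
theorem uh_22 {z c k f g v w m n : G} (M : MK [z, c, k, f, g, v, v⁻¹, w, w⁻¹, m, n] uh_k uh_E1 uh_E2) :
    g * (z * f) * g = f := by
  have := M.eq' (k := 11) rfl [4, 0, 3, 4] [3] (by decide +kernel)
  simpa only [ev_cons, ev_nil, List.cons_append, List.nil_append, List.getD_cons_succ, List.getD_cons_zero, mul_one, pow_succ, pow_zero, one_mul, mul_one, mul_assoc, mul_inv_rev, inv_inv] using this
end
end H2
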